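import Groth.Agent.AbvarAmple.PhiSurjCor
import Groth.Agent.Inter.EulerFamily

/-!
# Degenerate classes have Euler characteristic zero
-/

universe u

open CategoryTheory Limits MonoidalCategory CartesianMonoidalCategory MonObj GrpObj AlgebraicGeometry
open scoped TensorProduct

namespace Groth.AbvarAmple

open Groth.Abvar Groth.Abvar.PicCalc

variable {k : Type u} [Field k] {X : Over (Spec (CommRingCat.of k))} [GrpObj X]
  [IsProper X.hom] [GeometricallyIntegral X.hom]

/-- A class with infinite stabiliser is additive along a positive dimensional abelian subvariety. -/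
theorem exists_subvariety_of_infinite_fixed [IsAlgClosed k] {G : X.left.Modules}
    (hG : PicF.IsInvertible G)
    (hdeg : {a : 𝟙_ (Over (Spec (CommRingCat.of k))) ⟶ X |
      opull (𝟙 X * (toUnit X ≫ a)) (cls hG) = cls hG}.Infinite) :
    ∃ (B : Over (Spec (CommRingCat.of k))) (_ : GrpObj B) (j : B ⟶ X), IsMonHom j ∧
      IsClosedImmersion j.left ∧ IsProper B.hom ∧ GeometricallyIntegral B.hom ∧
      ¬ Subsingleton B.left ∧ Mumford.Additive' (cls hG) j := by
  obtain ⟨K, i, hK⟩ := Groth.ThetaRep.exists_isKL (A := X) hG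
  have : IsClosedImmersion i.left := hK.1
  have : Mono i := Over.mono_of_mono_left i
  have hiff := fun {T : Over (Spec (CommRingCat.of k))} (z : T ⟶ X) =>
    Mumford.additive'_iff G hG hK z
  have hi : Mumford.Additive' (cls hG) i := (hiff i).1 ⟨𝟙 K, Category.id_comp i⟩
  obtain ⟨instK, hiK⟩ := Groth.GrpschAbsch.NeutralSet.exists_grpObj_of_mono X i
    ((hiff η[X]).2 (by rw [MonObj.one_eq_one]; exact Mumford.Additive'.one))
    ((hiff _).2 (((hiff (fst K K ≫ i)).1 ⟨_, rfl⟩).mul ((hiff (snd K K ≫ i)).1 ⟨_, rfl⟩)))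
    ((hiff i⁻¹).2 hi.inv)
  have : IsProper K.hom := by
    rw [← Over.w i]
    infer_instance
  obtain ⟨Z, instZ, c, hc, hci, hcs, hZs, hZr⟩ := Groth.AlgGrp1.exists_reduced_subgroup_lft K
  have : IsProper Z.hom := by
    rw [← Over.w c]
    infer_instance
  obtain ⟨B, instB, b, hb, hbo, hbr, hBc⟩ := Groth.GrpschAbsch.NeutralSet.exists_neutral_openSubgroup Z
  have : IsClosedImmersion b.left :=
    IsClosedImmersion.of_isPreimmersion b.left (hbr ▸ isClosed_connectedComponent)
  have : Smooth B.hom := by
    rw [← Over.w b]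
    infer_instance
  have : IsProper B.hom := by
    rw [← Over.w b]
    infer_instance
  have : GeometricallyIntegral B.hom := Groth.AlgGrp1.geometricallyIntegral_of_smooth B
  have : IsClosedImmersion (b ≫ c ≫ i).left :=
    inferInstanceAs (IsClosedImmersion (b.left ≫ c.left ≫ i.left))
  refine ⟨B, instB, b ≫ c ≫ i, inferInstance, inferInstance, inferInstance, inferInstance,
    fun hB => hdeg ?_, (hiff _).1 ⟨b ≫ c, Category.assoc _ _ _⟩⟩
  let e := η[Z].left.base (IsLocalRing.closedPoint k)
  have he : IsOpen ({e} : Set Z.left) := by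
    have h1 : connectedComponent e = {e} := by
      refine Set.Subsingleton.eq_singleton_of_mem ?_ mem_connectedComponent
      rw [← hbr]
      exact Set.subsingleton_range _
    exact h1 ▸ Groth.GrpschAbsch.NeutralSet.isOpen_component Z e
  have hop : ∀ z : 𝟙_ (Over (Spec (CommRingCat.of k))) ⟶ Z, IsOpen ({pt z} : Set Z.left) := by
    intro z
    have hee : (𝟙 Z * (toUnit Z ≫ z⁻¹)).left.base (pt z) = e := by
      rw [← pt_translate, mul_inv_cancel]
      simp only [e, pt, MonObj.one_eq_one]
    have h2 : ∀ v, (𝟙 Z * (toUnit Z ≫ z)).left.base ((𝟙 Z * (toUnit Z ≫ z⁻¹)).left.base v) = v := by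
      intro v
      rw [← Scheme.Hom.comp_apply, ← Over.comp_left, translate_comp, inv_mul_cancel, translate_one]
      rfl
    have h : ({pt z} : Set Z.left) = (𝟙 Z * (toUnit Z ≫ z⁻¹)).left.base ⁻¹' {e} := by
      ext w
      refine ⟨?_, fun hw => ?_⟩
      · rintro rfl
        exact hee
      · rw [Set.mem_singleton_iff, ← h2 w, Set.mem_singleton_iff.1 hw, ← hee, h2]
    exact h ▸ he.preimage (𝟙 Z * (toUnit Z ≫ z⁻¹)).left.continuous
  have : CompactSpace Z.left := QuasiCompact.compactSpace_of_compactSpace Z.hom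
  have : DiscreteTopology Z.left := discreteTopology_iff_isOpen_singleton.2 fun w => by
    obtain ⟨v, hwv, hv⟩ := exists_isClosed_specializes w
    obtain ⟨z, rfl⟩ := exists_rationalPoint Z hv
    have : w = pt z := hwv.mem_open (hop z) rfl
    exact this ▸ hop z
  have : Finite Z.left := finite_of_compact_of_discrete
  refine ((Set.finite_range fun w => i.left.base (c.left.base w)).preimage
    pt_injective.injOn).subset fun a ha => ?_
  obtain ⟨y, rfl⟩ := (hiff a).2 ((fixed_iff_additive' _ a).1 ha)
  obtain ⟨w, hw⟩ := c.left.surjective (pt y)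
  exact ⟨w, by rw [pt_comp, ← hw]⟩

/-- A positive dimensional abelian variety has infinitely many rational points. -/
theorem infinite_points [IsAlgClosed k] (h : ¬ Subsingleton X.left) :
    Infinite (𝟙_ (Over (Spec (CommRingCat.of k))) ⟶ X) := by
  refine not_finite_iff_infinite.1 fun hfin => h ?_
  have := Groth.Abvar.isIntegral_left X
  have hS : (Set.range fun a : 𝟙_ (Over (Spec (CommRingCat.of k))) ⟶ X => pt a).Finite :=
    Set.finite_range _
  have hc : IsClosed (Set.range fun a : 𝟙_ (Over (Spec (CommRingCat.of k))) ⟶ X => pt a) := by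
    rw [← Set.iUnion_singleton_eq_range]
    refine isClosed_iUnion_of_finite fun a => ?_
    have : IsClosedImmersion a.left := isClosedImmersion_of_comp_eq_id X.hom a.left (Over.w a)
    rw [← range_eq a]
    exact a.left.isClosedEmbedding.isClosed_range
  by_cases hg : genericPoint X.left ∈ Set.range fun a : 𝟙_ (Over (Spec (CommRingCat.of k))) ⟶ X => pt a
  · obtain ⟨a, ha⟩ := hg
    have : IsClosedImmersion a.left := isClosedImmersion_of_comp_eq_id X.hom a.left (Over.w a)
    have hcl : IsClosed ({genericPoint X.left} : Set X.left) := by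
      rw [← ha, ← range_eq a]
      exact a.left.isClosedEmbedding.isClosed_range
    have hu : ({genericPoint X.left} : Set X.left) = Set.univ :=
      (hcl.closure_eq.symm.trans (genericPoint_spec X.left).def)
    exact Set.subsingleton_univ_iff.1 (hu ▸ Set.subsingleton_singleton)
  · obtain ⟨s, hs⟩ := exists_point_mem X hc.isOpen_compl ⟨_, hg⟩
    exact absurd ⟨s, rfl⟩ hs

/-- A class additive along an abelian subvariety on which it is nontrivial has no cohomology. -/
theorem subsingleton_HH_of_additive_sub {B : Over (Spec (CommRingCat.of k))} [GrpObj B]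
    [IsProper B.hom] [GeometricallyIntegral B.hom] (j : B ⟶ X) [IsMonHom j]
    {G : X.left.Modules} (hG : PicF.IsInvertible G) (h : Mumford.Additive' (cls hG) j)
    (hne : opull j (cls hG) ≠ 1) (n : ℕ) : Subsingleton (Coh.HH X.left G n) := by
  let M := (Scheme.Modules.pullback j.left).obj G
  have hM : PicF.IsInvertible M := PicLoc.isInvertible_pullback _ hG
  have hMc : cls hM = opull j (cls hG) := (pull_cls _ hG).symm
  have hMadd : opull (fst B B * snd B B) (cls hM) =
      opull (fst B B) (cls hM) * opull (snd B B) (cls hM) := by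
    have e := congrArg (opull (lift (fst B B ≫ j) (snd B B))) h
    simp only [map_mul, ← opull_comp, MonObj.comp_mul, lift_fst, lift_snd_assoc] at e
    rw [hMc, ← opull_comp, ← opull_comp, ← opull_comp, MonObj.mul_comp]
    exact e
  have hMvan := subsingleton_HH_of_additive hM hMadd (hMc ▸ hne)
  let O := Coh.structureModule B.left
  have hO : PicF.IsInvertible O := PicLoc.isInvertible_structureModule _
  let : X.left.Over (Spec (CommRingCat.of k)) := ⟨X.hom⟩
  let : B.left.Over (Spec (CommRingCat.of k)) := ⟨B.hom⟩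
  have : IsLocallyNoetherian X.left := LocallyOfFiniteType.isLocallyNoetherian X.hom
  have : IsLocallyNoetherian B.left := LocallyOfFiniteType.isLocallyNoetherian B.hom
  have : G.IsQuasicoherent := (EulerDeg.isCoh_of_isInvertible hG).1
  have : M.IsQuasicoherent := (EulerDeg.isCoh_of_isInvertible hM).1
  have : O.IsQuasicoherent := (EulerDeg.isCoh_of_isInvertible hO).1
  have : CompactSpace X.left := CohFin.compactSpace_of_proper X.hom
  have : X.left.IsSeparated := CohFin.isSeparated_of_proper X.hom
  have : CompactSpace B.left := CohFin.compactSpace_of_proper B.hom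
  have : B.left.IsSeparated := CohFin.isSeparated_of_proper B.hom
  obtain ⟨C⟩ := CohBase.exists_goodCover X.left
  obtain ⟨D⟩ := CohBase.exists_goodCover B.left
  have hsq : IsPullback (fst X B).left (snd X B).left (X.left ↘ Spec (CommRingCat.of k))
      (B.left ↘ Spec (CommRingCat.of k)) := IsPullback.of_hasPullback X.hom B.hom
  have hfl := Inter.isFlatOver_field k (X.left ↘ Spec (CommRingCat.of k)) G
  obtain ⟨e₁⟩ := CohBase.Kunneth.nonempty_kunneth C D _ _ hsq G M hfl (fun _ => inferInstance) n
  obtain ⟨e₂⟩ := CohBase.Kunneth.nonempty_kunneth C D _ _ hsq G O hfl (fun _ => inferInstance) n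
  have hs : ∀ pq : Finset.HasAntidiagonal.antidiagonal n,
      Subsingleton (Coh.HH X.left G pq.1.1 ⊗[k] Coh.HH B.left M pq.1.2) := fun pq => by
    have := hMvan pq.1.2
    infer_instance
  have h1 := PicLoc.isInvertible_pullback (fst X B).left hG
  have h2 := PicLoc.isInvertible_pullback (snd X B).left hM
  have h3 := PicLoc.isInvertible_pullback (snd X B).left hO
  have hGM : Subsingleton (Coh.HH (X ⊗ B).left (CohB1.tensorMod
      ((Scheme.Modules.pullback (fst X B).left).obj G)
      ((Scheme.Modules.pullback (snd X B).left).obj M)) n) :=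
    e₁.toEquiv.subsingleton
  let σ : X ⊗ B ⟶ X ⊗ B := lift (fst X B * (snd X B ≫ j)) (snd X B)
  let τ : X ⊗ B ⟶ X ⊗ B := lift (fst X B * (snd X B ≫ j)⁻¹) (snd X B)
  have hστ : σ ≫ τ = 𝟙 _ := by
    apply CartesianMonoidalCategory.hom_ext <;>
      simp [σ, τ, MonObj.comp_mul, GrpObj.comp_inv, _root_.mul_assoc]
  have hτσ : τ ≫ σ = 𝟙 _ := by
    apply CartesianMonoidalCategory.hom_ext <;>
      simp [σ, τ, MonObj.comp_mul, _root_.mul_assoc]
  have : IsIso σ := ⟨τ, hστ, hτσ⟩
  have : IsIso σ.left := (inferInstance : IsIso ((Over.forget _).map σ))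
  have hiso : Nonempty ((Scheme.Modules.pullback σ.left).obj (CohB1.tensorMod
      ((Scheme.Modules.pullback (fst X B).left).obj G)
      ((Scheme.Modules.pullback (snd X B).left).obj O)) ≅ CohB1.tensorMod
      ((Scheme.Modules.pullback (fst X B).left).obj G)
      ((Scheme.Modules.pullback (snd X B).left).obj M)) := by
    rw [nonempty_iso_iff (PicLoc.isInvertible_pullback _ (isInvertible_tensorMod h1 h3))
      (isInvertible_tensorMod h1 h2), ← pull_cls _ (isInvertible_tensorMod h1 h3),
      cls_tensorMod h1 h3, cls_tensorMod h1 h2, ← pull_cls _ hG, ← pull_cls _ hM, ← pull_cls _ hO,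
      show cls hO = 1 from PicGrp.cls_structureModule_eq_one, map_one, _root_.mul_one]
    show opull σ (opull (fst X B) (cls hG)) = opull (fst X B) (cls hG) * opull (snd X B) (cls hM)
    rw [← opull_comp, lift_fst, h, hMc, ← opull_comp]
  have hGO : Subsingleton (Coh.HH (X ⊗ B).left (CohB1.tensorMod
      ((Scheme.Modules.pullback (fst X B).left).obj G)
      ((Scheme.Modules.pullback (snd X B).left).obj O)) n) :=
    (subsingleton_HH_pullback_iff σ.left (X ⊗ B).hom _ _).1
      (PnCoh.subsingleton_HH_of_iso (X ⊗ B).hom hiso.some.symm hGM)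
  have hsum := @Equiv.subsingleton _ _ e₂.symm.toEquiv hGO
  have htop : Subsingleton (Coh.HH X.left G n ⊗[k] Coh.HH B.left O 0) :=
    (DirectSum.of_injective (β := fun pq : Finset.HasAntidiagonal.antidiagonal n =>
      Coh.HH X.left G pq.1.1 ⊗[k] Coh.HH B.left O pq.1.2)
      ⟨(n, 0), Finset.HasAntidiagonal.mem_antidiagonal.2 (Nat.add_zero _)⟩).subsingleton
  have : Nontrivial (Coh.HH B.left O 0) := nontrivial_HH_structure
  exact Module.FaithfullyFlat.rTensor_reflects_triviality k (Coh.HH B.left O 0) _

/-- A degenerate class has Euler characteristic zero. -/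
theorem euler_eq_zero_of_degenerate [IsAlgClosed k] {L : X.left.Modules}
    (hL : PicF.IsInvertible L)
    (hdeg : {a : 𝟙_ (Over (Spec (CommRingCat.of k))) ⟶ X |
      opull (𝟙 X * (toUnit X ≫ a)) (cls hL) = cls hL}.Infinite) :
    @Curv2.euler k _ X.left ⟨X.hom⟩ L = 0 := by
  let : X.left.Over (Spec (CommRingCat.of k)) := ⟨X.hom⟩
  have : IsProper (X.left ↘ Spec (CommRingCat.of k)) := ‹IsProper X.hom›
  obtain ⟨B, instB, j, hj, hjc, hBp, hBg, hBn, hadd⟩ := exists_subvariety_of_infinite_fixed hL hdeg
  have hzero : ∀ {G : X.left.Modules} (hG : PicF.IsInvertible G), Mumford.Additive' (cls hG) j →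
      opull j (cls hG) ≠ 1 → Curv2.euler k X.left G = 0 := by
    intro G hG ha hne
    have hv := subsingleton_HH_of_additive_sub j hG ha hne
    unfold Curv2.euler
    refine finsum_eq_zero_of_forall_eq_zero fun i => ?_
    have := hv i
    simp [Module.finrank_zero_of_subsingleton]
  by_cases h1 : opull j (cls hL) = 1
  swap
  · exact hzero hL hadd h1
  obtain ⟨A, hA⟩ := Groth.AbVarMul.exists_isAmple (A := X)
  let c := cls hA.1
  have hjA := Groth.Chow.isAmple_pullback_of_isAffineHom j.left hA
  have hcB : cls hjA.1 = opull j c := (pull_cls _ hA.1).symm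
  have := infinite_points hBn
  obtain ⟨y, hy⟩ := (finite_fixed hjA).exists_notMem
  obtain ⟨P, hP, hPc⟩ := PicGrp.exists_eq_cls (opull (𝟙 X * (toUnit X ≫ (y ≫ j))) c / c)
  have hPc' : cls hP = opull (𝟙 X * (toUnit X ≫ (y ≫ j))) c / c := hPc.symm
  have hPinv : ∀ a : 𝟙_ (Over (Spec (CommRingCat.of k))) ⟶ X,
      opull (𝟙 X * (toUnit X ≫ a)) (cls hP) = cls hP := fun a => by
    rw [hPc']
    exact translate_div_invariant _ _ a
  have hjP : opull j (cls hP) ≠ 1 := by
    have ht : j ≫ (𝟙 X * (toUnit X ≫ (y ≫ j))) = (𝟙 B * (toUnit B ≫ y)) ≫ j := by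
      rw [comp_mul_const, MonObj.mul_comp, Category.id_comp, Category.assoc]
    rw [hPc', map_div, ← opull_comp, ht, opull_comp, ← hcB, Ne, div_eq_one]
    exact hy
  have hT := isInvertible_tensorMod hL hP
  rw [← Inter.euler_tensor_of_isAlgEquivZero k X.left (isAlgEquivZero_of_invariant hP hPinv)
    (EulerDeg.isCoh_of_isInvertible hL)]
  refine hzero hT ?_ ?_
  · show _ = _
    rw [cls_tensorMod hL hP, map_mul, map_mul, map_mul, hadd,
      Cube.opull_add_of_invariant (cls hP) hPinv]
    ac_rfl
  · rw [cls_tensorMod hL hP, map_mul, h1, _root_.one_mul]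
    exact hjP

end Groth.AbvarAmple
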