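import Mathlib.RingTheory.Regular.RegularSequence
import Mathlib.RingTheory.Regular.Flat
import Mathlib.RingTheory.Localization.AtPrime.Basic
import Mathlib.RingTheory.Flat.Localization
import Mathlib.RingTheory.Nilpotent.Lemmas
import Mathlib.RingTheory.Support
import Mathlib.RingTheory.RegularLocalRing.Defs
import Groth.Agent.Smt.RegularLocal

/-!
# Exactness below the dimension of complexes of flat modules with punctual cohomology
-/

universe u v

open RingTheory.Sequence
open scoped TensorProduct Pointwise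

namespace Groth.AbvarAmple

section Seq

variable {R : Type u} [CommRing R]

/-- The boundaries of a sequence of maps, with nothing before degree zero. -/
def cBd {C : ℕ → Type v} [∀ n, AddCommGroup (C n)] [∀ n, Module R (C n)]
    (d : ∀ n, C n →ₗ[R] C (n + 1)) : ∀ n, Submodule R (C n)
  | 0 => ⊥
  | n + 1 => LinearMap.range (d n)

/-- Cycles killed by powers of each member of a sequence regular on every term are boundaries
below the length of the sequence. -/
theorem mem_cBd_of_regular : ∀ (xs : List R) (C : ℕ → Type v) [∀ n, AddCommGroup (C n)]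
    [∀ n, Module R (C n)] (d : ∀ n, C n →ₗ[R] C (n + 1)), (∀ n z, d (n + 1) (d n z) = 0) →
    (∀ n, IsWeaklyRegular (C n) xs) →
    (∀ n (z : C n), d n z = 0 → ∀ x ∈ xs, ∃ N : ℕ, x ^ N • z ∈ cBd d n) →
    ∀ p, p < xs.length → ∀ z : C p, d p z = 0 → z ∈ cBd d p := by
  intro xs
  induction xs with
  | nil => intro C _ _ d _ _ _ p hp; exact absurd hp (Nat.not_lt_zero p)
  | cons x xs ih =>
    intro C _ _ d hd hreg hkill p hp z hz
    have hx : ∀ n, IsSMulRegular (C n) x := fun n => ((isWeaklyRegular_cons_iff _ x xs).1 (hreg n)).1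
    cases p with
    | zero =>
      obtain ⟨N, hN⟩ := hkill 0 z hz x List.mem_cons_self
      exact (Submodule.mem_bot R).2 ((hx 0).pow N ((Submodule.mem_bot R).1 hN |>.trans (smul_zero _).symm))
    | succ p =>
      let D : ℕ → Type v := fun n => QuotSMulTop x (C n)
      let e : ∀ n, D n →ₗ[R] D (n + 1) := fun n => QuotSMulTop.map x (d n)
      let π : ∀ n, C n →ₗ[R] D n := fun n => Submodule.mkQ _
      have hπd : ∀ n (w : C n), e n (π n w) = π (n + 1) (d n w) := fun n w => rfl
      have hπ0 : ∀ n (w : C n), π n w = 0 → ∃ a, w = x • a := fun n w hw => by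
        obtain ⟨a, -, ha⟩ := (Submodule.mem_smul_pointwise_iff_exists _ _ _).1
          ((Submodule.Quotient.mk_eq_zero _).1 hw)
        exact ⟨a, ha.symm⟩
      have hπx : ∀ n (w : C n), π n (x • w) = 0 := fun n w =>
        (Submodule.Quotient.mk_eq_zero _).2 (Submodule.smul_mem_pointwise_smul _ _ _ trivial)
      have hπb : ∀ n (w : C n), w ∈ cBd d n → π n w ∈ cBd e n := by
        intro n w hw
        cases n with
        | zero => rw [(Submodule.mem_bot R).1 hw, map_zero]; exact zero_mem _
        | succ n =>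
          obtain ⟨a, rfl⟩ := hw
          exact ⟨π n a, hπd n a⟩
      have hkill' : ∀ n (z : D n), e n z = 0 → ∀ y ∈ xs, ∃ N : ℕ, y ^ N • z ∈ cBd e n := by
        intro n z hz y hy
        obtain ⟨w, rfl⟩ := Submodule.mkQ_surjective _ z
        obtain ⟨a, ha⟩ := hπ0 _ _ ((hπd n w).symm.trans hz)
        have hda : d (n + 1) a = 0 := hx _ (by
          simp only [← map_smul, ← ha, hd, smul_zero])
        obtain ⟨N, b, hb⟩ := hkill (n + 1) a hda y (List.mem_cons_of_mem x hy)
        have hc : d n (y ^ N • w - x • b) = 0 := by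
          rw [map_sub, map_smul, map_smul, ha, hb, smul_comm, sub_self]
        obtain ⟨M, hM⟩ := hkill n _ hc y (List.mem_cons_of_mem x hy)
        refine ⟨M + N, ?_⟩
        have h' := hπb n _ hM
        rw [map_smul, map_sub, hπx, sub_zero, map_smul, smul_smul, ← pow_add] at h'
        exact h'
      suffices key : ∀ z : C (p + 1), d (p + 1) z = 0 → x • z ∈ cBd d (p + 1) → z ∈ cBd d (p + 1) by
        obtain ⟨N, hN⟩ := hkill (p + 1) z hz x List.mem_cons_self
        clear hp hkill' hπb hπ0 hπx hπd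
        induction N generalizing z with
        | zero => simpa using hN
        | succ N ihN =>
          rw [pow_succ, mul_smul] at hN
          exact key z hz (ihN (x • z) (by rw [map_smul, hz, smul_zero]) hN)
      intro z hz hzx
      obtain ⟨v, hv⟩ := hzx
      have hv' : e p (π p v) = 0 := by rw [hπd, hv, hπx]
      have hb := ih D e (fun n w => by
          obtain ⟨w, rfl⟩ := Submodule.mkQ_surjective _ w
          show π (n + 2) (d (n + 1) (d n w)) = 0
          rw [hd, map_zero])
        (fun n => ((isWeaklyRegular_cons_iff _ x xs).1 (hreg n)).2) hkill' p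
        (by simpa using Nat.lt_of_succ_lt_succ hp) _ hv'
      obtain ⟨u, hu⟩ : ∃ u, d p v = x • d p u := by
        cases p with
        | zero =>
          obtain ⟨u, rfl⟩ := hπ0 0 v ((Submodule.mem_bot R).1 hb)
          exact ⟨u, map_smul _ _ _⟩
        | succ p =>
          obtain ⟨b, hb⟩ := hb
          obtain ⟨b, rfl⟩ := Submodule.mkQ_surjective _ b
          obtain ⟨u, hu⟩ := hπ0 (p + 1) (v - d p b) (by rw [map_sub, ← hπd, sub_eq_zero]; exact hb.symm)
          exact ⟨u, by rw [← map_smul, ← hu, map_sub, hd, sub_zero]⟩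
      exact ⟨u, hx _ (hu.symm.trans hv)⟩

end Seq

section Loc

variable {A : Type u} [CommRing A] {C : ℕ → Type u} [∀ n, AddCommGroup (C n)] [∀ n, Module A (C n)]
  (d : ∀ n, C n →ₗ[A] C (n + 1))

/-- A complex of flat modules whose cohomology is killed by powers of the intersection of a finite
set of regular maximal ideals of height at least `g` is exact below degree `g`. -/
theorem mem_cBd_of_finite_support (hd : ∀ n z, d (n + 1) (d n z) = 0) [∀ n, Module.Flat A (C n)]
    (T : Finset (Ideal A)) (hT : ∀ m ∈ T, m.IsMaximal)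
    (hkill : ∀ n (z : C n), d n z = 0 → ∀ a : A, (∀ m ∈ T, a ∈ m) → ∃ N : ℕ, a ^ N • z ∈ cBd d n)
    (g : ℕ) (hreg : ∀ (m : Ideal A) (_ : m.IsMaximal), m ∈ T →
      IsRegularLocalRing (Localization.AtPrime m) ∧
        ringKrullDim (Localization.AtPrime m) = (g : WithBot ℕ∞))
    (p : ℕ) (hp : p < g) (z : C p) (hz : d p z = 0) : z ∈ cBd d p := by
  classical
  let J : Ideal A := (cBd d p).colon {z}
  suffices hJ : J = ⊤ by
    have : (1 : A) ∈ J := hJ ▸ trivial
    simpa using Submodule.mem_colon_singleton.1 this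
  by_contra hne
  obtain ⟨m, hm, hJm⟩ := Ideal.exists_le_maximal J hne
  suffices hs : ∃ s ∉ m, s • z ∈ cBd d p by
    obtain ⟨s, hs, hsz⟩ := hs
    exact hs (hJm (Submodule.mem_colon_singleton.2 hsz))
  by_cases hmT : m ∈ T
  swap
  · -- outside the finite set the cohomology vanishes
    have : ∀ m' ∈ T, ∃ a ∈ m', a ∉ m := fun m' hm' => by
      by_contra! h
      exact hmT ((hT m' hm').eq_of_le hm.ne_top h ▸ hm')
    choose a ha ha' using this
    let b := ∏ q ∈ T.attach, a q.1 q.2
    obtain ⟨N, hN⟩ := hkill p z hz b fun q hq =>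
      (q.prod_mem (Finset.mem_attach T ⟨q, hq⟩) (ha q hq) : _)
    exact ⟨b ^ N, fun h => by
      obtain ⟨q, -, hq⟩ := (hm.isPrime.prod_mem_iff).1 (hm.isPrime.mem_of_pow_mem N h)
      exact ha' q.1 q.2 hq, hN⟩
  -- an element outside `m` in all other members
  have : ∀ m' ∈ T.erase m, ∃ a ∈ m', a ∉ m := fun m' hm' => by
    obtain ⟨hne', hm'⟩ := Finset.mem_erase.1 hm'
    by_contra! h
    exact hne' ((hT m' hm').eq_of_le hm.ne_top h)
  choose a ha ha' using this
  let b := ∏ q ∈ (T.erase m).attach, a q.1 q.2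
  have hbm : b ∉ m := fun h => by
    obtain ⟨q, -, hq⟩ := (hm.isPrime.prod_mem_iff).1 h
    exact ha' q.1 q.2 hq
  obtain ⟨hR, hdim⟩ := hreg m hm hmT
  obtain ⟨xs, hxs, hmem, hlen⟩ := Groth.Smt.exists_isWeaklyRegular_of_isRegularLocalRing
    (Localization.AtPrime m)
  have hlen' : xs.length = g := by
    have h := hlen.trans hdim
    exact_mod_cast h
  let Cm : ℕ → Type u := fun n => LocalizedModule m.primeCompl (C n)
  let dm : ∀ n, Cm n →ₗ[Localization.AtPrime m] Cm (n + 1) := fun n =>
    LocalizedModule.map m.primeCompl (d n)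
  let mk : ∀ n, C n →ₗ[A] Cm n := fun n => LocalizedModule.mkLinearMap m.primeCompl (C n)
  have hmk : ∀ n (w : C n), dm n (mk n w) = mk (n + 1) (d n w) := fun n w =>
    IsLocalizedModule.map_apply m.primeCompl (mk n) (mk (n + 1)) (d n) w
  have hden : ∀ n (w : Cm n), ∃ (w₀ : C n) (s : m.primeCompl), (s : A) • w = mk n w₀ := fun n w => by
    obtain ⟨⟨w₀, s⟩, h⟩ := IsLocalizedModule.surj m.primeCompl (mk n) w
    exact ⟨w₀, s, h⟩
  have hbd : ∀ n (w : C n), w ∈ cBd d n → mk n w ∈ cBd dm n := by
    intro n w hw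
    cases n with
    | zero => rw [(Submodule.mem_bot A).1 hw, map_zero]; exact zero_mem _
    | succ n =>
      obtain ⟨c, rfl⟩ := hw
      exact ⟨mk n c, hmk n c⟩
  have hunit : ∀ {n : ℕ} (s : m.primeCompl) (w : Cm n), (s : A) • w ∈ cBd dm n → w ∈ cBd dm n := by
    intro n s w h
    rw [← algebraMap_smul (Localization.AtPrime m)] at h
    exact (Submodule.smul_mem_iff_of_isUnit _ (IsLocalization.map_units _ s)).1 h
  have hz' : dm p (mk p z) = 0 := by rw [hmk, hz, map_zero]
  have hmz : mk p z ∈ cBd dm p := by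
    refine mem_cBd_of_regular xs Cm dm (fun n w => ?_) (fun n => ?_) (fun n w hw x hx => ?_) p
      (hlen' ▸ hp) _ hz'
    · obtain ⟨w₀, s, h⟩ := hden n w
      have h0 : (s : A) • dm (n + 1) (dm n w) = 0 := by
        rw [← LinearMap.map_smul_of_tower, ← LinearMap.map_smul_of_tower, h, hmk, hmk, hd, map_zero]
      exact IsLocalizedModule.smul_injective (mk (n + 2)) s (h0.trans (smul_zero _).symm)
    · have : Module.Flat (Localization.AtPrime m) (Cm n) :=
        Module.Flat.of_isLocalizedModule (Localization.AtPrime m) m.primeCompl (mk n)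
      exact ((TensorProduct.rid (Localization.AtPrime m) (Cm n)).isWeaklyRegular_congr xs).1
        hxs.isWeaklyRegular_lTensor
    · obtain ⟨w₀, s, h⟩ := hden n w
      obtain ⟨⟨a₀, t⟩, hx'⟩ := IsLocalization.surj m.primeCompl x
      have ha₀ : a₀ ∈ m := by
        rw [← IsLocalization.AtPrime.to_map_mem_maximal_iff (Localization.AtPrime m) m, ← hx']
        exact Ideal.mul_mem_right _ _ (hmem x hx)
      have hd0 : mk (n + 1) (d n w₀) = 0 := by
        rw [← hmk, ← h, LinearMap.map_smul_of_tower, hw, smul_zero]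
      obtain ⟨v, hv⟩ := (IsLocalizedModule.eq_zero_iff m.primeCompl (mk (n + 1))).1 hd0
      obtain ⟨N, hN⟩ := hkill n ((v : A) • w₀) (by rw [map_smul]; exact hv) (a₀ * b) fun q hq => by
        by_cases hqm : q = m
        · exact hqm ▸ m.mul_mem_right _ ha₀
        · exact q.mul_mem_left _ (q.prod_mem (Finset.mem_attach _
            ⟨q, Finset.mem_erase.2 ⟨hqm, hq⟩⟩) (ha q _))
      refine ⟨N, ?_⟩
      have h1 := hbd n _ hN
      rw [map_smul, map_smul, ← h, smul_smul, smul_smul,
        ← algebraMap_smul (Localization.AtPrime m)] at h1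
      refine hunit ⟨(t : A) ^ N * (b ^ N * ((v : A) * (s : A))),
        m.primeCompl.mul_mem (m.primeCompl.pow_mem t.2 N) (m.primeCompl.mul_mem
          (m.primeCompl.pow_mem hbm N) (m.primeCompl.mul_mem v.2 s.2))⟩ _ ?_
      rw [← algebraMap_smul (Localization.AtPrime m), smul_smul]
      convert h1 using 2
      simp only [map_mul, map_pow, ← hx']
      ring
  cases p with
  | zero =>
    obtain ⟨c, hc⟩ := (IsLocalizedModule.eq_zero_iff m.primeCompl (mk 0)).1 ((Submodule.mem_bot _).1 hmz)
    exact ⟨c, c.2, by rw [show (c : A) • z = 0 from hc]; exact zero_mem _⟩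
  | succ p =>
    obtain ⟨w, hw⟩ := hmz
    obtain ⟨w₀, s, h⟩ := hden p w
    have h0 : mk (p + 1) ((s : A) • z - d p w₀) = 0 := by
      rw [map_sub, map_smul, ← hw, ← hmk, ← h, LinearMap.map_smul_of_tower, sub_self]
    obtain ⟨c, hc⟩ := (IsLocalizedModule.eq_zero_iff m.primeCompl (mk (p + 1))).1 h0
    refine ⟨(c : A) * s, m.primeCompl.mul_mem c.2 s.2, (c : A) • w₀, ?_⟩
    rw [mul_smul, map_smul]
    exact (sub_eq_zero.1 ((smul_sub (c : A) _ _).symm.trans hc)).symm

end Loc

end Groth.AbvarAmple
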