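import Groth.Agent.AbvarAmple.FibreAcyclic
import Groth.Agent.AbvarAmple.SupportExact

/-!
# Families with punctual higher direct images over a regular base
-/

universe u

open CategoryTheory Limits TopologicalSpace Opposite AlgebraicGeometry
open CategoryTheory.Abelian (Ext)

namespace Groth.AbvarAmple

open Groth.CohBase Groth.CohBase.CxRank Groth.FlatCxBase

section Space

variable {X : TopCat.{u}} {F : AbSheaf X} {U V : Opens X}

theorem hVanish_sup_of_left (hU : ∀ n, HVanish F n U) (hI : ∀ n, HVanish F n (U ⊓ V)) :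
    ∀ n, HVanish F n V → HVanish F n (U ⊔ V)
  | n + 1, hV => hVanish_sup (hI n) (hU _) hV
  | 0, hV => by
    have hS := (Opens.mayerVietorisSquare U V).shortComplex_shortExact
    have hb : Subsingleton (Ext (Opens.mayerVietorisSquare U V).shortComplex.X₂ F 0) := by
      have : Subsingleton (Ext (freeOpen U) F 0) := hU 0
      have : Subsingleton (Ext (freeOpen V) F 0) := hV
      exact (Ext.biprodAddEquiv (X₁ := freeOpen U) (X₂ := freeOpen V)).toEquiv.subsingleton
    refine subsingleton_of_forall_eq 0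
      fun (x : Ext (Opens.mayerVietorisSquare U V).shortComplex.X₃ F 0) => ?_
    obtain ⟨φ, rfl⟩ := Ext.addEquiv₀.symm.surjective x
    have h0 : (Ext.mk₀ (Opens.mayerVietorisSquare U V).shortComplex.g).comp (Ext.mk₀ φ)
        (zero_add 0) = 0 := hb.elim _ _
    rw [Ext.mk₀_comp_mk₀] at h0
    have hφ : φ = 0 := by
      have := hS.epi_g
      rw [← cancel_epi (Opens.mayerVietorisSquare U V).shortComplex.g, Limits.comp_zero]
      exact (Ext.mk₀_bijective _ _).1 (h0.trans (Ext.mk₀_zero _ _).symm)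
    rw [hφ, map_zero]
    rfl

end Space

section Model

variable {A : Type u} [CommRing A] [IsNoetherianRing A] (L : CochainComplex (ModuleCat.{u} A) ℤ)

/-- The terms of a model, cut off below degree zero. -/
def cutX : ℕ → ModuleCat.{u} A
  | 0 => ModuleCat.of A (Qc L 0)
  | n + 1 => L.X ((n + 1 : ℕ) : ℤ)

/-- The differentials of a model, cut off below degree zero. -/
noncomputable def cutD : ∀ n, cutX L n →ₗ[A] cutX L (n + 1)
  | 0 => dBar L (0 - 1) 0 ((0 + 1 : ℕ) : ℤ)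
  | n + 1 => (L.d ((n + 1 : ℕ) : ℤ) ((n + 1 + 1 : ℕ) : ℤ)).hom

/-- The projection of a model on its cut off. -/
def cutπ : ∀ n : ℕ, L.X (n : ℤ) →ₗ[A] cutX L n
  | 0 => cokerπ L (0 - 1) 0
  | _ + 1 => LinearMap.id

omit [IsNoetherianRing A] in
lemma cutπ_surjective : ∀ n : ℕ, Function.Surjective (cutπ L n)
  | 0 => Submodule.mkQ_surjective _
  | _ + 1 => Function.surjective_id

omit [IsNoetherianRing A] in
lemma cutD_cutπ : ∀ (n : ℕ) (w : L.X (n : ℤ)),
    cutD L n (cutπ L n w) = cutπ L (n + 1) ((L.d (n : ℤ) ((n + 1 : ℕ) : ℤ)).hom w)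
  | 0, w => LinearMap.congr_fun (dBar_comp L (0 - 1) 0 ((0 + 1 : ℕ) : ℤ)) w
  | _ + 1, _ => rfl

omit [IsNoetherianRing A] in
lemma cutD_cutD (n : ℕ) (z : cutX L n) : cutD L (n + 1) (cutD L n z) = 0 := by
  obtain ⟨w, rfl⟩ := cutπ_surjective L n z
  rw [cutD_cutπ, cutD_cutπ]
  exact (congrArg (cutπ L (n + 1 + 1)) (ConcreteCategory.congr_hom (L.d_comp_d _ _ _) w)).trans
    (map_zero _)

omit [IsNoetherianRing A] in
lemma cutπ_mem_cBd_iff : ∀ (n : ℕ) (w : L.X (n : ℤ)),
    cutπ L n w ∈ cBd (R := A) (C := fun n => cutX L n) (cutD L) n ↔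
      cokerπ L ((n : ℤ) - 1) n w = 0
  | 0, w => Submodule.mem_bot A
  | n + 1, w => by
    refine Iff.trans ?_ (Submodule.Quotient.mk_eq_zero _).symm
    rw [show (((n + 1 : ℕ) : ℤ) - 1) = (n : ℤ) by omega]
    constructor
    · rintro ⟨c, hc⟩
      obtain ⟨c, rfl⟩ := cutπ_surjective L n c
      exact ⟨c, (cutD_cutπ L n c).symm.trans hc⟩
    · rintro ⟨c, hc⟩
      exact ⟨cutπ L n c, (cutD_cutπ L n c).trans hc⟩

/-- A model with punctual cohomology is exact below the dimension of a regular base. -/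
theorem subsingleton_Hk_of_finite_support [∀ i, Module.Finite A (L.X i)] [∀ i, Module.Flat A (L.X i)]
    (h0 : Module.Flat A (Qc L 0)) (T : Finset (Ideal A)) (hT : ∀ m ∈ T, m.IsMaximal)
    (hsupp : ∀ n : ℕ, ∀ q ∈ Module.support A (Hk L (n : ℤ)), q.asIdeal ∈ T)
    (g : ℕ) (hreg : ∀ (m : Ideal A) (_ : m.IsMaximal), m ∈ T →
      IsRegularLocalRing (Localization.AtPrime m) ∧
        ringKrullDim (Localization.AtPrime m) = (g : WithBot ℕ∞))
    (p : ℕ) (hp : p < g) : Subsingleton (Hk L (p : ℤ)) := by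
  have hflat : ∀ n, Module.Flat A (cutX L n) := by
    intro n
    cases n with
    | zero => exact h0
    | succ n => exact (inferInstance : Module.Flat A (L.X ((n + 1 : ℕ) : ℤ)))
  have hcyc : ∀ (n : ℕ) (w : L.X (n : ℤ)), cutD L n (cutπ L n w) = 0 ↔
      dq L (n : ℤ) (cokerπ L ((n : ℤ) - 1) n w) = 0 := by
    intro n w
    rw [cutD_cutπ]
    change _ ↔ ((dBar L ((n : ℤ) - 1) n ((n : ℤ) + 1)).comp (cokerπ L ((n : ℤ) - 1) n)) w = 0
    rw [dBar_comp]
    exact Iff.rfl
  refine subsingleton_of_forall_eq 0 fun c => Subtype.ext ?_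
  obtain ⟨w, hw⟩ := Submodule.mkQ_surjective _ c.1
  rw [← hw]
  refine (cutπ_mem_cBd_iff L p w).1 (mem_cBd_of_finite_support (C := fun n => cutX L n) (cutD L)
    (cutD_cutD L) T hT (fun n z hz a ha => ?_) g hreg p hp _
    ((hcyc p w).2 (hw.symm ▸ c.2)))
  obtain ⟨w, rfl⟩ := cutπ_surjective L n z
  have hrad : a ∈ (Module.annihilator A (Hk L (n : ℤ))).radical := by
    rw [← PrimeSpectrum.vanishingIdeal_zeroLocus_eq_radical, PrimeSpectrum.mem_vanishingIdeal]
    intro q hq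
    exact ha _ (hsupp n q ((Module.support_eq_zeroLocus (R := A) (M := Hk L (n : ℤ))).symm ▸ hq))
  obtain ⟨N, hN⟩ := hrad
  refine ⟨N, ?_⟩
  rw [← map_smul, cutπ_mem_cBd_iff, map_smul]
  exact congrArg Subtype.val (Module.mem_annihilator.1 hN
    (⟨cokerπ L ((n : ℤ) - 1) n w, (hcyc n w).1 hz⟩ : Hk L (n : ℤ)))

end Model

variable {X S : Scheme.{u}} (f : X ⟶ S) [IsProper f] [LocallyOfFinitePresentation f]
  [HasInjectiveResolutions X.Modules] {M : X.Modules} [M.IsQuasicoherent] (hM : CohB1.IsFP M)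
  (hfl : FlatMod.IsFlatOver f M)

omit [IsProper f] [LocallyOfFinitePresentation f] [HasInjectiveResolutions X.Modules] [M.IsQuasicoherent] in
lemma isMaximal_primeIdealOf {V : S.Opens} (hV : IsAffineOpen V) {z : S} (hz : z ∈ V)
    (hzc : IsClosed ({z} : Set S)) : (hV.primeIdealOf ⟨z, hz⟩).asIdeal.IsMaximal := by
  rw [← PrimeSpectrum.isClosed_singleton_iff_isMaximal]
  have he : ({hV.primeIdealOf ⟨z, hz⟩} : Set (PrimeSpectrum Γ(S, V))) = hV.fromSpec.base ⁻¹' {z} := by
    ext q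
    constructor
    · rintro rfl
      exact hV.fromSpec_primeIdealOf ⟨z, hz⟩
    · intro hq
      exact hV.fromSpec.isOpenEmbedding.injective
        (hq.trans (hV.fromSpec_primeIdealOf ⟨z, hz⟩).symm)
  exact (congrArg IsClosed he).mpr (hzc.preimage hV.fromSpec.continuous)

omit [IsProper f] [LocallyOfFinitePresentation f] [HasInjectiveResolutions X.Modules] [M.IsQuasicoherent] in
lemma regular_localization_of_stalk {V : S.Opens} (hV : IsAffineOpen V) {z : S} (hz : z ∈ V)
    (g : ℕ) (hr : IsRegularLocalRing (S.presheaf.stalk z))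
    (hd : ringKrullDim (S.presheaf.stalk z) = (g : WithBot ℕ∞)) :
    IsRegularLocalRing (Localization.AtPrime (hV.primeIdealOf ⟨z, hz⟩).asIdeal) ∧
      ringKrullDim (Localization.AtPrime (hV.primeIdealOf ⟨z, hz⟩).asIdeal) = (g : WithBot ℕ∞) := by
  let := S.presheaf.algebra_section_stalk ⟨z, hz⟩
  have := hV.isLocalization_stalk ⟨z, hz⟩
  let e : S.presheaf.stalk z ≃+* Localization.AtPrime (hV.primeIdealOf ⟨z, hz⟩).asIdeal :=
    (IsLocalization.algEquiv (hV.primeIdealOf ⟨z, hz⟩).asIdeal.primeCompl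
      (S.presheaf.stalk z) _).toRingEquiv
  exact ⟨IsRegularLocalRing.of_ringEquiv e, (ringKrullDim_eq_of_ringEquiv e).symm.trans hd⟩

include hM hfl in
lemma hVanish_preimage_of_Hk {V : S.Opens} (hV : IsAffineOpen V)
    {L : CochainComplex (ModuleCat.{u} Γ(S, V)) ℤ} (hL : IsModel f M L) (n : ℕ)
    (h : Subsingleton (Hk L (n : ℤ))) : HVanish (X := X.toTopCat) (abSheaf M) n (f ⁻¹ᵁ V) := by
  obtain ⟨e⟩ := hL.sections n
  obtain ⟨a⟩ := nonempty_toAb_Rpush_iso f (M := M) n
  obtain ⟨b⟩ := nonempty_RpushAb_sections f (M := M) n hV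
  let c := ((sheafToPresheaf _ _ ⋙ (evaluation _ _).obj (op V)).mapIso a).addCommGroupIsoToAddEquiv
  have : Subsingleton Γ((Coh.Rpush f n).obj M, V) := e.toEquiv.subsingleton
  exact @Equiv.subsingleton _ _ (c.trans b).symm.toEquiv this

include hM hfl in
/-- A family over a regular base of dimension `g`, acyclic outside a finite set of closed points and
without cohomology above degree `g` at those points, has cohomology in degree `g` only. -/
theorem subsingleton_HH_of_exceptional [IsLocallyNoetherian S] [NoetherianSpace S] [QuasiSeparatedSpace S]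
    {Z : Set S} (hZf : Z.Finite) (hZc : ∀ z ∈ Z, IsClosed ({z} : Set S)) {V : S.Opens}
    (hV : IsAffineOpen V) (hZV : Z ⊆ V)
    (h : ∀ p, ∀ y ∉ Z, Subsingleton (CohIII.fiberH f M y p))
    (g : ℕ) (habove : ∀ p, g < p → ∀ y ∈ Z, Subsingleton (CohIII.fiberH f M y p))
    (hreg : ∀ y ∈ Z, IsRegularLocalRing (S.presheaf.stalk y) ∧
      ringKrullDim (S.presheaf.stalk y) = (g : WithBot ℕ∞))
    (n : ℕ) (hn : n ≠ g) : Subsingleton (Coh.HH X M n) := by
  classical
  have hZ : IsClosed Z := by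
    rw [← Set.biUnion_of_singleton Z]
    exact hZf.isClosed_biUnion hZc
  let U : S.Opens := ⟨Zᶜ, hZ.isOpen_compl⟩
  have hsup : (f ⁻¹ᵁ U) ⊔ (f ⁻¹ᵁ V) = ⊤ := top_le_iff.1 fun x _ => by
    by_cases hx : f x ∈ Z
    · exact Or.inr (hZV hx)
    · exact Or.inl hx
  have : IsNoetherianRing Γ(S, V) := IsLocallyNoetherian.component_noetherian ⟨V, hV⟩
  obtain ⟨L, hL⟩ := exists_isModel_fp f M hM hfl hV
  have := hL.finite
  have := hL.flat
  have hHk : Subsingleton (Hk L (n : ℤ)) := by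
    rcases lt_or_gt_of_ne hn with hlt | hgt
    swap
    · exact hL.subsingleton_Hk hV n fun y hy =>
        if hyZ : y ∈ Z then habove n hgt y hyZ else h n y hyZ
    have : Finite Z := hZf.to_subtype
    obtain ⟨T, hTdef⟩ : ∃ T : Finset (Ideal Γ(S, V)), ∀ m, m ∈ T ↔
        ∃ z : Z, (hV.primeIdealOf ⟨z.1, hZV z.2⟩).asIdeal = m :=
      ⟨(Set.finite_range fun z : Z => (hV.primeIdealOf ⟨z.1, hZV z.2⟩).asIdeal).toFinset,
        fun _ => Set.Finite.mem_toFinset _⟩
    refine subsingleton_Hk_of_finite_support L hL.flat_Qc_zero T (fun m hm => ?_) (fun q y hy => ?_)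
      g (fun m hm hmT => ?_) n hlt
    · obtain ⟨z, rfl⟩ := (hTdef m).1 hm
      exact isMaximal_primeIdealOf hV _ (hZc z.1 z.2)
    · obtain ⟨x, hx, rfl⟩ := exists_primeIdealOf_eq hV y
      have hxZ : x ∈ Z := by
        by_contra hxZ
        exact hL.notMem_support hV q x hx (h q x hxZ) hy
      exact (hTdef _).2 ⟨⟨x, hxZ⟩, rfl⟩
    · obtain ⟨z, rfl⟩ := (hTdef m).1 hmT
      exact regular_localization_of_stalk hV _ g (hreg z.1 z.2).1 (hreg z.1 z.2).2
  have hVn := hVanish_preimage_of_Hk f hM hfl hV hL n hHk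
  have hUall : ∀ q, HVanish (X := X.toTopCat) (abSheaf M) q (f ⁻¹ᵁ U) := fun q =>
    hVanish_preimage f hM hfl U (NoetherianSpace.isCompact _) (fun r y hy => h r y hy) q
  have hIall : ∀ q, HVanish (X := X.toTopCat) (abSheaf M) q (f ⁻¹ᵁ (U ⊓ V)) := fun q =>
    hVanish_preimage f hM hfl (U ⊓ V) (NoetherianSpace.isCompact _) (fun r y hy => h r y hy.1) q
  rw [Scheme.Hom.preimage_inf] at hIall
  have hs := hVanish_sup_of_left (X := X.toTopCat) (U := f ⁻¹ᵁ U) (V := f ⁻¹ᵁ V) hUall hIall n hVn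
  rw [hsup] at hs
  exact @Equiv.subsingleton _ _ (equivHTop (abSheaf M) n).toEquiv hs

end Groth.AbvarAmple
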