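import Groth.Agent.AbvarAmple.AmpleVanish
import Groth.Agent.AbvarAmple.ModelVanish
import Groth.Agent.AbVarMul.PTorsionCount
import Groth.Agent.Inter.Vanishing
import Groth.Agent.AbvarAmple.Degenerate
import Groth.Agent.HilbStab.BC.CurvBC
import Groth.Agent.CohFin.Proper
import Groth.Agent.FibreDim.BaseChange

/-!
# The index of a nondegenerate class
-/

universe u

open CategoryTheory Limits MonoidalCategory CartesianMonoidalCategory MonObj GrpObj AlgebraicGeometry
open scoped TensorProduct

namespace Groth.AbvarAmple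

open Groth.Abvar Groth.Abvar.PicCalc

variable {k : Type u} [Field k] [IsAlgClosed k] {X : Over (Spec (CommRingCat.of k))} [GrpObj X]
  [IsProper X.hom] [GeometricallyIntegral X.hom]

/-- Cohomology of an abelian variety vanishes above its dimension. -/
theorem subsingleton_HH_of_dim_lt {g : ℕ} (hg : topologicalKrullDim X.left = g) (M : X.left.Modules)
    {p : ℕ} (hp : g < p) : Subsingleton (Coh.HH X.left M p) := by
  have : IsLocallyNoetherian X.left := LocallyOfFiniteType.isLocallyNoetherian X.hom
  have : CompactSpace X.left := CohFin.compactSpace_of_proper X.hom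
  have : IsNoetherian X.left := {}
  have : TopologicalSpace.NoetherianSpace X.left.toTopCat := inferInstanceAs (TopologicalSpace.NoetherianSpace X.left)
  exact Inter.Vanishing.subsingleton_H_of_dim_le (X := X.left.toTopCat) hg.le _ p hp

/-- For a nondegenerate class the cohomology of the class and of its inverse pair up in total
degree the dimension only. -/
theorem subsingleton_HH_pair {g : ℕ} (hg : topologicalKrullDim X.left = g) {L L' : X.left.Modules}
    (hL : PicF.IsInvertible L) (hL' : PicF.IsInvertible L') (hLL'' : cls hL' = (cls hL)⁻¹)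
    (hfix : {a : 𝟙_ (Over (Spec (CommRingCat.of k))) ⟶ X |
      opull (𝟙 X * (toUnit X ≫ a)) (cls hL) = cls hL}.Finite) {a b : ℕ} (hab : a + b ≠ g) :
    Subsingleton (Coh.HH X.left L a) ∨ Subsingleton (Coh.HH X.left L' b) := by
  have := Groth.GrpschAbsch.isCommMonObj_of_isProper X
  have := Groth.Abvar.isIntegral_left X
  let : X.left.Over (Spec (CommRingCat.of k)) := ⟨X.hom⟩
  have : IsLocallyNoetherian X.left := LocallyOfFiniteType.isLocallyNoetherian X.hom
  have : L.IsQuasicoherent := (EulerDeg.isCoh_of_isInvertible hL).1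
  have : L'.IsQuasicoherent := (EulerDeg.isCoh_of_isInvertible hL').1
  have : CompactSpace X.left := CohFin.compactSpace_of_proper X.hom
  have : IsNoetherian X.left := {}
  have : X.left.IsSeparated := CohFin.isSeparated_of_proper X.hom
  obtain ⟨C⟩ := CohBase.exists_goodCover X.left
  have hq : IsPullback (fst X X).left (snd X X).left X.hom X.hom := IsPullback.of_hasPullback _ _
  obtain ⟨N, hN, hNc⟩ := PicGrp.exists_eq_cls
    (opull (fst X X * snd X X) (cls hL) * opull (snd X X) (cls hL'))
  have hNc' : cls hN = opull (fst X X * snd X X) (cls hL) * opull (snd X X) (cls hL') := hNc.symm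
  have h1 := PicLoc.isInvertible_pullback (fst X X).left hL
  have h2 := PicLoc.isInvertible_pullback (snd X X).left hL'
  let σ : X ⊗ X ⟶ X ⊗ X := lift (fst X X * snd X X) (snd X X)
  let τ : X ⊗ X ⟶ X ⊗ X := lift (fst X X * (snd X X)⁻¹) (snd X X)
  have hστ : σ ≫ τ = 𝟙 _ := by
    apply CartesianMonoidalCategory.hom_ext <;>
      simp [σ, τ, MonObj.comp_mul, GrpObj.comp_inv, _root_.mul_assoc]
  have hτσ : τ ≫ σ = 𝟙 _ := by
    apply CartesianMonoidalCategory.hom_ext <;>
      simp [σ, τ, MonObj.comp_mul, _root_.mul_assoc]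
  have : IsIso σ := ⟨τ, hστ, hτσ⟩
  have : IsIso σ.left := (inferInstance : IsIso ((Over.forget _).map σ))
  have : IsProper (fst X X).left := MorphismProperty.of_isPullback hq.flip ‹IsProper X.hom›
  have : Flat (fst X X).left := MorphismProperty.of_isPullback hq.flip (inferInstance : Flat X.hom)
  have : LocallyOfFinitePresentation (fst X X).left :=
    MorphismProperty.of_isPullback hq.flip (inferInstance : LocallyOfFinitePresentation X.hom)
  have : IsLocallyNoetherian (X ⊗ X).left :=
    have : LocallyOfFiniteType (fst X X).left :=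
      inferInstanceAs (LocallyOfFiniteType (pullback.fst X.hom X.hom))
    LocallyOfFiniteType.isLocallyNoetherian (fst X X).left
  have hcoh := EulerDeg.isCoh_of_isInvertible hN
  have : N.IsQuasicoherent := hcoh.1
  have hFP := Groth.FlatStrata.isFP_of_isCoh hcoh
  have hflat₁ := Seesaw.isFlatOver_of_isInvertible (fst X X).left hN
  have hsq₁ : ∀ x : 𝟙_ (Over (Spec (CommRingCat.of k))) ⟶ X,
      IsPullback (lift (toUnit X ≫ x) (𝟙 X)).left X.hom (fst X X).left x.left := by
    intro x
    refine IsPullback.of_right (t := hq.flip) (p := ?_) (s := ?_)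
    rotate_left
    · refine (congrArg Over.Hom.left (lift_fst (toUnit X ≫ x) (𝟙 X))).trans ?_
      rw [Over.comp_left, Over.toUnit_left]
    · rw [show (lift (toUnit X ≫ x) (𝟙 X)).left ≫ (snd X X).left = 𝟙 _ from
        congrArg Over.Hom.left (lift_snd (toUnit X ≫ x) (𝟙 X)),
        show x.left ≫ X.hom = 𝟙 _ from Over.w x]
      exact IsPullback.of_id_fst
  have hslice : ∀ x, opull (lift (toUnit X ≫ x) (𝟙 X)) (cls hN) =
      opull (𝟙 X * (toUnit X ≫ x)) (cls hL) / cls hL := by
    intro x
    rw [hNc', map_mul, ← opull_comp, ← opull_comp, MonObj.comp_mul, lift_fst, lift_snd, opull_id,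
      hLL'', ← div_eq_mul_inv, _root_.mul_comm (toUnit X ≫ x) (𝟙 X)]
  obtain ⟨V, hV, hZV⟩ := exists_affine_superset_of_points hfix
  let Z : Set X.left := pt '' {a | opull (𝟙 X * (toUnit X ≫ a)) (cls hL) = cls hL}
  have hclosed : ∀ z : 𝟙_ (Over (Spec (CommRingCat.of k))) ⟶ X, IsClosed ({pt z} : Set X.left) :=
    fun z => by
      have : IsClosedImmersion z.left := isClosedImmersion_of_comp_eq_id X.hom z.left (Over.w z)
      rw [← range_eq z]
      exact z.left.isClosedEmbedding.isClosed_range
  have hZ : IsClosed Z := by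
    have : Z = ⋃ a ∈ {a | opull (𝟙 X * (toUnit X ≫ a)) (cls hL) = cls hL}, {pt a} := by
      ext w
      simp [Z, eq_comm]
    rw [this]
    exact hfix.isClosed_biUnion fun a _ => hclosed a
  have hout : ∀ p, ∀ x ∉ Z, Subsingleton (CohIII.fiberH (fst X X).left N x p) := by
    intro p x hx
    by_contra hx'
    have := LocallyOfFiniteType.jacobsonSpace X.hom
    obtain ⟨z, ⟨hzS, hzZ⟩, hzc⟩ := nonempty_inter_closedPoints (Z := {y : X.left |
      Subsingleton (CohIII.fiberH (fst X X).left N y p)}ᶜ ∩ Zᶜ) ⟨x, hx', hx⟩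
      ((CohBase.isOpen_subsingleton_fiberH (fst X X).left hFP hflat₁ p).isClosed_compl.isLocallyClosed.inter
        hZ.isOpen_compl.isLocallyClosed)
    obtain ⟨s, rfl⟩ := exists_rationalPoint X hzc
    refine hzS ((subsingleton_fiberH_iff_of_isPullback s (hsq₁ s) N p).2 ?_)
    refine subsingleton_HH_of_invariant (PicLoc.isInvertible_pullback _ hN) (fun a => ?_) ?_ p
    · rw [← pull_cls _ hN]
      change opull _ (opull (lift (toUnit X ≫ s) (𝟙 X)) (cls hN)) = opull _ (cls hN)
      rw [hslice]
      exact translate_div_invariant _ s a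
    · rw [← pull_cls _ hN]
      change opull _ (cls hN) ≠ 1
      rw [hslice, Ne, div_eq_one]
      exact fun h => hzZ ⟨s, h, rfl⟩
  have hregpt : ∀ y ∈ Z, IsRegularLocalRing (X.left.presheaf.stalk y) ∧
      ringKrullDim (X.left.presheaf.stalk y) = (g : WithBot ℕ∞) := by
    rintro _ ⟨z, -, rfl⟩
    exact ⟨Groth.AbVarMul.isRegularLocalRing_stalk_left (A := X) _,
      Groth.AbVarMul.ringKrullDim_stalk_pp (A := X) hg z⟩
  have hNv : Subsingleton (Coh.HH (X ⊗ X).left N (a + b)) := by
    refine subsingleton_HH_of_exceptional (fst X X).left hFP hflat₁ (hfix.image pt) ?_ hV hZV hout g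
      (fun p hp y hy => ?_) hregpt (a + b) hab
    · rintro _ ⟨z, -, rfl⟩
      exact hclosed z
    · obtain ⟨z, -, rfl⟩ := hy
      exact (subsingleton_fiberH_iff_of_isPullback z (hsq₁ z) N p).2
        (subsingleton_HH_of_dim_lt hg _ hp)
  obtain ⟨e₁⟩ := CohBase.Kunneth.nonempty_kunneth C C _ _
    (show IsPullback (fst X X).left (snd X X).left (X.left ↘ Spec (CommRingCat.of k))
      (X.left ↘ Spec (CommRingCat.of k)) from hq) L L'
    (Inter.isFlatOver_field k (X.left ↘ Spec (CommRingCat.of k)) L) (fun _ => inferInstance) (a + b)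
  have hiso : Nonempty ((Scheme.Modules.pullback σ.left).obj (CohB1.tensorMod
      ((Scheme.Modules.pullback (fst X X).left).obj L)
      ((Scheme.Modules.pullback (snd X X).left).obj L')) ≅ N) := by
    rw [nonempty_iso_iff (PicLoc.isInvertible_pullback _ (isInvertible_tensorMod h1 h2)) hN,
      ← pull_cls _ (isInvertible_tensorMod h1 h2), cls_tensorMod h1 h2, ← pull_cls _ hL,
      ← pull_cls _ hL', hNc']
    show opull σ (opull (fst X X) (cls hL) * opull (snd X X) (cls hL')) = _
    rw [map_mul, ← opull_comp, ← opull_comp, lift_fst, lift_snd]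
  have hsrc := (subsingleton_HH_pullback_iff σ.left (X ⊗ X).hom _ _).1
    (PnCoh.subsingleton_HH_of_iso (X ⊗ X).hom hiso.some.symm hNv)
  have hsum := @Equiv.subsingleton _ _ e₁.symm.toEquiv hsrc
  have htens : Subsingleton (Coh.HH X.left L a ⊗[k] Coh.HH X.left L' b) :=
    (DirectSum.of_injective (β := fun pq : Finset.HasAntidiagonal.antidiagonal (a + b) =>
      Coh.HH X.left L pq.1.1 ⊗[k] Coh.HH X.left L' pq.1.2)
      ⟨(a, b), Finset.HasAntidiagonal.mem_antidiagonal.2 rfl⟩).subsingleton
  rcases subsingleton_or_nontrivial (Coh.HH X.left L' b) with hb | hb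
  · exact Or.inr hb
  · exact Or.inl (Module.FaithfullyFlat.rTensor_reflects_triviality k (Coh.HH X.left L' b) _)

/-- A nondegenerate class has an index, and that of its inverse is complementary. -/
theorem exists_index {g : ℕ} (hg : topologicalKrullDim X.left = g) {L L' : X.left.Modules}
    (hL : PicF.IsInvertible L) (hL' : PicF.IsInvertible L') (hLL'' : cls hL' = (cls hL)⁻¹)
    (hfix : {a : 𝟙_ (Over (Spec (CommRingCat.of k))) ⟶ X |
      opull (𝟙 X * (toUnit X ≫ a)) (cls hL) = cls hL}.Finite) :
    ∃ i, i ≤ g ∧ (∀ j, j ≠ i → Subsingleton (Coh.HH X.left L j)) ∧ Nontrivial (Coh.HH X.left L i) ∧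
      (∀ j, j ≠ g - i → Subsingleton (Coh.HH X.left L' j)) ∧
      Nontrivial (Coh.HH X.left L' (g - i)) := by
  obtain ⟨i, hi⟩ := exists_nontrivial_HH_of_finite_fixed hL hfix
  obtain ⟨l, hl⟩ := exists_nontrivial_HH_of_finite_fixed hL'
    (hfix.subset fun a (ha : opull (𝟙 X * (toUnit X ≫ a)) (cls hL') = cls hL') => by
      show opull (𝟙 X * (toUnit X ≫ a)) (cls hL) = cls hL
      rwa [hLL'', map_inv, inv_inj] at ha)
  have key : ∀ a b, Nontrivial (Coh.HH X.left L a) → Nontrivial (Coh.HH X.left L' b) → a + b = g :=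
    fun a b ha hb => by_contra fun h => (subsingleton_HH_pair hg hL hL' hLL'' hfix h).elim
      (fun h' => not_subsingleton_iff_nontrivial.2 ha h') fun h' => not_subsingleton_iff_nontrivial.2 hb h'
  have hil := key i l hi hl
  refine ⟨i, by omega, fun j hj => ?_, hi, fun j hj => ?_, (show g - i = l by omega) ▸ hl⟩
  · rcases subsingleton_or_nontrivial (Coh.HH X.left L j) with h | h
    · exact h
    · have := key j l h hl
      omega
  · rcases subsingleton_or_nontrivial (Coh.HH X.left L' j) with h | h
    · exact h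
    · have := key i j hi h
      omega

/-- Concentrated nonzero cohomology forces nondegeneracy. -/
theorem finite_fixed_of_concentrated {L : X.left.Modules} (hL : PicF.IsInvertible L) (i : ℕ)
    (hvan : ∀ j, j ≠ i → Subsingleton (Coh.HH X.left L j)) (hne : Nontrivial (Coh.HH X.left L i)) :
    {a : 𝟙_ (Over (Spec (CommRingCat.of k))) ⟶ X |
      opull (𝟙 X * (toUnit X ≫ a)) (cls hL) = cls hL}.Finite := by
  by_contra hinf
  have h := euler_eq_zero_of_degenerate hL hinf
  let : X.left.Over (Spec (CommRingCat.of k)) := ⟨X.hom⟩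
  have : IsProper (X.left ↘ Spec (CommRingCat.of k)) := ‹IsProper X.hom›
  have : Module.Finite k (Coh.HH X.left L i) := CohFin.hFin_of_proper CohFin.projFinite i X.left
    (X.left ↘ Spec (CommRingCat.of k)) L (EulerDeg.isCoh_of_isInvertible hL)
  change Curv2.euler k X.left L = 0 at h
  unfold Curv2.euler at h
  rw [finsum_eq_single _ i fun j hj => by
    have := hvan j hj
    simp [Module.finrank_zero_of_subsingleton]] at h
  rcases mul_eq_zero.1 h with h | h
  · exact absurd h (pow_ne_zero _ (by norm_num))
  · exact (Module.finrank_pos (R := k) (M := Coh.HH X.left L i)).ne' (by exact_mod_cast h)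

end Groth.AbvarAmple

namespace Groth.AbvarAmple

open Groth.Abvar Groth.Abvar.PicCalc

variable {k : Type u} [Field k] {X : Over (Spec (CommRingCat.of k))}

/-- The dimension of a proper scheme over a field does not change with the field. -/
theorem topologicalKrullDim_baseChange [IsProper X.hom] (K : Type u) [Field K] [Algebra k K] :
    topologicalKrullDim ↥(Limits.pullback X.hom (Spec.map (CommRingCat.ofHom (algebraMap k K)))) =
      topologicalKrullDim ↥X.left := by
  have key : ∀ {k' : Type u} [Field k'] {Y : Scheme.{u}} (h : Y ⟶ Spec (CommRingCat.of k'))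
      (y : Spec (CommRingCat.of k')), topologicalKrullDim ↥(h.fiber y) = topologicalKrullDim ↥Y := by
    intro k' _ Y h y
    have : Subsingleton ↥(Spec (CommRingCat.of k')) := inferInstanceAs (Subsingleton (PrimeSpectrum k'))
    have he : h ⁻¹' {y} = Set.univ := Set.eq_univ_of_forall fun _ => Subsingleton.elim _ _
    exact ((h.fiberHomeo y).trans ((Homeomorph.setCongr he).trans
      (Homeomorph.Set.univ _))).isHomeomorph.topologicalKrullDim_eq
  have h := Groth.FibreDim.dim_fiber_baseChange X.hom
    (Spec.map (CommRingCat.ofHom (algebraMap k K))) (Limits.pullback.snd _ _) (Limits.pullback.fst _ _)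
    (IsPullback.of_hasPullback X.hom (Spec.map (CommRingCat.ofHom (algebraMap k K))))
    (IsLocalRing.closedPoint K)
  rwa [key, key] at h

set_option backward.isDefEq.respectTransparency false in
/-- The index of the inverse over any field. -/
theorem index_inverse [GrpObj X] [IsProper X.hom] [GeometricallyIntegral X.hom] {g : ℕ}
    (hg : topologicalKrullDim X.left = g) {L L' : X.left.Modules} (hL : PicF.IsInvertible L)
    (hL' : Nonempty (CohB1.tensorMod L L' ≅ Coh.structureModule X.left)) (i : ℕ)
    (hvan : ∀ j : ℕ, j ≠ i → Subsingleton (Coh.HH X.left L j))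
    (hne : Nontrivial (Coh.HH X.left L i)) :
    i ≤ g ∧ (∀ j : ℕ, j ≠ g - i → Subsingleton (Coh.HH X.left L' j)) ∧
      Nontrivial (Coh.HH X.left L' (g - i)) := by
  obtain ⟨φ⟩ := hL'
  have hI := PicCalc.isInvertible_of_tensorMod hL
    (PicCalc.isInvertible_of_iso (PicLoc.isInvertible_structureModule _) φ.symm)
  have hcls : cls hI = (cls hL)⁻¹ := by
    refine eq_inv_of_mul_eq_one_right ?_
    rw [← cls_tensorMod hL hI, ← nonempty_iso_structure_iff]
    exact ⟨φ⟩
  let K := AlgebraicClosure k
  let F := Over.pullback (Spec.map (CommRingCat.ofHom (algebraMap k K)))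
  let : GrpObj (F.obj X) := Functor.grpObjObj
  have : IsProper (F.obj X).hom := inferInstanceAs (IsProper (Limits.pullback.snd X.hom _))
  have : GeometricallyIntegral (F.obj X).hom :=
    inferInstanceAs (GeometricallyIntegral (Limits.pullback.snd X.hom _))
  let : X.left.Over (Spec (CommRingCat.of k)) := ⟨X.hom⟩
  have : IsProper (X.left ↘ Spec (CommRingCat.of k)) := ‹IsProper X.hom›
  have : L.IsQuasicoherent := (EulerDeg.isCoh_of_isInvertible hL).1
  have : L'.IsQuasicoherent := (EulerDeg.isCoh_of_isInvertible hI).1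
  let p : (F.obj X).left ⟶ X.left := Limits.pullback.fst X.hom _
  have e := fun j => HilbStab.BC.subsingleton_HH_bc_iff k X.left K L j
  have e' := fun j => HilbStab.BC.subsingleton_HH_bc_iff k X.left K L' j
  have hgK : topologicalKrullDim (F.obj X).left = g := (topologicalKrullDim_baseChange K).trans hg
  have hLK := PicLoc.isInvertible_pullback p hL
  have hL'K := PicLoc.isInvertible_pullback p hI
  have hclsK : cls hL'K = (cls hLK)⁻¹ := by
    rw [← pull_cls _ hI, ← pull_cls _ hL, hcls, map_inv]
  have hvK : ∀ j, j ≠ i → Subsingleton (Coh.HH (F.obj X).left ((Scheme.Modules.pullback p).obj L) j) :=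
    fun j hj => (e j).2 (hvan j hj)
  have hnK : Nontrivial (Coh.HH (F.obj X).left ((Scheme.Modules.pullback p).obj L) i) :=
    not_subsingleton_iff_nontrivial.1 fun h => not_subsingleton_iff_nontrivial.2 hne ((e i).1 h)
  obtain ⟨i', h1, h2, -, h4, h5⟩ := exists_index hgK hLK hL'K hclsK
    (finite_fixed_of_concentrated hLK i hvK hnK)
  obtain rfl : i = i' := by
    by_contra h
    exact not_subsingleton_iff_nontrivial.2 hnK (h2 i h)
  exact ⟨h1, fun j hj => (e' j).1 (h4 j hj),
    not_subsingleton_iff_nontrivial.1 fun h => not_subsingleton_iff_nontrivial.2 h5 ((e' _).2 h)⟩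

end Groth.AbvarAmple
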