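import Groth.Agent.AbvarAmple.IndexField
import Groth.Agent.Inter.Snapper
import Groth.Agent.Curves1.RR.BaseChange
import Groth.Agent.S7859

/-!
# The Euler characteristic of a class on an abelian variety

`χ` is homogeneous of degree `g` and nondegenerate classes have `χ ≠ 0`.
-/

universe u

open CategoryTheory Limits MonoidalCategory CartesianMonoidalCategory MonObj GrpObj AlgebraicGeometry

namespace Groth.AbvarAmple

open Groth.Abvar Groth.Abvar.PicCalc

variable {k : Type u} [Field k] {X : Over (Spec (CommRingCat.of k))}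

/-- The Euler characteristic of a class. -/
noncomputable def chi (c : PicLoc.PicSet X.left) : ℤ :=
  @Curv2.euler k _ X.left ⟨X.hom⟩ (PicGrp.exists_eq_cls c).choose

/-- The Euler characteristic of a class is that of any module representing it. -/
theorem chi_cls {L : X.left.Modules} (hL : PicF.IsInvertible L) :
    chi (cls hL) = @Curv2.euler k _ X.left ⟨X.hom⟩ L := by
  let : X.left.Over (Spec (CommRingCat.of k)) := ⟨X.hom⟩
  obtain ⟨hM, hMc⟩ := (PicGrp.exists_eq_cls (cls hL)).choose_spec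
  exact EulerDeg.euler_congr k ((nonempty_iso_iff hM hL).2 hMc.symm).some

variable [IsProper X.hom]

/-- `χ` of a class living in one degree. -/
theorem IsIdx.natAbs_chi {L : X.left.Modules} (hL : PicF.IsInvertible L) {i : ℕ}
    (h : IsIdx (cls hL) i) :
    letI : X.left.Over (Spec (CommRingCat.of k)) := ⟨X.hom⟩
    (chi (cls hL)).natAbs = Module.finrank k (Coh.HH X.left L i) ∧
      0 < Module.finrank k (Coh.HH X.left L i) ∧
      ∀ j, j ≠ i → Module.finrank k (Coh.HH X.left L j) = 0 := by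
  obtain ⟨hv, hn⟩ := (isIdx_cls_iff X.hom hL i).1 h
  letI : X.left.Over (Spec (CommRingCat.of k)) := ⟨X.hom⟩
  have : IsProper (X.left ↘ Spec (CommRingCat.of k)) := ‹IsProper X.hom›
  have : Module.Finite k (Coh.HH X.left L i) :=
    (Inter.finCoh k (Inter.isCoh_of_isInvertible hL)).finite i
  refine ⟨?_, Module.finrank_pos, fun j hj => ?_⟩
  · rw [chi_cls hL]
    unfold Curv2.euler
    rw [finsum_eq_single _ i fun j hj => by
      have := hv j hj
      simp [Module.finrank_zero_of_subsingleton]]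
    rw [Int.natAbs_mul, Int.natAbs_pow, Int.natAbs_neg, Int.natAbs_one, one_pow, _root_.one_mul,
      Int.natAbs_natCast]
  · have := hv j hj
    exact Module.finrank_zero_of_subsingleton

/-- A class living in one degree has nonzero `χ`. -/
theorem IsIdx.chi_ne_zero {c : PicLoc.PicSet X.left} {i : ℕ} (h : IsIdx c i) : chi c ≠ 0 := by
  obtain ⟨L, hL, rfl⟩ := PicGrp.exists_eq_cls c
  obtain ⟨h1, h2, -⟩ := h.natAbs_chi hL
  rw [← Int.natAbs_ne_zero, h1]
  exact h2.ne'

/-- `χ` does not change under isomorphisms. -/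
theorem chi_pull_iso (f : X ⟶ X) [IsIso f.left] (c : PicLoc.PicSet X.left) :
    chi (opull f c) = chi c := by
  obtain ⟨L, hL, rfl⟩ := PicGrp.exists_eq_cls c
  let : X.left.Over (Spec (CommRingCat.of k)) := ⟨X.hom⟩
  have : IsProper (X.left ↘ Spec (CommRingCat.of k)) := ‹IsProper X.hom›
  rw [show opull f (cls hL) = cls (PicLoc.isInvertible_pullback f.left hL) from pull_cls _ hL, chi_cls,
    chi_cls]
  exact Curves1.RR.euler_pullback (Curves1.RR.isPullback_of_iso (k := k) (asIso f.left) (Over.w f)) L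
    (Inter.isCoh_of_isInvertible hL).1

/-- `χ` does not depend on the field. -/
theorem chi_bc (K : Type u) [Field K] [Algebra k K] (c : PicLoc.PicSet X.left) :
    chi (X := (Over.pullback (Spec.map (CommRingCat.ofHom (algebraMap k K)))).obj X)
      (pull (Limits.pullback.fst X.hom (Spec.map (CommRingCat.ofHom (algebraMap k K)))) c) = chi c := by
  obtain ⟨L, hL, rfl⟩ := PicGrp.exists_eq_cls c
  let : X.left.Over (Spec (CommRingCat.of k)) := ⟨X.hom⟩
  have : IsProper (X.left ↘ Spec (CommRingCat.of k)) := ‹IsProper X.hom›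
  have : L.IsQuasicoherent := (Inter.isCoh_of_isInvertible hL).1
  rw [pull_cls _ hL, chi_cls, chi_cls]
  exact HilbStab.BC.euler_bc k X.left K L

/-- Twists are polynomial, of degree at most the dimension. -/
theorem exists_poly_chi {g : ℕ} (hg : topologicalKrullDim X.left = g) (d e : PicLoc.PicSet X.left) :
    ∃ p : Polynomial ℚ, p.natDegree ≤ g ∧ ∀ n : ℕ, p.eval (n : ℚ) = (chi (d * e ^ n) : ℚ) := by
  obtain ⟨D, hD, rfl⟩ := PicGrp.exists_eq_cls d
  obtain ⟨E, hE, rfl⟩ := PicGrp.exists_eq_cls e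
  let : X.left.Over (Spec (CommRingCat.of k)) := ⟨X.hom⟩
  have : IsProper (X.left ↘ Spec (CommRingCat.of k)) := ‹IsProper X.hom›
  obtain ⟨P, hP, hPe⟩ := Inter.exists_poly k g 1 (fun _ => E) (fun _ => hE) [] (by simp)
    (Nat.zero_le _) D (Inter.isCoh_of_isInvertible hD) (by
      refine (LocCohTransform.topologicalKrullDim_mono (Set.subset_univ _)).trans ?_
      rw [(Homeomorph.Set.univ X.left).isHomeomorph.topologicalKrullDim_eq, hg])
  refine ⟨MvPolynomial.aeval (fun _ => Polynomial.X) P, ?_, fun n => ?_⟩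
  · have := MvPolynomial.aeval_natDegree_le (n := 1) P (m := g) (by omega) (fun _ => Polynomial.X)
      fun _ => Polynomial.natDegree_X_le
    omega
  · have h := hPe fun _ => n
    have ev : (MvPolynomial.aeval (fun _ => Polynomial.X) P : Polynomial ℚ).eval (n : ℚ) =
        MvPolynomial.eval (fun _ => (n : ℚ)) P := by
      rw [← Polynomial.coe_aeval_eq_eval, ← AlgHom.comp_apply, MvPolynomial.comp_aeval]
      simp only [Polynomial.aeval_X]
      rfl
    rw [ev, ← h, Inter.delta_nil, Int.cast_inj]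
    have hm : PicF.IsInvertible (FGA.multiTwist (fun _ : Fin 1 => E) fun _ => n) :=
      Inter.isInvertible_multiTwist (fun _ => hE) _
    have hc : cls (isInvertible_tensorMod hm hD) = cls hD * cls hE ^ n := by
      rw [cls_tensorMod hm hD, _root_.mul_comm]
      congr 1
      have e1 : Nonempty (FGA.multiTwist (fun _ : Fin 1 => E) (fun _ => n) ≅ CohB1.tensorPow E n) := by
        rw [Inter.multiTwist_succ]
        exact ⟨(Inter.tensor_comm _ _).some ≪≫
          (Inter.tensor_congr ⟨eqToIso (by simp [FGA.multiTwist, FGA.tensorList])⟩ ⟨Iso.refl _⟩).some ≪≫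
          (Inter.tensor_one _).some⟩
      rw [(nonempty_iso_iff hm (isInvertible_tensorPow hE n)).1 e1, cls_tensorPow hE]
    rw [← hc, chi_cls]

section Group

variable [GrpObj X] [GeometricallyIntegral X.hom]

/-- An isogeny multiplies `χ` by its degree. -/
theorem chi_isogeny (f : X ⟶ X) [IsFinite f.left] [Flat f.left] {d : ℕ}
    (hd : ∀ y : X.left, Scheme.Hom.finrank f.left y = d) (c : PicLoc.PicSet X.left) :
    chi (opull f c) = d * chi c := by
  obtain ⟨L, hL, rfl⟩ := PicGrp.exists_eq_cls c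
  rw [show opull f (cls hL) = cls (PicLoc.isInvertible_pullback f.left hL) from pull_cls _ hL, chi_cls,
    chi_cls]
  exact Groth.Agent.S7859.result k X X f d hd L (Inter.isCoh_of_isInvertible hL)

variable [IsAlgClosed k]

/-- A degenerate class has `χ = 0`. -/
theorem chi_eq_zero_of_infinite_fixed {c : PicLoc.PicSet X.left}
    (h : {a : 𝟙_ (Over (Spec (CommRingCat.of k))) ⟶ X |
      opull (𝟙 X * (toUnit X ≫ a)) c = c}.Infinite) : chi c = 0 := by
  obtain ⟨L, hL, rfl⟩ := PicGrp.exists_eq_cls c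
  rw [chi_cls]
  exact euler_eq_zero_of_degenerate hL h

/-- A class with `χ ≠ 0` lives in one degree, its inverse in the complementary one. -/
theorem exists_isIdx_of_chi_ne_zero {g : ℕ} (hg : topologicalKrullDim X.left = g)
    {c : PicLoc.PicSet X.left} (hc : chi c ≠ 0) : ∃ i, i ≤ g ∧ IsIdx c i :=
  let ⟨i, hi, h, _⟩ := exists_isIdx hg (by_contra fun h => hc (chi_eq_zero_of_infinite_fixed h))
  ⟨i, hi, h⟩

/-- `χ` of square powers. -/
theorem chi_pow_sq {g : ℕ} (hg : topologicalKrullDim X.left = g) (c : PicLoc.PicSet X.left) {n : ℕ}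
    (hn : 0 < n) : chi (c ^ (n ^ 2)) = (n : ℤ) ^ (2 * g) * chi c := by
  have := Groth.GrpschAbsch.isCommMonObj_of_isProper X
  by_cases hfix : {a : 𝟙_ (Over (Spec (CommRingCat.of k))) ⟶ X |
      opull (𝟙 X * (toUnit X ≫ a)) c = c}.Finite
  · obtain ⟨y, hy⟩ := exists_symmetric_translate c hfix
    have := Groth.AbVarMul.isIso_translate_left (A := X) y
    rw [← chi_pull_iso (𝟙 X * (toUnit X ≫ y)) (c ^ (n ^ 2)),
      ← chi_pull_iso (𝟙 X * (toUnit X ≫ y)) c, map_pow]
    generalize opull (𝟙 X * (toUnit X ≫ y)) c = c₀ at hy ⊢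
    have hd : (n : ℤ) ≠ 0 := by omega
    obtain ⟨h1, h2, -⟩ := Groth.AbVarMul.isogeny_zpow (A := X) hd
    have e := chi_isogeny (𝟙 X ^ (n : ℤ) : X ⟶ X)
      (fun z => Groth.AbVarMul.finrank_zpow hg hd z) c₀
    rw [Groth.AbVarMul.opull_zpow_symm _ hy, Int.natAbs_natCast] at e
    rw [e, Nat.cast_pow]
  · rw [chi_eq_zero_of_infinite_fixed hfix, mul_zero]
    refine chi_eq_zero_of_infinite_fixed ?_
    refine Set.Infinite.mono (fun a ha => ?_) hfix
    show opull (𝟙 X * (toUnit X ≫ a)) (c ^ (n ^ 2)) = c ^ (n ^ 2)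
    rw [map_pow, ha]

/-- `χ` is homogeneous of degree `g`. -/
theorem chi_pow {g : ℕ} (hg : topologicalKrullDim X.left = g) (c : PicLoc.PicSet X.left) {m : ℕ}
    (hm : 0 < m) : chi (c ^ m) = (m : ℤ) ^ g * chi c := by
  obtain ⟨p, -, hp⟩ := exists_poly_chi hg 1 c
  simp only [_root_.one_mul] at hp
  have hpeq : p = Polynomial.C (chi c : ℚ) * Polynomial.X ^ g := by
    refine Polynomial.eq_of_infinite_eval_eq _ _ ?_
    refine (Set.infinite_range_of_injective (f := fun n : ℕ => ((n + 1) ^ 2 : ℕ))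
      (fun a b h => by simpa using Nat.pow_left_injective two_ne_zero h) |>.image
        Nat.cast_injective.injOn).mono ?_
    rintro _ ⟨_, ⟨n, rfl⟩, rfl⟩
    show p.eval _ = _
    rw [hp, chi_pow_sq hg c n.succ_pos]
    simp only [Polynomial.eval_mul, Polynomial.eval_C, Polynomial.eval_pow, Polynomial.eval_X]
    push_cast
    rw [_root_.mul_comm 2 g, pow_mul, ← pow_mul, ← pow_mul]
    ring
  have h := hp m
  rw [hpeq] at h
  simp only [Polynomial.eval_mul, Polynomial.eval_C, Polynomial.eval_pow, Polynomial.eval_X] at h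
  rw [← Int.cast_inj (α := ℚ)]
  push_cast
  linarith

/-- The values of `χ` on the rays between `c` and `h` come from the Hilbert polynomial. -/
theorem chi_pow_mul_pow {g : ℕ} (hg : topologicalKrullDim X.left = g) (c h : PicLoc.PicSet X.left)
    {Φ : Polynomial ℚ} (hΦ : ∀ n : ℕ, Φ.eval (n : ℚ) = (chi (c * h ^ n) : ℚ)) {a : ℕ} (ha : 0 < a)
    (b : ℕ) : (chi (c ^ a * h ^ b) : ℚ) = (a : ℚ) ^ g * Φ.eval ((b : ℚ) / a) := by
  obtain ⟨p, -, hp⟩ := exists_poly_chi hg (c ^ a) h
  have ha' : (a : ℚ) ≠ 0 := Nat.cast_ne_zero.2 ha.ne'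
  have key : p.comp (Polynomial.C (a : ℚ) * Polynomial.X) = Polynomial.C ((a : ℚ) ^ g) * Φ := by
    refine Polynomial.eq_of_infinite_eval_eq _ _
      ((Set.infinite_range_of_injective (f := fun n : ℕ => (n : ℚ)) Nat.cast_injective).mono ?_)
    rintro _ ⟨n, rfl⟩
    show (p.comp _).eval (n : ℚ) = _
    rw [Polynomial.eval_comp, Polynomial.eval_mul, Polynomial.eval_C, Polynomial.eval_X,
      ← Nat.cast_mul, hp, _root_.mul_comm a n, pow_mul, ← mul_pow, chi_pow hg _ ha, Polynomial.eval_mul,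
      Polynomial.eval_C, hΦ]
    push_cast
    ring
  have h' := congrArg (Polynomial.eval ((b : ℚ) / a)) key
  rw [Polynomial.eval_comp, Polynomial.eval_mul, Polynomial.eval_C, Polynomial.eval_X,
    mul_div_cancel₀ _ ha', hp, Polynomial.eval_mul, Polynomial.eval_C] at h'
  exact h'

end Group

/-- A Hilbert polynomial has degree at most the dimension. -/
theorem natDegree_hilbert_le {g : ℕ} (hg : topologicalKrullDim X.left = g) (c h : PicLoc.PicSet X.left)
    {Φ : Polynomial ℚ} (hΦ : ∀ n : ℕ, Φ.eval (n : ℚ) = (chi (c * h ^ n) : ℚ)) : Φ.natDegree ≤ g := by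
  obtain ⟨p, hd, hp⟩ := exists_poly_chi hg c h
  have : Φ = p := Polynomial.eq_of_infinite_eval_eq _ _
    ((Set.infinite_range_of_injective (f := fun n : ℕ => (n : ℚ)) Nat.cast_injective).mono (by
      rintro _ ⟨n, rfl⟩
      show Φ.eval (n : ℚ) = p.eval (n : ℚ)
      rw [hΦ, hp]))
  rwa [this]

end Groth.AbvarAmple
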