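import Groth.Agent.Misc6.FinCovTrace
import Groth.Agent.Misc6.FinCovCover
import Groth.Agent.PnCoh.ProjectionFormula
import Groth.Agent.CohBase.FiniteBC.PushNat
import Groth.Agent.Inter.Twist
import Groth.Agent.EulerDeg.LineBundle
import Groth.Prelude.Def_DDual2

/-!
# Cohomology injects along finite flat covers of invertible degree
-/

universe u

open CategoryTheory CategoryTheory.Limits AlgebraicGeometry Opposite

namespace Groth.AbvarAmple

variable {X Y : Scheme.{u}}

/-- The two models of the direct image of the structure sheaf. -/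
noncomputable def directImageIso (f : X ⟶ Y) [QuasiCompact f] [QuasiSeparated f] :
    (RelSpec.QCAlg.directImage f).toModule ≅
      (Scheme.Modules.pushforward f).obj (Coh.structureModule X) where
  hom := ⟨letI := (RelSpec.QCAlg.directImage f).moduleSect
    PresheafOfModules.homMk
      { app := fun U => AddCommGrpCat.ofHom (AddMonoidHom.id _)
        naturality := fun U V i => rfl }
      (fun U r s => rfl)⟩
  inv := ⟨letI := (RelSpec.QCAlg.directImage f).moduleSect
    PresheafOfModules.homMk
      { app := fun U => AddCommGrpCat.ofHom (AddMonoidHom.id _)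
        naturality := fun U V i => rfl }
      (fun U r s => rfl)⟩
  hom_inv_id := rfl
  inv_hom_id := rfl

/-- A retraction up to `d` survives tensoring. -/
theorem exists_nsmul_retraction {O P L T : Y.Modules} (s : O ⟶ P) (r : P ⟶ O) {d : ℕ}
    (hsr : s ≫ r = d • 𝟙 O) (ι : CohB1.tensorMod O L ≅ L) (j : CohB1.tensorMod P L ≅ T) :
    ∃ (φ : L ⟶ T) (ψ : T ⟶ L), φ ≫ ψ = d • 𝟙 L := by
  let sL : CohB1.tensorMod O L ⟶ CohB1.tensorMod P L := (DCoh.tensorRightMod L).map s
  let rL : CohB1.tensorMod P L ⟶ CohB1.tensorMod O L := (DCoh.tensorRightMod L).map r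
  refine ⟨ι.inv ≫ sL ≫ j.hom, j.inv ≫ rL ≫ ι.hom, ?_⟩
  have h : sL ≫ rL = d • 𝟙 _ := by
    show (DCoh.tensorRightMod L).map s ≫ (DCoh.tensorRightMod L).map r = _
    rw [← Functor.map_comp, hsr, Functor.map_nsmul, CategoryTheory.Functor.map_id]
    rfl
  simp only [Category.assoc, Iso.hom_inv_id_assoc]
  rw [← Category.assoc sL rL, h, Preadditive.nsmul_comp, Category.id_comp, Preadditive.comp_nsmul,
    ι.inv_hom_id]

/-- A finite flat cover of degree invertible on the base makes cohomology of invertible modules inject. -/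
theorem subsingleton_HH_of_pullback {k : Type u} [Field k] (q : Y ⟶ Spec (CommRingCat.of k))
    (f : X ⟶ Y) {d : ℕ} (hf : Mor2.IsFinLocFreeOfDeg d f) (hd : (d : k) ≠ 0)
    {L : Y.Modules} (hL : PicF.IsInvertible L) (n : ℕ)
    (h : Subsingleton (Coh.HH X ((Scheme.Modules.pullback f).obj L) n))
    [IsLocallyNoetherian X] [IsLocallyNoetherian Y] :
    Subsingleton (Coh.HH Y L n) := by
  have hrank := Misc6.FinCov.pushforward_of_isCover f d hf
  have : IsFinite f := hf.1.1
  let A := RelSpec.QCAlg.directImage f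
  let e := directImageIso f
  have hA : FlatMod.IsFinLocFreeOfRank d A.toModule :=
    LocFree.isFinLocFreeOfRank_of_iso e.symm hrank
  obtain ⟨τ, hτ, -⟩ := Misc6.FinCov.existsUnique_isTrace (A := A) (LocFree.isFinLocFree_of_rank hA)
  let s : Coh.structureModule Y ⟶ (Scheme.Modules.pushforward f).obj (Coh.structureModule X) :=
    FinCov.strMod A ≫ e.hom
  let r : (Scheme.Modules.pushforward f).obj (Coh.structureModule X) ⟶ Coh.structureModule Y :=
    e.inv ≫ τ
  have hsr : s ≫ r = d • 𝟙 _ := by
    simp only [s, r, Category.assoc, Iso.hom_inv_id_assoc]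
    exact Misc6.FinCov.strMod_comp_trace (A := A) hA hτ
  obtain ⟨ι⟩ := Inter.tensor_one L
  obtain ⟨p, -⟩ := PnCoh.exists_projectionFormula f (Coh.structureModule X) hL
  obtain ⟨ι'⟩ := Inter.tensor_one ((Scheme.Modules.pullback f).obj L)
  let j := p ≪≫ (Scheme.Modules.pushforward f).mapIso ι'
  obtain ⟨φ, ψ, hφψ⟩ := exists_nsmul_retraction s r hsr ι j
  have : ((Scheme.Modules.pullback f).obj L).IsQuasicoherent :=
    (EulerDeg.isCoh_of_isInvertible (PicLoc.isInvertible_pullback f hL)).1
  have hmid : Subsingleton (CohFin.HA q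
      ((Scheme.Modules.pushforward f).obj ((Scheme.Modules.pullback f).obj L)) n) :=
    @Equiv.subsingleton _ _
      (CohBase.FiniteBC.pushHA f q (f ≫ q) ((Scheme.Modules.pullback f).obj L) n).toEquiv h
  refine subsingleton_of_forall_eq (α := CohFin.HA q L n) 0 fun x => ?_
  let F : (L ⟶ L) →+ CohFin.HA q L n :=
    AddMonoidHom.mk' (fun g => CohFin.mapL q g n x) (fun a b => CohFin.mapL_add q a b n x)
  have h1 : CohFin.mapL q (φ ≫ ψ) n x = 0 := by
    rw [CohFin.mapL_comp, Subsingleton.elim (CohFin.mapL q φ n x) 0, map_zero]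
  rw [hφψ] at h1
  have h2 : F (d • 𝟙 L) = d • x := by
    rw [map_nsmul]
    exact congrArg (d • ·) (CohFin.mapL_id q L n x)
  have h3 : (d : k) • x = 0 := by
    rw [Nat.cast_smul_eq_nsmul, ← h2]
    exact h1
  exact (smul_eq_zero.1 h3).resolve_left hd

end Groth.AbvarAmple
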