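import Groth.Agent.AbvarAmple.PhiSurjCor
import Groth.Agent.AbvarAmple.PullInjective
import Groth.Agent.PnCoh.AmpleVanishing
import Groth.Agent.AbVarMul.Degree
import Groth.Agent.FibreDim.GroupScheme

/-!
# Vanishing of higher cohomology of ample classes on abelian varieties
-/

universe u

open CategoryTheory Limits MonoidalCategory CartesianMonoidalCategory MonObj GrpObj AlgebraicGeometry
open scoped TensorProduct

namespace Groth.AbvarAmple

open Groth.Abvar Groth.Abvar.PicCalc

variable {k : Type u} [Field k] [IsAlgClosed k] {X : Over (Spec (CommRingCat.of k))} [GrpObj X]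
  [IsProper X.hom] [GeometricallyIntegral X.hom]

/-- A finite set of rational points lies in an affine open. -/
theorem exists_affine_superset_of_points
    {S : Set (𝟙_ (Over (Spec (CommRingCat.of k))) ⟶ X)} (hS : S.Finite) :
    ∃ V : X.left.Opens, IsAffineOpen V ∧ pt '' S ⊆ V := by
  have := Groth.GrpschAbsch.isCommMonObj_of_isProper X
  have := Groth.Abvar.isIntegral_left X
  obtain ⟨_, ⟨V₀, hV₀, rfl⟩, hV₀g, -⟩ := X.left.isBasis_affineOpens.exists_subset_of_mem_open
    (Set.mem_univ (genericPoint X.left)) isOpen_univ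
  let W : Set X.left := ⋂ a ∈ S, (𝟙 X * (toUnit X ≫ a)).left.base ⁻¹' (V₀ : Set X.left)
  have hWo : IsOpen W :=
    hS.isOpen_biInter fun a _ => V₀.2.preimage (𝟙 X * (toUnit X ≫ a)).left.continuous
  have hWg : genericPoint X.left ∈ W := Set.mem_iInter₂.2 fun a _ => by
    refine ((genericPoint_spec X.left).mem_open_set_iff
      (V₀.2.preimage (𝟙 X * (toUnit X ≫ a)).left.continuous)).2 ?_
    rw [Set.univ_inter]
    exact Set.Nonempty.preimage ⟨_, hV₀g⟩ (surjective_translate a)
  obtain ⟨y, hy⟩ := exists_point_mem X hWo ⟨_, hWg⟩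
  have := Groth.AbVarMul.isIso_translate_left (A := X) y
  refine ⟨(𝟙 X * (toUnit X ≫ y)).left ⁻¹ᵁ V₀,
    hV₀.preimage_of_isIso (𝟙 X * (toUnit X ≫ y)).left, ?_⟩
  rintro _ ⟨a, ha, rfl⟩
  show (𝟙 X * (toUnit X ≫ y)).left.base (pt a) ∈ V₀
  rw [← pt_translate, _root_.mul_comm, pt_translate]
  exact Set.mem_iInter₂.1 hy a ha

/-- A class with finite stabiliser has some nonzero cohomology. -/
theorem exists_nontrivial_HH_of_finite_fixed {L : X.left.Modules} (hL : PicF.IsInvertible L)
    (hfix : {a : 𝟙_ (Over (Spec (CommRingCat.of k))) ⟶ X |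
      opull (𝟙 X * (toUnit X ≫ a)) (cls hL) = cls hL}.Finite) :
    ∃ n, Nontrivial (Coh.HH X.left L n) := by
  by_contra! hall
  have hall' : ∀ n, Subsingleton (Coh.HH X.left L n) := fun n => hall n
  have := Groth.GrpschAbsch.isCommMonObj_of_isProper X
  have := Groth.Abvar.isIntegral_left X
  let : X.left.Over (Spec (CommRingCat.of k)) := ⟨X.hom⟩
  obtain ⟨L', hL', hLL'⟩ := PicGrp.exists_eq_cls (cls hL)⁻¹
  have : IsLocallyNoetherian X.left := LocallyOfFiniteType.isLocallyNoetherian X.hom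
  have : L.IsQuasicoherent := (EulerDeg.isCoh_of_isInvertible hL).1
  have : L'.IsQuasicoherent := (EulerDeg.isCoh_of_isInvertible hL').1
  have : CompactSpace X.left := CohFin.compactSpace_of_proper X.hom
  have : IsNoetherian X.left := {}
  have : X.left.IsSeparated := CohFin.isSeparated_of_proper X.hom
  obtain ⟨C⟩ := CohBase.exists_goodCover X.left
  have hq : IsPullback (fst X X).left (snd X X).left X.hom X.hom := IsPullback.of_hasPullback _ _
  obtain ⟨N, hN, hNc⟩ := PicGrp.exists_eq_cls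
    (opull (fst X X * snd X X) (cls hL) * opull (snd X X) (cls hL'))
  have hNc' : cls hN = opull (fst X X * snd X X) (cls hL) * opull (snd X X) (cls hL') := hNc.symm
  have hLL'' : cls hL' = (cls hL)⁻¹ := hLL'.symm
  have h1 := PicLoc.isInvertible_pullback (fst X X).left hL
  have h2 := PicLoc.isInvertible_pullback (snd X X).left hL'
  let σ : X ⊗ X ⟶ X ⊗ X := lift (fst X X * snd X X) (snd X X)
  let τ : X ⊗ X ⟶ X ⊗ X := lift (fst X X * (snd X X)⁻¹) (snd X X)
  have hστ : σ ≫ τ = 𝟙 _ := by
    apply CartesianMonoidalCategory.hom_ext <;>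
      simp [σ, τ, MonObj.comp_mul, GrpObj.comp_inv, _root_.mul_assoc]
  have hτσ : τ ≫ σ = 𝟙 _ := by
    apply CartesianMonoidalCategory.hom_ext <;>
      simp [σ, τ, MonObj.comp_mul, _root_.mul_assoc]
  have : IsIso σ := ⟨τ, hστ, hτσ⟩
  have : IsIso σ.left := (inferInstance : IsIso ((Over.forget _).map σ))
  have hvan : ∀ n, Subsingleton (Coh.HH (X ⊗ X).left N n) := by
    intro n
    obtain ⟨e₁⟩ := CohBase.Kunneth.nonempty_kunneth C C _ _
      (show IsPullback (fst X X).left (snd X X).left (X.left ↘ Spec (CommRingCat.of k))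
        (X.left ↘ Spec (CommRingCat.of k)) from hq) L L'
      (Inter.isFlatOver_field k (X.left ↘ Spec (CommRingCat.of k)) L) (fun _ => inferInstance) n
    have hs : ∀ pq : Finset.HasAntidiagonal.antidiagonal n,
        Subsingleton (Coh.HH X.left L pq.1.1 ⊗[k] Coh.HH X.left L' pq.1.2) := fun pq => by
      have := hall' pq.1.1
      infer_instance
    have hLL : Subsingleton (Coh.HH (X ⊗ X).left (CohB1.tensorMod
        ((Scheme.Modules.pullback (fst X X).left).obj L)
        ((Scheme.Modules.pullback (snd X X).left).obj L')) n) := e₁.toEquiv.subsingleton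
    have hiso : Nonempty ((Scheme.Modules.pullback σ.left).obj (CohB1.tensorMod
        ((Scheme.Modules.pullback (fst X X).left).obj L)
        ((Scheme.Modules.pullback (snd X X).left).obj L')) ≅ N) := by
      rw [nonempty_iso_iff (PicLoc.isInvertible_pullback _ (isInvertible_tensorMod h1 h2)) hN,
        ← pull_cls _ (isInvertible_tensorMod h1 h2), cls_tensorMod h1 h2, ← pull_cls _ hL,
        ← pull_cls _ hL', hNc']
      show opull σ (opull (fst X X) (cls hL) * opull (snd X X) (cls hL')) = _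
      rw [map_mul, ← opull_comp, ← opull_comp, lift_fst, lift_snd]
    exact PnCoh.subsingleton_HH_of_iso (X ⊗ X).hom hiso.some
      ((subsingleton_HH_pullback_iff σ.left (X ⊗ X).hom _ _).2 hLL)
  have : IsProper (fst X X).left := MorphismProperty.of_isPullback hq.flip ‹IsProper X.hom›
  have : Flat (fst X X).left := MorphismProperty.of_isPullback hq.flip (inferInstance : Flat X.hom)
  have : LocallyOfFinitePresentation (fst X X).left :=
    MorphismProperty.of_isPullback hq.flip (inferInstance : LocallyOfFinitePresentation X.hom)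
  have : IsLocallyNoetherian (X ⊗ X).left :=
    have : LocallyOfFiniteType (fst X X).left :=
      inferInstanceAs (LocallyOfFiniteType (pullback.fst X.hom X.hom))
    LocallyOfFiniteType.isLocallyNoetherian (fst X X).left
  have hcoh := EulerDeg.isCoh_of_isInvertible hN
  have : N.IsQuasicoherent := hcoh.1
  have hFP := Groth.FlatStrata.isFP_of_isCoh hcoh
  have hflat₁ := Seesaw.isFlatOver_of_isInvertible (fst X X).left hN
  have hsq₁ : ∀ x : 𝟙_ (Over (Spec (CommRingCat.of k))) ⟶ X,
      IsPullback (lift (toUnit X ≫ x) (𝟙 X)).left X.hom (fst X X).left x.left := by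
    intro x
    refine IsPullback.of_right (t := hq.flip) (p := ?_) (s := ?_)
    rotate_left
    · refine (congrArg Over.Hom.left (lift_fst (toUnit X ≫ x) (𝟙 X))).trans ?_
      rw [Over.comp_left, Over.toUnit_left]
    · rw [show (lift (toUnit X ≫ x) (𝟙 X)).left ≫ (snd X X).left = 𝟙 _ from
        congrArg Over.Hom.left (lift_snd (toUnit X ≫ x) (𝟙 X)),
        show x.left ≫ X.hom = 𝟙 _ from Over.w x]
      exact IsPullback.of_id_fst
  have hslice : ∀ x, opull (lift (toUnit X ≫ x) (𝟙 X)) (cls hN) =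
      opull (𝟙 X * (toUnit X ≫ x)) (cls hL) / cls hL := by
    intro x
    rw [hNc', map_mul, ← opull_comp, ← opull_comp, MonObj.comp_mul, lift_fst, lift_snd, opull_id,
      hLL'', ← div_eq_mul_inv, _root_.mul_comm (toUnit X ≫ x) (𝟙 X)]
  obtain ⟨V, hV, hZV⟩ := exists_affine_superset_of_points hfix
  let Z : Set X.left := pt '' {a | opull (𝟙 X * (toUnit X ≫ a)) (cls hL) = cls hL}
  have hclosed : ∀ z : 𝟙_ (Over (Spec (CommRingCat.of k))) ⟶ X, IsClosed ({pt z} : Set X.left) :=
    fun z => by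
      have : IsClosedImmersion z.left := isClosedImmersion_of_comp_eq_id X.hom z.left (Over.w z)
      rw [← range_eq z]
      exact z.left.isClosedEmbedding.isClosed_range
  have hZ : IsClosed Z := by
    have : Z = ⋃ a ∈ {a | opull (𝟙 X * (toUnit X ≫ a)) (cls hL) = cls hL}, {pt a} := by
      ext w
      simp [Z, eq_comm]
    rw [this]
    exact hfix.isClosed_biUnion fun a _ => hclosed a
  have hout : ∀ p, ∀ x ∉ Z, Subsingleton (CohIII.fiberH (fst X X).left N x p) := by
    intro p x hx
    by_contra hx'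
    have := LocallyOfFiniteType.jacobsonSpace X.hom
    obtain ⟨z, ⟨hzS, hzZ⟩, hzc⟩ := nonempty_inter_closedPoints (Z := {y : X.left |
      Subsingleton (CohIII.fiberH (fst X X).left N y p)}ᶜ ∩ Zᶜ) ⟨x, hx', hx⟩
      ((CohBase.isOpen_subsingleton_fiberH (fst X X).left hFP hflat₁ p).isClosed_compl.isLocallyClosed.inter
        hZ.isOpen_compl.isLocallyClosed)
    obtain ⟨s, rfl⟩ := exists_rationalPoint X hzc
    refine hzS ((subsingleton_fiberH_iff_of_isPullback s (hsq₁ s) N p).2 ?_)
    refine subsingleton_HH_of_invariant (PicLoc.isInvertible_pullback _ hN) (fun a => ?_) ?_ p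
    · rw [← pull_cls _ hN]
      change opull _ (opull (lift (toUnit X ≫ s) (𝟙 X)) (cls hN)) = opull _ (cls hN)
      rw [hslice]
      exact translate_div_invariant _ s a
    · rw [← pull_cls _ hN]
      change opull _ (cls hN) ≠ 1
      rw [hslice, Ne, div_eq_one]
      exact fun h => hzZ ⟨s, h, rfl⟩
  have h0 := subsingleton_fiberH_of_exceptional (fst X X).left hFP hflat₁ hvan hZ hV hZV hout 0 (pt 1)
  rw [subsingleton_fiberH_iff_of_isPullback _ (hsq₁ 1)] at h0
  have htriv : cls (PicLoc.isInvertible_pullback (lift (toUnit X ≫ 1) (𝟙 X)).left hN) = 1 := by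
    rw [← pull_cls _ hN]
    change opull _ (cls hN) = 1
    rw [hslice, translate_one, opull_id, div_self']
  obtain ⟨i⟩ := (nonempty_iso_structure_iff (PicLoc.isInvertible_pullback _ hN)).2 htriv
  exact not_subsingleton_iff_nontrivial.2 nontrivial_HH_structure
    (PnCoh.subsingleton_HH_of_iso X.hom i h0)

/-- Every nondegenerate class has a symmetric translate. -/
theorem exists_symmetric_translate (c : PicLoc.PicSet X.left)
    (hfix : {a : 𝟙_ (Over (Spec (CommRingCat.of k))) ⟶ X | opull (𝟙 X * (toUnit X ≫ a)) c = c}.Finite) :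
    ∃ y : 𝟙_ (Over (Spec (CommRingCat.of k))) ⟶ X,
      opull (𝟙 X)⁻¹ (opull (𝟙 X * (toUnit X ≫ y)) c) = opull (𝟙 X * (toUnit X ≫ y)) c := by
  have := Groth.GrpschAbsch.isCommMonObj_of_isProper X
  obtain ⟨x, hx⟩ := exists_translate_eq_mul c hfix (opull (𝟙 X)⁻¹ c / c) fun a => by
    rw [map_div, div_eq_div_iff_mul_eq_mul]
    exact Cube.opull_inv_translate c a
  rw [mul_div_cancel] at hx
  obtain ⟨y, hy⟩ := exists_pow_eq x (M := 2) two_ne_zero
  refine ⟨y, ?_⟩
  have e : (𝟙 X)⁻¹ ≫ (𝟙 X * (toUnit X ≫ y)) = (𝟙 X * (toUnit X ≫ y⁻¹)) ≫ (𝟙 X)⁻¹ := by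
    rw [comp_mul_const]
    simp only [GrpObj.comp_inv, Category.comp_id, _root_.mul_inv, _root_.inv_inv]
  rw [← opull_comp, e, opull_comp, ← hx, ← opull_comp, translate_comp]
  congr 3
  rw [← hy, _root_.pow_two, inv_mul_cancel_left]

/-- The higher cohomology of an ample module vanishes. -/
theorem subsingleton_HH_pos_of_isAmple {L : X.left.Modules} (hL : CohB1.IsAmple L) {j : ℕ}
    (hj : 0 < j) : Subsingleton (Coh.HH X.left L j) := by
  obtain ⟨y, hy⟩ := exists_symmetric_translate (cls hL.1) (finite_fixed hL)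
  have := Groth.GrpschAbsch.isCommMonObj_of_isProper X
  have := Groth.AbVarMul.isIso_translate_left (A := X) y
  have hM : CohB1.IsAmple ((Scheme.Modules.pullback (𝟙 X * (toUnit X ≫ y)).left).obj L) :=
    Groth.Chow.isAmple_pullback_of_isAffineHom _ hL
  refine (subsingleton_HH_pullback_iff (𝟙 X * (toUnit X ≫ y)).left X.hom L j).1 ?_
  generalize hMdef : (Scheme.Modules.pullback (𝟙 X * (toUnit X ≫ y)).left).obj L = M at hM ⊢
  have hsym : opull (𝟙 X)⁻¹ (cls hM.1) = cls hM.1 := by
    subst hMdef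
    rw [show cls hM.1 = opull (𝟙 X * (toUnit X ≫ y)) (cls hL.1) from (pull_cls _ hL.1).symm]
    exact hy
  have : IsLocallyNoetherian X.left := LocallyOfFiniteType.isLocallyNoetherian X.hom
  obtain ⟨g, hg⟩ := Groth.FibreDim.exists_dim_eq_nat X
  obtain ⟨d₀, hd₀⟩ := PnCoh.exists_subsingleton_of_isAmple X.hom hM (Coh.structureModule X.left)
    (EulerDeg.isCoh_of_isInvertible (PicLoc.isInvertible_structureModule _))
  obtain ⟨p, hpge, hp⟩ := Nat.exists_infinite_primes (ringChar k + d₀ + 2)
  have hpk : (p : k) ≠ 0 := fun h0 => by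
    have hdvd := (ringChar.spec k p).1 h0
    rcases hp.eq_one_or_self_of_dvd _ hdvd with h1 | h1
    · exact CharP.ringChar_ne_one h1
    · omega
  have hd : (p : ℤ) ≠ 0 := by exact_mod_cast hp.ne_zero
  obtain ⟨h1, h2, h3⟩ := Groth.AbVarMul.isogeny_zpow (A := X) hd
  have : LocallyOfFinitePresentation (𝟙 X ^ (p : ℤ) : X ⟶ X).left :=
    Groth.AlgGrp1.lfp_left (𝟙 X ^ (p : ℤ) : X ⟶ X)
  have hdeg : ((p ^ (2 * g) : ℕ) : k) ≠ 0 := by
    rw [Nat.cast_pow]
    exact pow_ne_zero _ hpk
  refine subsingleton_HH_of_pullback X.hom (𝟙 X ^ (p : ℤ) : X ⟶ X).left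
    ⟨⟨h1, h2, inferInstance⟩, fun z => by
      rw [Groth.AbVarMul.finrank_zpow hg hd z, Int.natAbs_natCast]⟩ hdeg hM.1 j ?_
  have hpow := isInvertible_tensorPow hM.1 (p ^ 2)
  have hO := PicLoc.isInvertible_structureModule X.left
  obtain ⟨i⟩ : Nonempty (CohB1.tensorMod (Coh.structureModule X.left) (CohB1.tensorPow M (p ^ 2)) ≅
      (Scheme.Modules.pullback (𝟙 X ^ (p : ℤ) : X ⟶ X).left).obj M) := by
    rw [nonempty_iso_iff (isInvertible_tensorMod hO hpow) (PicLoc.isInvertible_pullback _ hM.1),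
      cls_tensorMod hO hpow, cls_tensorPow hM.1, show cls hO = 1 from PicGrp.cls_structureModule_eq_one,
      _root_.one_mul, ← pull_cls _ hM.1]
    show _ = opull (𝟙 X ^ (p : ℤ) : X ⟶ X) (cls hM.1)
    rw [Groth.AbVarMul.opull_zpow_symm _ hsym, Int.natAbs_natCast]
  exact PnCoh.subsingleton_HH_of_iso X.hom i
    (hd₀ (p ^ 2) (by nlinarith) j hj)

/-- An ample module on an abelian variety has a nonzero section. -/
theorem nontrivial_HH_zero_of_isAmple {L : X.left.Modules} (hL : CohB1.IsAmple L) :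
    Nontrivial (Coh.HH X.left L 0) := by
  obtain ⟨n, hn⟩ := exists_nontrivial_HH_of_finite_fixed hL.1 (finite_fixed hL)
  rcases Nat.eq_zero_or_pos n with rfl | hpos
  · exact hn
  · exact absurd (subsingleton_HH_pos_of_isAmple hL hpos) (not_subsingleton_iff_nontrivial.2 hn)

end Groth.AbvarAmple
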