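import Groth.Agent.AbvarAmple.Slices
import Groth.Agent.AbVarMul.Ample
import Groth.Agent.Chow.VeryAmplePn
import Groth.Agent.Ega2Proj.QuasiAffineAmple

/-!
# Finiteness of the group of points fixing an ample class
-/

universe u

open CategoryTheory MonoidalCategory CartesianMonoidalCategory MonObj GrpObj AlgebraicGeometry
open TopologicalSpace

namespace Groth.AbvarAmple

open Groth.Abvar Groth.Abvar.PicCalc

variable {k : Type u} [Field k]

/-- A proper integral scheme over a field which is quasi-affine is a point. -/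
theorem subsingleton_of_isQuasiAffine {X : Scheme.{u}} (f : X ⟶ Spec (CommRingCat.of k)) [IsProper f]
    [IsIntegral X] [X.IsQuasiAffine] : Subsingleton X := by
  have hf := isField_of_universallyClosed k f
  have : Subsingleton ↥(Spec Γ(X, ⊤)) := by
    let := hf.toField
    exact inferInstanceAs (Subsingleton (PrimeSpectrum Γ(X, ⊤)))
  exact ⟨fun a b => X.toSpecΓ.isOpenEmbedding.injective (Subsingleton.elim _ _)⟩

variable {A : Over (Spec (CommRingCat.of k))} [GrpObj A] [IsProper A.hom]
  [GeometricallyIntegral A.hom]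

theorem isIso_inv_left : IsIso (𝟙 A)⁻¹.left := by
  rw [← GrpObj.inv_eq_inv]
  have h : (ι[A] : A ⟶ A) ≫ ι[A] = 𝟙 A := by
    rw [GrpObj.inv_eq_inv, GrpObj.comp_inv, Category.comp_id, _root_.inv_inv]
  have : IsIso (ι[A] : A ⟶ A) := ⟨ι[A], h, h⟩
  exact inferInstanceAs (IsIso ((Over.forget _).map (ι[A] : A ⟶ A)))

/-- A subvariety all of whose points fix an ample class is a point. -/
theorem subsingleton_of_fixed [IsAlgClosed k] {Z : Over (Spec (CommRingCat.of k))} [IsProper Z.hom]
    [IsIntegral Z.left] {L : A.left.Modules} (hL : CohB1.IsAmple L) (j : Z ⟶ A)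
    [IsAffineHom j.left]
    (hj : ∀ s : 𝟙_ (Over (Spec (CommRingCat.of k))) ⟶ Z,
      opull (𝟙 A * (toUnit A ≫ (s ≫ j))) (cls hL.1) = cls hL.1) :
    Subsingleton Z.left := by
  have := isIso_inv_left (A := A)
  have hinv : j⁻¹ = j ≫ (𝟙 A)⁻¹ := by rw [GrpObj.comp_inv, Category.comp_id]
  have : IsAffineHom (j⁻¹).left := by rw [hinv, Over.comp_left]; infer_instance
  have h := opull_mul_of_fixed (cls hL.1) j hj j⁻¹ (𝟙 Z)
  rw [Category.id_comp, inv_mul_cancel, opull_one] at h
  have h1 := PicLoc.isInvertible_pullback (j⁻¹).left hL.1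
  have h2 := PicLoc.isInvertible_pullback j.left hL.1
  have hI : ClSub.IsInverseOf ((Scheme.Modules.pullback (j⁻¹).left).obj L)
      ((Scheme.Modules.pullback j.left).obj L) := by
    show Nonempty _
    rw [nonempty_iso_structure_iff (isInvertible_tensorMod h1 h2), cls_tensorMod h1 h2,
      ← pull_cls _ hL.1, ← pull_cls _ hL.1]
    exact h.symm
  have : CompactSpace Z.left := QuasiCompact.compactSpace_of_compactSpace Z.hom
  have := Groth.Ega2Proj.isQuasiAffine_of_isInverseOf hI
    (Groth.Chow.isAmple_pullback_of_isAffineHom _ hL) (Groth.Chow.isAmple_pullback_of_isAffineHom _ hL)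
  exact subsingleton_of_isQuasiAffine Z.hom

/-- An ample class is fixed by finitely many points only. -/
theorem finite_fixed [IsAlgClosed k] {L : A.left.Modules} (hL : CohB1.IsAmple L) :
    Set.Finite {a : 𝟙_ (Over (Spec (CommRingCat.of k))) ⟶ A |
      opull (𝟙 A * (toUnit A ≫ a)) (cls hL.1) = cls hL.1} := by
  let c := cls hL.1
  obtain ⟨S, hS, hSa⟩ := Groth.Abvar.Cube.exists_isClosed_slice_trivial (X := A) (Y := A)
    (opull (fst A A * snd A A) c / opull (fst A A) c)
  have key : ∀ a, pt a ∈ S ↔ opull (𝟙 A * (toUnit A ≫ a)) c = c := fun a => by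
    rw [show pt a ∈ S ↔ _ from hSa a, map_div, ← opull_comp, ← opull_comp, MonObj.comp_mul, lift_fst,
      lift_snd, opull_id, div_eq_one]
  suffices S.Finite from
    (this.preimage pt_injective.injOn).subset fun a ha => (key a).2 ha
  have : IsLocallyNoetherian A.left := LocallyOfFiniteType.isLocallyNoetherian A.hom
  have : CompactSpace A.left := QuasiCompact.compactSpace_of_compactSpace A.hom
  have : IsNoetherian A.left := {}
  obtain ⟨T, hTf, hTc, hTi, hST⟩ := NoetherianSpace.exists_finite_set_isClosed_irreducible hS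
  rw [hST]
  refine hTf.sUnion fun C hC => Set.Subsingleton.finite ?_
  obtain ⟨Z, j, hj, hZr, hZ⟩ := exists_reduced_on A ⟨C, hTc C hC⟩
  have : IsProper Z.hom := by
    rw [← Over.w j]
    infer_instance
  have : IrreducibleSpace Z.left := by
    have hi : IsPreirreducible (Set.univ : Set Z.left) := by
      intro u v hu hv hune hvne
      obtain ⟨u', hu', rfl⟩ := j.left.isClosedEmbedding.toIsEmbedding.toIsInducing.isOpen_iff.1 hu
      obtain ⟨v', hv', rfl⟩ := j.left.isClosedEmbedding.toIsEmbedding.toIsInducing.isOpen_iff.1 hv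
      obtain ⟨a, -, ha⟩ := hune
      obtain ⟨b, -, hb⟩ := hvne
      obtain ⟨x, hxC, hxu, hxv⟩ := (hTi C hC).isPreirreducible u' v' hu' hv'
        ⟨_, hZ.subset ⟨a, rfl⟩, ha⟩ ⟨_, hZ.subset ⟨b, rfl⟩, hb⟩
      obtain ⟨z, rfl⟩ := hZ.symm.subset hxC
      exact ⟨z, trivial, hxu, hxv⟩
    obtain ⟨x, hx⟩ := (hTi C hC).nonempty
    rw [show C = Set.range j.left.base from hZ.symm] at hx
    obtain ⟨z, -⟩ := hx
    exact { isPreirreducible_univ := hi, toNonempty := ⟨z⟩ }
  have : IsIntegral Z.left := isIntegral_of_irreducibleSpace_of_isReduced _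
  have := subsingleton_of_fixed hL j fun s => (key (s ≫ j)).1 (by
    have hmem : pt (s ≫ j) ∈ C := by
      rw [pt_comp, show C = Set.range j.left.base from hZ.symm]
      exact ⟨_, rfl⟩
    rw [hST]
    exact Set.mem_sUnion.2 ⟨C, hC, hmem⟩)
  rw [show C = Set.range j.left.base from hZ.symm]
  exact Set.subsingleton_range _

end Groth.AbvarAmple
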