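import Groth.Agent.AbvarAmple.Slices
import Groth.Agent.AbVarMul.Isogeny
import Groth.Agent.Abvar.Seesaw.FieldDescent

/-!
# Classes scaled by a multiplication are additive
-/

universe u

open CategoryTheory MonoidalCategory CartesianMonoidalCategory MonObj GrpObj AlgebraicGeometry
open TopologicalSpace



namespace Groth.AbvarAmple

open Groth.Abvar Groth.Abvar.PicCalc

variable {k : Type u} [Field k] {A : Over (Spec (CommRingCat.of k))} [GrpObj A]

/-- Every rational point is an `M`-th power. -/
theorem exists_pow_eq [IsAlgClosed k] [IsProper A.hom] [GeometricallyIntegral A.hom]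
    (a : 𝟙_ (Over (Spec (CommRingCat.of k))) ⟶ A) {M : ℕ} (hM : M ≠ 0) :
    ∃ b : 𝟙_ (Over (Spec (CommRingCat.of k))) ⟶ A, b ^ M = a := by
  have := LocallyOfFiniteType.jacobsonSpace A.hom
  have hs := Groth.AbVarMul.surjective_pow (A := A) hM
  let f : A ⟶ A := 𝟙 A ^ M
  have hclosed : IsClosed ({pt a} : Set A.left) :=
    (pointEquivClosedPoint A.hom ⟨a.left, Over.w a⟩).2
  obtain ⟨x, hx, hxc⟩ := nonempty_inter_closedPoints (Z := f.left.base ⁻¹' {pt a})
    (Set.singleton_nonempty (pt a) |>.preimage hs.surj)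
    (hclosed.preimage f.left.continuous).isLocallyClosed
  obtain ⟨b, rfl⟩ := exists_rationalPoint A hxc
  refine ⟨b, pt_injective ?_⟩
  rw [show b ^ M = b ≫ f by rw [MonObj.comp_pow, Category.comp_id], pt_comp]
  exact hx

/-- Over an algebraically closed field a class `c` with `[n]^* c = c ^ n`, `n ≥ 2`, is invariant under
translations. -/
theorem invariant_of_pow [IsAlgClosed k] [IsProper A.hom] [GeometricallyIntegral A.hom]
    (c : PicLoc.PicSet A.left) {n : ℕ} (hn : 2 ≤ n) (h : opull (𝟙 A ^ n) c = c ^ n)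
    (a : 𝟙_ (Over (Spec (CommRingCat.of k))) ⟶ A) :
    opull (𝟙 A * (toUnit A ≫ a)) c = c := by
  have hcomm : IsCommMonObj A := isCommMonObj_of_isProper_of_geometricallyIntegral A
  let t := fun b : 𝟙_ (Over (Spec (CommRingCat.of k))) ⟶ A => (𝟙 A * (toUnit A ≫ b) : A ⟶ A)
  let φ := fun b => opull (t b) c / c
  have hsq : ∀ b b', φ (b * b') = φ b * φ b' := fun b b' => by
    have e := Groth.Abvar.Cube.opull_square c (𝟙 A) b b'
    rw [opull_id] at e
    simp only [φ, t]
    rw [div_mul_div_comm, ← e, mul_div_mul_right_eq_div]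
  have hpow : ∀ b (m : ℕ), φ (b ^ m) = φ b ^ m := fun b m => by
    induction m with
    | zero =>
      simp only [φ, t, _root_.pow_zero]
      rw [translate_one, opull_id, div_self']
    | succ m ih => rw [pow_succ, hsq, ih, pow_succ]
  let C := n.choose 2
  have hC : C ≠ 0 := (Nat.choose_pos hn).ne'
  have hd : (c * opull (𝟙 A)⁻¹ c) ^ C = 1 := by
    rw [Groth.AbVarMul.opull_pow, opull_id,
      show (n + 1).choose 2 = n + C by rw [Nat.choose_succ_succ' n 1, Nat.choose_one_right],
      pow_add, _root_.mul_assoc, mul_eq_left] at h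
    rw [mul_pow]
    exact h
  have hφ : ∀ b, φ b ^ (2 * C) = 1 := fun b => by
    have e := Groth.Abvar.Cube.opull_inv_translate c b
    have e2 : φ b ^ 2 = opull (t b) (c * opull (𝟙 A)⁻¹ c) / (c * opull (𝟙 A)⁻¹ c) := by
      rw [map_mul, mul_div_mul_comm, _root_.pow_two]
      refine congrArg (φ b * ·) ?_
      simp only [φ, t]
      rw [div_eq_div_iff_mul_eq_mul, e, _root_.mul_comm]
    rw [pow_mul, e2, div_pow, ← map_pow, hd, map_one, div_one]
  obtain ⟨b, rfl⟩ := exists_pow_eq a (M := 2 * C) (by omega)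
  exact div_eq_one.1 ((hpow b _).trans (hφ b))

set_option backward.isDefEq.respectTransparency false in
/-- Over any field a class `c` with `[n]^* c = c ^ n`, `n ≥ 2`, is additive. -/
theorem additive_of_pow [IsProper A.hom] [GeometricallyIntegral A.hom]
    (c : PicLoc.PicSet A.left) {n : ℕ} (hn : 2 ≤ n) (h : opull (𝟙 A ^ n) c = c ^ n) :
    opull (fst A A * snd A A) c = opull (fst A A) c * opull (snd A A) c := by
  let K := AlgebraicClosure k
  let t : Spec (CommRingCat.of K) ⟶ Spec (CommRingCat.of k) :=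
    Spec.map (CommRingCat.ofHom (algebraMap k K))
  let F := Over.pullback t
  let : GrpObj (F.obj A) := Functor.grpObjObj
  have : IsProper (F.obj A).hom := inferInstanceAs (IsProper (Limits.pullback.snd A.hom t))
  have : GeometricallyIntegral (F.obj A).hom :=
    inferInstanceAs (GeometricallyIntegral (Limits.pullback.snd A.hom t))
  let p : (F.obj A).left ⟶ A.left := Limits.pullback.fst A.hom t
  let c' := pull p c
  have hmap : ∀ f : A ⟶ A, (F.map f).left ≫ p = p ≫ f.left := fun f => Limits.pullback.lift_fst _ _ _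
  have hpow : opull (𝟙 (F.obj A) ^ n) c' = c' ^ n := by
    have e : F.map (𝟙 A ^ n : A ⟶ A) = 𝟙 _ ^ n := by
      have := (F.homMonoidHom (X := A) (M := A)).map_pow (𝟙 A) n
      simpa using this
    rw [← e, ← map_pow, ← h]
    change pull _ (pull p c) = pull p (pull _ c)
    rw [← pull_comp, ← pull_comp, hmap]
  have hadd := Groth.Abvar.Cube.opull_mul_of_invariant c' (invariant_of_pow c' hn hpow)
  let μF : F.obj A ⊗ F.obj A ⟶ F.obj (A ⊗ A) := Functor.LaxMonoidal.μ F A A
  let g : (F.obj A ⊗ F.obj A).left ⟶ (A ⊗ A).left := μF.left ≫ Limits.pullback.fst (A ⊗ A).hom t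
  have hg : ∀ f : A ⊗ A ⟶ A, g ≫ f.left = (μF ≫ F.map f).left ≫ p := fun f => by
    rw [Over.comp_left, Category.assoc, Category.assoc]
    exact congrArg (μF.left ≫ ·) (Limits.pullback.lift_fst _ _ _).symm
  have hf : μF ≫ F.map (fst A A) = fst _ _ := Functor.Monoidal.μ_fst F A A
  have hs : μF ≫ F.map (snd A A) = snd _ _ := Functor.Monoidal.μ_snd F A A
  have hm : μF ≫ F.map (fst A A * snd A A) = fst _ _ * snd _ _ := by
    have e : F.map (fst A A * snd A A) = F.map (fst A A) * F.map (snd A A) :=
      (F.homMonoidHom (X := A ⊗ A) (M := A)).map_mul _ _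
    rw [e, MonObj.comp_mul, hf, hs]
  have key : pull g (opull (fst A A * snd A A) c / (opull (fst A A) c * opull (snd A A) c)) = 1 := by
    rw [map_div, map_mul, ← pull_comp, ← pull_comp, ← pull_comp, hg, hg, hg, hm, hf, hs,
      pull_comp, pull_comp, pull_comp]
    exact div_eq_one.2 hadd
  obtain ⟨L, hL, hLe⟩ := PicGrp.exists_eq_cls
    (opull (fst A A * snd A A) c / (opull (fst A A) c * opull (snd A A) c))
  rw [← div_eq_one, hLe, ← nonempty_iso_structure_iff]
  rw [hLe] at key
  have sqA : IsPullback (fst A A).left (snd A A).left A.hom A.hom := IsPullback.of_hasPullback _ _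
  have : IsProper (snd A A).left := MorphismProperty.of_isPullback sqA ‹_›
  have : Flat (snd A A).left := MorphismProperty.of_isPullback sqA (inferInstance : Flat A.hom)
  have hw : (snd A A).left ≫ A.hom = (A ⊗ A).hom := Over.w _
  have : IsProper (A ⊗ A).hom := hw ▸ inferInstanceAs (IsProper (_ ≫ _))
  have H : IsPullback g (F.obj A ⊗ F.obj A).hom (A ⊗ A).hom t := by
    refine IsPullback.of_iso (IsPullback.of_hasPullback (A ⊗ A).hom t)
      ((Over.forget _).mapIso (asIso μF)).symm (Iso.refl _) (Iso.refl _) (Iso.refl _) ?_ ?_ (by simp) (by simp)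
    · simp only [g, Iso.refl_hom, Category.comp_id, Iso.symm_hom, Functor.mapIso_inv]
      rw [← Category.assoc, show (Over.forget _).map (asIso μF).inv ≫ μF.left = 𝟙 _ from
        congrArg Over.Hom.left (asIso μF).inv_hom_id]
      exact (Category.id_comp _).symm
    · simp only [Iso.refl_hom, Category.comp_id, Iso.symm_hom, Functor.mapIso_inv]
      exact (Over.w (asIso μF).inv).symm
  have sq : IsPullback (fst (F.obj A) (F.obj A)).left (snd (F.obj A) (F.obj A)).left (F.obj A).hom
      (F.obj A).hom := IsPullback.of_hasPullback _ _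
  have : Flat (snd (F.obj A) (F.obj A)).left :=
    MorphismProperty.of_isPullback sq (inferInstance : Flat (F.obj A).hom)
  have : IsProper (snd (F.obj A) (F.obj A)).left := MorphismProperty.of_isPullback sq ‹_›
  have : GeometricallyIntegral (snd (F.obj A) (F.obj A)).left :=
    MorphismProperty.of_isPullback sq ‹_›
  have : IsLocallyNoetherian (F.obj A).left := LocallyOfFiniteType.isLocallyNoetherian (F.obj A).hom
  have := Seesaw.locallyOfFinitePresentation_of_isNoetherian (snd (F.obj A) (F.obj A)).left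
  have : UniversallyOpen (snd (F.obj A) (F.obj A)).left := inferInstance
  have hw' : (snd (F.obj A) (F.obj A)).left ≫ (F.obj A).hom = (F.obj A ⊗ F.obj A).hom := Over.w _
  have : GeometricallyIntegral (F.obj A ⊗ F.obj A).hom :=
    hw' ▸ Cube.geometricallyIntegral_comp (snd (F.obj A) (F.obj A)).left (F.obj A).hom
  have : IsProper (F.obj A ⊗ F.obj A).hom := hw' ▸ inferInstanceAs (IsProper (_ ≫ _))
  refine Seesaw.trivial_of_bc H ?_ hL ?_
  · exact Seesaw.toGlobal_bijective_of_h0Const (L := K) (π := (F.obj A ⊗ F.obj A).hom)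
      (g := 𝟙 (F.obj A ⊗ F.obj A).left) (q := (F.obj A ⊗ F.obj A).hom) (𝟙 (Spec (CommRingCat.of K)))
      (IsLocalRing.closedPoint K) rfl (Seesaw.h0Const_of_integral (F.obj A ⊗ F.obj A).hom _)
      (IsPullback.of_horiz_isIso ⟨(Category.id_comp _).trans (Category.comp_id _).symm⟩)
  · rw [nonempty_iso_structure_iff (PicLoc.isInvertible_pullback _ hL), ← pull_cls _ hL]
    exact key

end Groth.AbvarAmple

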