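import Groth.Agent.AbvarAmple.PhiSurj
import Groth.Agent.AbvarAmple.PowInvariant
import Groth.Agent.Abvar.Dual.AlgZero

/-!
# Translation invariant classes on an abelian variety are algebraically equivalent to zero
-/

universe u

open CategoryTheory Limits MonoidalCategory CartesianMonoidalCategory MonObj GrpObj AlgebraicGeometry

namespace Groth.AbvarAmple

open Groth.Abvar Groth.Abvar.PicCalc

variable {k : Type u} [Field k] {X : Over (Spec (CommRingCat.of k))} [GrpObj X]

/-- Translation isomorphisms in terms of classes. -/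
theorem translate_iso_iff {L : X.left.Modules} (hL : PicF.IsInvertible L)
    (a : 𝟙_ (Over (Spec (CommRingCat.of k))) ⟶ X) :
    Nonempty ((Scheme.Modules.pullback (𝟙 X * (toUnit X ≫ a)).left).obj L ≅ L) ↔
      opull (𝟙 X * (toUnit X ≫ a)) (cls hL) = cls hL := by
  rw [nonempty_iso_iff (PicLoc.isInvertible_pullback _ hL) hL, ← pull_cls _ hL]

theorem setOf_translate_iso_eq {L : X.left.Modules} (hL : PicF.IsInvertible L) :
    {a : 𝟙_ (Over (Spec (CommRingCat.of k))) ⟶ X |
      Nonempty ((Scheme.Modules.pullback (𝟙 X * (toUnit X ≫ a)).left).obj L ≅ L)} =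
      {a | opull (𝟙 X * (toUnit X ≫ a)) (cls hL) = cls hL} :=
  Set.ext fun a => translate_iso_iff hL a

/-- The module form of surjectivity of `φ_L`. -/
theorem exists_translate_iso [IsAlgClosed k] [IsProper X.hom] [GeometricallyIntegral X.hom]
    {L : X.left.Modules} (hL : PicF.IsInvertible L)
    (hnd : {a : 𝟙_ (Over (Spec (CommRingCat.of k))) ⟶ X |
      Nonempty ((Scheme.Modules.pullback (𝟙 X * (toUnit X ≫ a)).left).obj L ≅ L)}.Finite)
    {M : X.left.Modules} (hM : PicF.IsInvertible M)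
    (hM0 : ∀ a : 𝟙_ (Over (Spec (CommRingCat.of k))) ⟶ X,
      Nonempty ((Scheme.Modules.pullback (𝟙 X * (toUnit X ≫ a)).left).obj M ≅ M)) :
    ∃ x : 𝟙_ (Over (Spec (CommRingCat.of k))) ⟶ X,
      opull (𝟙 X * (toUnit X ≫ x)) (cls hL) = cls hL * cls hM :=
  exists_translate_eq_mul (cls hL) (setOf_translate_iso_eq hL ▸ hnd) (cls hM)
    fun a => (translate_iso_iff hM a).1 (hM0 a)

/-- Classes algebraically equivalent to zero are translation invariant. -/
theorem invariant_of_isAlgEquivZero [IsProper X.hom] [GeometricallyIntegral X.hom]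
    {L : X.left.Modules} (hL : PicF.IsInvertible L)
    (h : @Pic13.IsAlgEquivZero k _ X.left ⟨X.hom⟩ L)
    (a : 𝟙_ (Over (Spec (CommRingCat.of k))) ⟶ X) :
    opull (𝟙 X * (toUnit X ≫ a)) (cls hL) = cls hL := by
  have hd := congrArg (opull (lift (𝟙 X) (toUnit X ≫ a)))
    (Dual.dfct_eq_one_of_isAlgEquivZero X hL h)
  simp only [Dual.dfct, map_div, map_mul, map_one, ← opull_comp, MonObj.comp_mul, MonObj.comp_one,
    lift_fst, lift_snd, opull_one, opull_id, opull_toUnit_comp, _root_.mul_one, div_eq_one] at hd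
  exact hd

/-- Translation invariant classes are algebraically equivalent to zero. -/
theorem isAlgEquivZero_of_invariant [IsAlgClosed k] [IsProper X.hom] [GeometricallyIntegral X.hom]
    {M : X.left.Modules} (hM : PicF.IsInvertible M)
    (hM0 : ∀ a : 𝟙_ (Over (Spec (CommRingCat.of k))) ⟶ X,
      opull (𝟙 X * (toUnit X ≫ a)) (cls hM) = cls hM) :
    @Pic13.IsAlgEquivZero k _ X.left ⟨X.hom⟩ M := by
  obtain ⟨L, hL⟩ := Groth.AbVarMul.exists_isAmple (A := X)
  let c := cls hL.1
  obtain ⟨x, hx⟩ := exists_translate_eq_mul c (finite_fixed hL) (cls hM) hM0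
  obtain ⟨N, hN, hNc⟩ := PicGrp.exists_eq_cls
    (opull (fst X X * snd X X) c / (opull (fst X X) c * opull (snd X X) c))
  have := Groth.Abvar.isIntegral_left X
  have hslice : ∀ t : 𝟙_ (Over (Spec (CommRingCat.of k))) ⟶ X,
      opull (lift (𝟙 X) (toUnit X ≫ t)) (cls hN) = opull (𝟙 X * (toUnit X ≫ t)) c / c := by
    intro t
    show opull _ (PicGrp.cls N hN) = _
    rw [← hNc, map_div, map_mul, ← opull_comp, ← opull_comp, ← opull_comp, MonObj.comp_mul,
      lift_fst, lift_snd, opull_id, opull_toUnit_comp, _root_.mul_one]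
  have hsl : ∀ (t : 𝟙_ (Over (Spec (CommRingCat.of k))) ⟶ X) (ht : t.left ≫ X.hom = 𝟙 _),
      @Pic13.sliceAt k _ X.left ⟨X.hom⟩ X.left X.hom t.left ht = (lift (𝟙 X) (toUnit X ≫ t)).left := by
    intro t ht
    refine pullback.hom_ext ((pullback.lift_fst _ _ _).trans ?_) ((pullback.lift_snd _ _ _).trans ?_)
    · exact (congrArg Over.Hom.left (lift_fst (𝟙 X) (toUnit X ≫ t))).symm
    · refine Eq.symm ((congrArg Over.Hom.left (lift_snd (𝟙 X) (toUnit X ≫ t))).trans ?_)
      rw [Over.comp_left, Over.toUnit_left]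
      rfl
  refine ⟨X.left, X.hom, inferInstance, inferInstance, inferInstance, N, hN, x.left,
    (1 : 𝟙_ (Over (Spec (CommRingCat.of k))) ⟶ X).left, Over.w x, Over.w _, ?_, ?_⟩
  · show Nonempty ((Scheme.Modules.pullback _).obj N ≅ M)
    rw [hsl x, nonempty_iso_iff (PicLoc.isInvertible_pullback _ hN) hM, ← pull_cls _ hN]
    show opull _ (cls hN) = _
    rw [hslice, hx, mul_div_cancel_left]
  · show Nonempty ((Scheme.Modules.pullback _).obj N ≅ _)
    rw [hsl 1, nonempty_iso_structure_iff (PicLoc.isInvertible_pullback _ hN), ← pull_cls _ hN]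
    show opull _ (cls hN) = _
    rw [hslice, translate_one, opull_id, div_self']

/-- A class with an invariant power is invariant. -/
theorem invariant_of_invariant_pow [IsAlgClosed k] [IsProper X.hom] [GeometricallyIntegral X.hom]
    {c : PicLoc.PicSet X.left} {n : ℕ} (hn : 0 < n)
    (h : ∀ a : 𝟙_ (Over (Spec (CommRingCat.of k))) ⟶ X,
      opull (𝟙 X * (toUnit X ≫ a)) (c ^ n) = c ^ n)
    (a : 𝟙_ (Over (Spec (CommRingCat.of k))) ⟶ X) : opull (𝟙 X * (toUnit X ≫ a)) c = c := by
  have := Groth.GrpschAbsch.isCommMonObj_of_isProper X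
  let φ := fun b : 𝟙_ (Over (Spec (CommRingCat.of k))) ⟶ X => opull (𝟙 X * (toUnit X ≫ b)) c / c
  have hsq : ∀ b b', φ (b * b') = φ b * φ b' := fun b b' => by
    have e := Groth.Abvar.Cube.opull_square c (𝟙 X) b b'
    rw [opull_id] at e
    simp only [φ]
    rw [div_mul_div_comm, ← e, mul_div_mul_right_eq_div]
  have hpow : ∀ b (m : ℕ), φ (b ^ m) = φ b ^ m := fun b m => by
    induction m with
    | zero =>
      simp only [φ, _root_.pow_zero]
      rw [translate_one, opull_id, div_self']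
    | succ m ih => rw [pow_succ, hsq, ih, pow_succ]
  obtain ⟨b, rfl⟩ := exists_pow_eq a hn.ne'
  refine div_eq_one.1 ((hpow b n).trans ?_)
  simp only [φ, div_pow, ← map_pow, h b, div_self']

/-- An ample module with a nonzero section. -/
theorem exists_isAmple_section [IsAlgClosed k] [IsProper X.hom] [GeometricallyIntegral X.hom] :
    ∃ (W : X.left.Modules) (s : Coh.structureModule X.left ⟶ W), CohB1.IsAmple W ∧ s ≠ 0 := by
  obtain ⟨L, hL⟩ := Groth.AbVarMul.exists_isAmple (A := X)
  obtain ⟨n, s, hx, hs⟩ := hL.2.2 (η[X].left.base (IsLocalRing.closedPoint k))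
  refine ⟨_, s, Groth.AbVarMul.isAmple_of_affine_locus _ (isInvertible_tensorPow hL.1 _) s hs ⟨_, hx⟩, ?_⟩
  rintro rfl
  rw [Groth.PropsBasic.Ample.genLocus_eq_gloc] at hx
  have h0 : PicAux.gsec (0 : Coh.structureModule X.left ⟶ CohB1.tensorPow L (n + 1)) = 0 := rfl
  rw [h0] at hx
  have hg := Groth.PropsBasic.Ample.gen_gloc (0 : Γ(CohB1.tensorPow L (n + 1), ⊤))
    (le_refl (Groth.PropsBasic.Ample.gloc (0 : Γ(CohB1.tensorPow L (n + 1), ⊤))))
  have h1 : (1 : Γ(X.left, Groth.PropsBasic.Ample.gloc (0 : Γ(CohB1.tensorPow L (n + 1), ⊤)))) = 0 :=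
    hg.smul_inj le_rfl (by
      rw [PicAux.res_zero, PicAux.res_self, smul_zero, smul_zero])
  have h2 := congrArg (X.left.presheaf.germ _ _ hx) h1
  rw [map_one, map_zero] at h2
  exact one_ne_zero h2

end Groth.AbvarAmple
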