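import Groth.Agent.Abvar.AlgClosedAux
import Groth.Agent.Abvar.PicCalc

/-!
# Rational points and translations of a group scheme over an algebraically closed field
-/

universe u

open CategoryTheory MonoidalCategory CartesianMonoidalCategory MonObj GrpObj AlgebraicGeometry

namespace Groth.AbvarAmple

variable {k : Type u} [Field k]

/-- The point of the underlying space of a rational point. -/
noncomputable abbrev pt {X : Over (Spec (CommRingCat.of k))}
    (x : 𝟙_ (Over (Spec (CommRingCat.of k))) ⟶ X) : X.left :=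
  x.left.base (IsLocalRing.closedPoint k)

theorem pt_comp {X Y : Over (Spec (CommRingCat.of k))}
    (x : 𝟙_ (Over (Spec (CommRingCat.of k))) ⟶ X) (f : X ⟶ Y) :
    pt (x ≫ f) = f.left.base (pt x) := by
  simp only [pt, Over.comp_left, Scheme.Hom.comp_base, TopCat.coe_comp, Function.comp_apply]

theorem range_eq {X : Over (Spec (CommRingCat.of k))}
    (x : 𝟙_ (Over (Spec (CommRingCat.of k))) ⟶ X) : Set.range x.left.base = {pt x} := by
  have : Subsingleton ↥(𝟙_ (Over (Spec (CommRingCat.of k)))).left :=
    inferInstanceAs (Subsingleton (PrimeSpectrum k))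
  ext y
  constructor
  · rintro ⟨w, rfl⟩
    rw [Subsingleton.elim w (IsLocalRing.closedPoint k)]
    rfl
  · rintro rfl
    exact ⟨_, rfl⟩

theorem surjective_of_comp_eq_id {X : Over (Spec (CommRingCat.of k))} {f g : X ⟶ X}
    (h : g ≫ f = 𝟙 X) : Function.Surjective f.left.base := fun y => by
  refine ⟨g.left.base y, ?_⟩
  have := congrArg (fun q : X ⟶ X => q.left.base y) h
  simpa only [Over.comp_left, Scheme.Hom.comp_base, TopCat.coe_comp, Function.comp_apply,
    Over.id_left, Scheme.Hom.id_base, TopCat.hom_id, ContinuousMap.id_apply] using this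

/-- A nonempty open subset of a scheme locally of finite type over an algebraically closed field
contains a rational point. -/
theorem exists_point_mem [IsAlgClosed k] (X : Over (Spec (CommRingCat.of k)))
    [LocallyOfFiniteType X.hom] {U : Set X.left} (hU : IsOpen U) (hne : U.Nonempty) :
    ∃ s : 𝟙_ (Over (Spec (CommRingCat.of k))) ⟶ X, pt s ∈ U := by
  have := LocallyOfFiniteType.jacobsonSpace X.hom
  obtain ⟨c, hcU, hc⟩ := nonempty_inter_closedPoints hne hU.isLocallyClosed
  obtain ⟨s, hs⟩ := Groth.Abvar.exists_rationalPoint X hc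
  exact ⟨s, by show s.left.base _ ∈ U; rw [hs]; exact hcU⟩

variable {A : Over (Spec (CommRingCat.of k))} [GrpObj A]

/-- A point multiplied by a constant. -/
theorem comp_mul_const {T : Over (Spec (CommRingCat.of k))} (w : T ⟶ A)
    (a : 𝟙_ (Over (Spec (CommRingCat.of k))) ⟶ A) :
    w ≫ (𝟙 A * (toUnit A ≫ a)) = w * (toUnit T ≫ a) := by
  rw [MonObj.comp_mul, Category.comp_id, ← Category.assoc, comp_toUnit]

theorem translate_comp (a b : 𝟙_ (Over (Spec (CommRingCat.of k))) ⟶ A) :
    (𝟙 A * (toUnit A ≫ a)) ≫ (𝟙 A * (toUnit A ≫ b)) = 𝟙 A * (toUnit A ≫ (a * b)) := by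
  rw [comp_mul_const, _root_.mul_assoc, MonObj.comp_mul]

theorem translate_one : 𝟙 A * (toUnit A ≫ (1 : 𝟙_ (Over (Spec (CommRingCat.of k))) ⟶ A)) = 𝟙 A := by
  rw [MonObj.comp_one]
  exact _root_.mul_one _

/-- The point of a translate. -/
theorem pt_translate (z a : 𝟙_ (Over (Spec (CommRingCat.of k))) ⟶ A) :
    pt (z * a) = (𝟙 A * (toUnit A ≫ a)).left.base (pt z) := by
  rw [← pt_comp, comp_mul_const, toUnit_unique (toUnit _) (𝟙 _), Category.id_comp]

/-- A translate of a subset contains a point iff the translated point is in the subset. -/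
theorem pt_mem_image_translate_iff (Z : Set A.left) (z a : 𝟙_ (Over (Spec (CommRingCat.of k))) ⟶ A) :
    pt z ∈ (𝟙 A * (toUnit A ≫ a)).left.base '' Z ↔ pt (z * a⁻¹) ∈ Z := by
  constructor
  · rintro ⟨w, hw, hwz⟩
    rw [pt_translate, ← hwz]
    convert hw
    have := congrArg (fun q : A ⟶ A => q.left.base w) (translate_comp a a⁻¹)
    simp only [mul_inv_cancel, translate_one, Over.comp_left, Scheme.Hom.comp_base, TopCat.coe_comp,
      Function.comp_apply, Over.id_left, Scheme.Hom.id_base] at this
    exact this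
  · intro h
    refine ⟨pt (z * a⁻¹), h, ?_⟩
    rw [← pt_translate, _root_.mul_assoc, inv_mul_cancel, _root_.mul_one]

end Groth.AbvarAmple
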