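import Mathlib.AlgebraicGeometry.Morphisms.Flat
import Mathlib.AlgebraicGeometry.Morphisms.ClosedImmersion
import Mathlib.AlgebraicGeometry.Sites.Fpqc

/-!
# Closed immersions through which a flat covering factors
-/

universe u

open CategoryTheory AlgebraicGeometry

namespace Groth.AbvarAmple

/-- A closed immersion through which a covering family of flat morphisms factors is an isomorphism. -/
theorem isIso_of_flat_cover {Z T : Scheme.{u}} (j : Z ⟶ T) [IsClosedImmersion j]
    (h : ∀ t : T, ∃ (U : Scheme.{u}) (f : U ⟶ T) (w : U ⟶ Z) (a : U), Flat f ∧ w ≫ j = f ∧ f a = t) :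
    IsIso j := by
  have hsurj : Function.Surjective j.base := fun t => by
    obtain ⟨U, f, w, a, -, rfl, rfl⟩ := h t
    exact ⟨w a, (Scheme.Hom.comp_apply w j a).symm⟩
  rw [isIso_iff_isIso_stalkMap]
  refine ⟨(TopCat.isoOfHomeo (j.isClosedEmbedding.toIsEmbedding.toHomeomorphOfSurjective hsurj)).isIso_hom, fun z => ?_⟩
  refine (ConcreteCategory.isIso_iff_bijective _).2 ⟨?_, j.stalkMap_surjective z⟩
  obtain ⟨U, f, w, a, hflat, rfl, hfa⟩ := h (j z)
  have hwa : w a = z := j.isClosedEmbedding.injective (by rw [← Scheme.Hom.comp_apply]; exact hfa)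
  subst hwa
  have hinj : Function.Injective ((w ≫ j).stalkMap a) := by
    algebraize [((w ≫ j).stalkMap a).hom]
    have : Module.FaithfullyFlat (T.presheaf.stalk ((w ≫ j) a)) (U.presheaf.stalk a) :=
      @Module.FaithfullyFlat.of_flat_of_isLocalHom _ _ _ _ _ _ _
        (Flat.stalkMap (w ≫ j) a) ((w ≫ j).toLRSHom.prop a)
    exact ‹RingHom.FaithfullyFlat _›.injective
  rw [Scheme.Hom.stalkMap_comp] at hinj
  exact Function.Injective.of_comp (f := w.stalkMap a) hinj

end Groth.AbvarAmple
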