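import Groth.Agent.AbvarAmple.InvariantVanish
import Groth.Agent.GrpschAbsch.AbVarEtale
import Groth.Agent.FlatStrata.FlatModel
import Groth.Agent.AbVarMul.Ample

/-!
# `φ_L` of a nondegenerate class reaches every translation invariant class
-/

universe u

open CategoryTheory Limits MonoidalCategory CartesianMonoidalCategory MonObj GrpObj AlgebraicGeometry
open TopologicalSpace

namespace Groth.AbvarAmple

open Groth.Abvar Groth.Abvar.PicCalc

variable {k : Type u} [Field k]

/-- The cohomology of the fibre at a rational point is that of the slice. -/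
theorem subsingleton_fiberH_iff_of_isPullback {P Q : Scheme.{u}}
    {Y : Over (Spec (CommRingCat.of k))} {π : P ⟶ Y.left} {g : Q ⟶ P}
    {q : Q ⟶ Spec (CommRingCat.of k)} (s : 𝟙_ (Over (Spec (CommRingCat.of k))) ⟶ Y)
    (H : IsPullback g q π s.left) (L : P.Modules) (n : ℕ) :
    Subsingleton (CohIII.fiberH π L (pt s) n) ↔
      Subsingleton (Coh.HH Q ((Scheme.Modules.pullback g).obj L) n) := by
  obtain ⟨d, hd⟩ := Cube.fromSpecResidueField_rational s
  let z : Spec (CommRingCat.of k) ⟶ Y.left := s.left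
  let d₀ := Y.left.descResidueField (Scheme.stalkClosedPointTo z)
  let d' : Spec (CommRingCat.of k) ⟶ Spec (Y.left.residueField (pt s)) := Spec.map d₀
  have hd' : d' ≫ Y.left.fromSpecResidueField (pt s) = s.left :=
    Scheme.descResidueField_stalkClosedPointTo_fromSpecResidueField _ _ z
  let e : π.fiber (pt s) ⟶ Q := H.lift (π.fiberι _) (π.fiberToSpecResidueField _ ≫ d)
    (by rw [Category.assoc, hd]; exact π.fiber_fac _)
  let e' : Q ⟶ π.fiber (pt s) := pullback.lift g (q ≫ d') (by rw [Category.assoc, hd']; exact H.w)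
  have hdd' : d ≫ d' = 𝟙 _ := by
    rw [← cancel_mono (Y.left.fromSpecResidueField (pt s)), Category.assoc, hd', hd, Category.id_comp]
  have hd'd : d' ≫ d = 𝟙 _ := by
    have hs : Mono s.left := by
      have : s.left ≫ Y.hom = 𝟙 _ := Over.w s
      exact (SplitMono.mk Y.hom this).mono
    rw [← cancel_mono s.left, Category.assoc, hd, hd']
    exact (Category.id_comp _).symm
  have h1 : e ≫ e' = 𝟙 _ := by
    refine pullback.hom_ext ?_ ?_
    · exact (Category.assoc _ _ _).trans (((congrArg (e ≫ ·) (pullback.lift_fst _ _ _)).trans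
        (H.lift_fst _ _ _)).trans (Category.id_comp _).symm)
    · refine (Category.assoc _ _ _).trans ((congrArg (e ≫ ·) (pullback.lift_snd _ _ _)).trans ?_)
      rw [← Category.assoc, H.lift_snd, Category.assoc, hdd', Category.comp_id]
      exact (Category.id_comp _).symm
  have h2 : e' ≫ e = 𝟙 _ := by
    refine H.hom_ext ?_ ?_
    · rw [Category.assoc, Category.id_comp, H.lift_fst]
      exact pullback.lift_fst _ _ _
    · rw [Category.assoc, Category.id_comp, H.lift_snd, ← Category.assoc,
        show e' ≫ π.fiberToSpecResidueField _ = q ≫ d' from pullback.lift_snd _ _ _, Category.assoc,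
        hd'd]
      exact Category.comp_id _
  have : IsIso e := ⟨e', h1, h2⟩
  have i : (Scheme.Modules.pullback e).obj ((Scheme.Modules.pullback g).obj L) ≅
      CohIII.fiberMod π L (pt s) := (Scheme.Modules.pullbackComp e g).app L ≪≫
    (Scheme.Modules.pullbackCongr (H.lift_fst _ _ _)).app L
  rw [← subsingleton_HH_pullback_iff e (π.fiberToSpecResidueField _ ≫ d) _ n]
  exact ⟨fun h => PnCoh.subsingleton_HH_of_iso (π.fiberToSpecResidueField _ ≫ d) i.symm h,
    fun h => PnCoh.subsingleton_HH_of_iso (π.fiberToSpecResidueField _ ≫ d) i h⟩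

variable [IsAlgClosed k] {X : Over (Spec (CommRingCat.of k))} [GrpObj X] [IsProper X.hom]
  [GeometricallyIntegral X.hom]

/-- The classes `t_y^* c / c` are translation invariant. -/
theorem translate_div_invariant (c : PicLoc.PicSet X.left)
    (y a : 𝟙_ (Over (Spec (CommRingCat.of k))) ⟶ X) :
    opull (𝟙 X * (toUnit X ≫ a)) (opull (𝟙 X * (toUnit X ≫ y)) c / c) =
      opull (𝟙 X * (toUnit X ≫ y)) c / c := by
  have h := Cube.opull_square c (𝟙 X) a y
  rw [opull_id] at h
  rw [map_div, ← opull_comp, translate_comp, div_eq_div_iff_mul_eq_mul, h, _root_.mul_comm]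

/-- For a class with finite stabiliser, `x ↦ t_x^* c / c` reaches every invariant class. -/
theorem exists_translate_eq_mul (c : PicLoc.PicSet X.left)
    (hfix : {a : 𝟙_ (Over (Spec (CommRingCat.of k))) ⟶ X | opull (𝟙 X * (toUnit X ≫ a)) c = c}.Finite)
    (m : PicLoc.PicSet X.left) (hm : ∀ a : 𝟙_ (Over (Spec (CommRingCat.of k))) ⟶ X,
      opull (𝟙 X * (toUnit X ≫ a)) m = m) :
    ∃ x : 𝟙_ (Over (Spec (CommRingCat.of k))) ⟶ X, opull (𝟙 X * (toUnit X ≫ x)) c = c * m := by
  by_contra! hne
  have := Groth.GrpschAbsch.isCommMonObj_of_isProper X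
  have := Groth.Abvar.isIntegral_left X
  obtain ⟨N, hN, hNc⟩ := PicGrp.exists_eq_cls
    (opull (fst X X * snd X X) c / (opull (fst X X) c * opull (snd X X) c * opull (fst X X) m))
  have hIso : ∀ a : 𝟙_ (Over (Spec (CommRingCat.of k))) ⟶ X, IsIso (𝟙 X * (toUnit X ≫ a)).left :=
    fun a => Groth.AbVarMul.isIso_translate_left a
  let φ := fun y : 𝟙_ (Over (Spec (CommRingCat.of k))) ⟶ X => opull (𝟙 X * (toUnit X ≫ y)) c / c
  have hsnd : ∀ y, opull (lift (𝟙 X) (toUnit X ≫ y)) (cls hN) = φ y / m := by
    intro y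
    show opull _ (PicGrp.cls N hN) = _
    rw [← hNc, map_div, map_mul, map_mul, ← opull_comp, ← opull_comp, ← opull_comp, ← opull_comp,
      MonObj.comp_mul, lift_fst, lift_snd, opull_id, opull_id, opull_toUnit_comp, _root_.mul_one,
      ← div_div]
  have hfst : ∀ x, opull (lift (toUnit X ≫ x) (𝟙 X)) (cls hN) = φ x := by
    intro x
    show opull _ (PicGrp.cls N hN) = _
    rw [← hNc, map_div, map_mul, map_mul, ← opull_comp, ← opull_comp, ← opull_comp, ← opull_comp,
      MonObj.comp_mul, lift_fst, lift_snd, opull_id, opull_toUnit_comp, opull_toUnit_comp,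
      _root_.mul_one, _root_.one_mul, _root_.mul_comm (toUnit X ≫ x) (𝟙 X)]
  have : IsLocallyNoetherian X.left := LocallyOfFiniteType.isLocallyNoetherian X.hom
  have : CompactSpace X.left := CohFin.compactSpace_of_proper X.hom
  have : IsNoetherian X.left := {}
  have : X.left.IsSeparated := CohFin.isSeparated_of_proper X.hom
  have : IsLocallyNoetherian (X ⊗ X).left :=
    have : LocallyOfFiniteType (fst X X).left :=
      inferInstanceAs (LocallyOfFiniteType (pullback.fst X.hom X.hom))
    LocallyOfFiniteType.isLocallyNoetherian (fst X X).left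
  have hcoh := EulerDeg.isCoh_of_isInvertible hN
  have : N.IsQuasicoherent := hcoh.1
  have hFP := Groth.FlatStrata.isFP_of_isCoh hcoh
  have hq : IsPullback (fst X X).left (snd X X).left X.hom X.hom := IsPullback.of_hasPullback _ _
  have : IsProper (snd X X).left := MorphismProperty.of_isPullback hq ‹IsProper X.hom›
  have : IsProper (fst X X).left := MorphismProperty.of_isPullback hq.flip ‹IsProper X.hom›
  have : Flat (snd X X).left := MorphismProperty.of_isPullback hq (inferInstance : Flat X.hom)
  have : Flat (fst X X).left := MorphismProperty.of_isPullback hq.flip (inferInstance : Flat X.hom)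
  have : LocallyOfFinitePresentation (snd X X).left :=
    MorphismProperty.of_isPullback hq (inferInstance : LocallyOfFinitePresentation X.hom)
  have : LocallyOfFinitePresentation (fst X X).left :=
    MorphismProperty.of_isPullback hq.flip (inferInstance : LocallyOfFinitePresentation X.hom)
  have hsq₂ : ∀ y : 𝟙_ (Over (Spec (CommRingCat.of k))) ⟶ X,
      IsPullback (lift (𝟙 X) (toUnit X ≫ y)).left X.hom (snd X X).left y.left := by
    intro y
    refine IsPullback.of_right (t := hq) (p := ?_) (s := ?_)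
    rotate_left
    · refine (congrArg Over.Hom.left (lift_snd (𝟙 X) (toUnit X ≫ y))).trans ?_
      rw [Over.comp_left, Over.toUnit_left]
    · rw [show (lift (𝟙 X) (toUnit X ≫ y)).left ≫ (fst X X).left = 𝟙 _ from
        congrArg Over.Hom.left (lift_fst (𝟙 X) (toUnit X ≫ y)),
        show y.left ≫ X.hom = 𝟙 _ from Over.w y]
      exact IsPullback.of_id_fst
  have hsq₁ : ∀ x : 𝟙_ (Over (Spec (CommRingCat.of k))) ⟶ X,
      IsPullback (lift (toUnit X ≫ x) (𝟙 X)).left X.hom (fst X X).left x.left := by
    intro x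
    refine IsPullback.of_right (t := hq.flip) (p := ?_) (s := ?_)
    rotate_left
    · refine (congrArg Over.Hom.left (lift_fst (toUnit X ≫ x) (𝟙 X))).trans ?_
      rw [Over.comp_left, Over.toUnit_left]
    · rw [show (lift (toUnit X ≫ x) (𝟙 X)).left ≫ (snd X X).left = 𝟙 _ from
        congrArg Over.Hom.left (lift_snd (toUnit X ≫ x) (𝟙 X)),
        show x.left ≫ X.hom = 𝟙 _ from Over.w x]
      exact IsPullback.of_id_fst
  have hinvm : ∀ y a, opull (𝟙 X * (toUnit X ≫ a)) (φ y / m) = φ y / m := fun y a => by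
    rw [map_div, translate_div_invariant, hm]
  have hclosed : ∀ z : 𝟙_ (Over (Spec (CommRingCat.of k))) ⟶ X, IsClosed ({pt z} : Set X.left) :=
    fun z => by
      have : IsClosedImmersion z.left := isClosedImmersion_of_comp_eq_id X.hom z.left (Over.w z)
      rw [← range_eq z]
      exact z.left.isClosedEmbedding.isClosed_range
  have hflat₁ := Seesaw.isFlatOver_of_isInvertible (fst X X).left hN
  have hflat₂ := Seesaw.isFlatOver_of_isInvertible (snd X X).left hN
  -- every fibre of the second projection is acyclic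
  have hall₂ : ∀ p, ∀ y : X.left, Subsingleton (CohIII.fiberH (snd X X).left N y p) := by
    intro p y
    by_contra hy
    have := LocallyOfFiniteType.jacobsonSpace X.hom
    obtain ⟨z, hz, hzc⟩ := nonempty_inter_closedPoints (Z := {y : X.left |
      Subsingleton (CohIII.fiberH (snd X X).left N y p)}ᶜ) ⟨y, hy⟩
      (CohBase.isOpen_subsingleton_fiberH (snd X X).left hFP hflat₂ p).isClosed_compl.isLocallyClosed
    obtain ⟨s, rfl⟩ := exists_rationalPoint X hzc
    refine hz ((subsingleton_fiberH_iff_of_isPullback s (hsq₂ s) N p).2 ?_)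
    refine subsingleton_HH_of_invariant (PicLoc.isInvertible_pullback _ hN) (fun a => ?_) ?_ p
    · rw [← pull_cls _ hN]
      change opull _ (opull (lift (𝟙 X) (toUnit X ≫ s)) (cls hN)) = opull _ (cls hN)
      rw [hsnd]
      exact hinvm s a
    · rw [← pull_cls _ hN]
      change opull _ (cls hN) ≠ 1
      rw [hsnd, Ne, div_eq_one, div_eq_iff_eq_mul, _root_.mul_comm m c]
      exact hne s
  have hvan : ∀ n, Subsingleton (Coh.HH (X ⊗ X).left N n) :=
    subsingleton_HH_of_fibres (snd X X).left hFP hflat₂ hall₂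
  -- the exceptional fibres of the first projection
  let Z : Set X.left := pt '' {a | opull (𝟙 X * (toUnit X ≫ a)) c = c}
  have hZ : IsClosed Z := by
    have : Z = ⋃ a ∈ {a | opull (𝟙 X * (toUnit X ≫ a)) c = c}, {pt a} := by
      ext w
      simp [Z, eq_comm]
    rw [this]
    exact hfix.isClosed_biUnion fun a _ => hclosed a
  obtain ⟨_, ⟨V₀, hV₀, rfl⟩, hV₀g, -⟩ := X.left.isBasis_affineOpens.exists_subset_of_mem_open
    (Set.mem_univ (genericPoint X.left)) isOpen_univ
  let W : Set X.left := ⋂ a ∈ {a | opull (𝟙 X * (toUnit X ≫ a)) c = c},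
    (𝟙 X * (toUnit X ≫ a)).left.base ⁻¹' (V₀ : Set X.left)
  have hWo : IsOpen W :=
    hfix.isOpen_biInter fun a _ => V₀.2.preimage (𝟙 X * (toUnit X ≫ a)).left.continuous
  have hWg : genericPoint X.left ∈ W := Set.mem_iInter₂.2 fun a _ => by
    refine ((genericPoint_spec X.left).mem_open_set_iff
      (V₀.2.preimage (𝟙 X * (toUnit X ≫ a)).left.continuous)).2 ?_
    rw [Set.univ_inter]
    exact Set.Nonempty.preimage ⟨_, hV₀g⟩ (surjective_translate a)
  obtain ⟨y, hy⟩ := exists_point_mem X hWo ⟨_, hWg⟩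
  have := hIso y
  let V : X.left.Opens := (𝟙 X * (toUnit X ≫ y)).left ⁻¹ᵁ V₀
  have hZV : Z ⊆ V := by
    rintro _ ⟨a, ha, rfl⟩
    show (𝟙 X * (toUnit X ≫ y)).left.base (pt a) ∈ V₀
    rw [← pt_translate, _root_.mul_comm, pt_translate]
    exact Set.mem_iInter₂.1 hy a ha
  have hout : ∀ p, ∀ x ∉ Z, Subsingleton (CohIII.fiberH (fst X X).left N x p) := by
    intro p x hx
    by_contra hx'
    have := LocallyOfFiniteType.jacobsonSpace X.hom
    obtain ⟨z, ⟨hzS, hzZ⟩, hzc⟩ := nonempty_inter_closedPoints (Z := {y : X.left |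
      Subsingleton (CohIII.fiberH (fst X X).left N y p)}ᶜ ∩ Zᶜ) ⟨x, hx', hx⟩
      ((CohBase.isOpen_subsingleton_fiberH (fst X X).left hFP hflat₁ p).isClosed_compl.isLocallyClosed.inter
        hZ.isOpen_compl.isLocallyClosed)
    obtain ⟨s, rfl⟩ := exists_rationalPoint X hzc
    refine hzS ((subsingleton_fiberH_iff_of_isPullback s (hsq₁ s) N p).2 ?_)
    refine subsingleton_HH_of_invariant (PicLoc.isInvertible_pullback _ hN) (fun a => ?_) ?_ p
    · rw [← pull_cls _ hN]
      change opull _ (opull (lift (toUnit X ≫ s) (𝟙 X)) (cls hN)) = opull _ (cls hN)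
      rw [hfst]
      exact translate_div_invariant c s a
    · rw [← pull_cls _ hN]
      change opull _ (cls hN) ≠ 1
      rw [hfst, Ne, div_eq_one]
      exact fun h => hzZ ⟨s, h, rfl⟩
  have h0 := subsingleton_fiberH_of_exceptional (fst X X).left hFP hflat₁ hvan hZ
    (hV₀.preimage_of_isIso (𝟙 X * (toUnit X ≫ y)).left) hZV hout 0 (pt 1)
  rw [subsingleton_fiberH_iff_of_isPullback _ (hsq₁ 1)] at h0
  have htriv : cls (PicLoc.isInvertible_pullback (lift (toUnit X ≫ 1) (𝟙 X)).left hN) = 1 := by
    rw [← pull_cls _ hN]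
    change opull _ (cls hN) = 1
    rw [hfst]
    show opull _ c / c = 1
    rw [translate_one, opull_id, div_self']
  obtain ⟨i⟩ := (nonempty_iso_structure_iff (PicLoc.isInvertible_pullback _ hN)).2 htriv
  exact not_subsingleton_iff_nontrivial.2 nontrivial_HH_structure
    (PnCoh.subsingleton_HH_of_iso X.hom i h0)

end Groth.AbvarAmple
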