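import Groth.Agent.AbvarAmple.FixedComponent
import Groth.Agent.AbvarAmple.PhiSurj
import Groth.Agent.AbVarMul.KerTate
import Groth.Agent.AbVarMul.Ample

/-!
# Complements of abelian subvarieties up to isogeny
-/

universe u

open CategoryTheory Limits MonoidalCategory CartesianMonoidalCategory MonObj GrpObj AlgebraicGeometry

namespace Groth.AbvarAmple

open Groth.Abvar Groth.Abvar.PicCalc

variable {k : Type u} [Field k] [IsAlgClosed k] {X B : Over (Spec (CommRingCat.of k))}
  [GrpObj X] [IsProper X.hom] [GeometricallyIntegral X.hom]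
  [GrpObj B] [IsProper B.hom] [GeometricallyIntegral B.hom]

omit [IsAlgClosed k] [IsProper X.hom] [GeometricallyIntegral X.hom] [IsProper B.hom]
  [GeometricallyIntegral B.hom] in
/-- A homomorphism commutes with translations. -/
theorem translate_hom_comp (j : B ⟶ X) [IsMonHom j] (b : 𝟙_ (Over (Spec (CommRingCat.of k))) ⟶ B) :
    (𝟙 B * (toUnit B ≫ b)) ≫ j = j ≫ (𝟙 X * (toUnit X ≫ (b ≫ j))) := by
  rw [comp_mul_const, MonObj.mul_comp, Category.id_comp, Category.assoc]

/-- The translates of the class `m^*h / (h|_B ⊠ h)` on `B × X`. -/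
theorem translate_cross (j : B ⟶ X) [IsMonHom j] (h : PicLoc.PicSet X.left)
    (b : 𝟙_ (Over (Spec (CommRingCat.of k))) ⟶ B) (x : 𝟙_ (Over (Spec (CommRingCat.of k))) ⟶ X) :
    opull (𝟙 (B ⊗ X) * (toUnit (B ⊗ X) ≫ lift b x))
        (opull ((fst B X ≫ j) * snd B X) h / (opull (fst B X) (opull j h) * opull (snd B X) h)) =
      opull ((fst B X ≫ j) * snd B X) h / (opull (fst B X) (opull j h) * opull (snd B X) h) *
        (opull (fst B X) (opull j (opull (𝟙 X * (toUnit X ≫ x)) h / h)) *
          opull (snd B X) (opull (𝟙 X * (toUnit X ≫ (b ≫ j))) h / h)) := by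
  have := Groth.GrpschAbsch.isCommMonObj_of_isProper X
  set τ := 𝟙 (B ⊗ X) * (toUnit (B ⊗ X) ≫ lift b x) with hτ
  set m : B ⊗ X ⟶ X := (fst B X ≫ j) * snd B X with hm
  have e1 : τ ≫ fst B X = fst B X ≫ (𝟙 B * (toUnit B ≫ b)) := by
    rw [hτ, MonObj.mul_comp, Category.id_comp, Category.assoc, lift_fst, comp_mul_const]
  have e2 : τ ≫ snd B X = snd B X ≫ (𝟙 X * (toUnit X ≫ x)) := by
    rw [hτ, MonObj.mul_comp, Category.id_comp, Category.assoc, lift_snd, comp_mul_const]
  have e3 : τ ≫ m = m ≫ (𝟙 X * (toUnit X ≫ ((b ≫ j) * x))) := by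
    rw [hm, MonObj.comp_mul, ← Category.assoc, e1, e2, Category.assoc, translate_hom_comp,
      ← Category.assoc, comp_mul_const, comp_mul_const, comp_mul_const, MonObj.comp_mul,
      _root_.mul_mul_mul_comm]
  obtain ⟨P, hP⟩ : ∃ P, opull (𝟙 X * (toUnit X ≫ (b ≫ j))) h / h = P := ⟨_, rfl⟩
  obtain ⟨Q, hQ⟩ : ∃ Q, opull (𝟙 X * (toUnit X ≫ x)) h / h = Q := ⟨_, rfl⟩
  have hA : ∀ (R : PicLoc.PicSet X.left),
      (∀ a, opull (𝟙 X * (toUnit X ≫ a)) R = R) →
      opull m R = opull (fst B X) (opull j R) * opull (snd B X) R := fun R hR => by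
    rw [hm, Cube.opull_add_of_invariant R hR, opull_comp]
  have hPi := fun a => (congrArg (opull (𝟙 X * (toUnit X ≫ a))) hP).symm.trans
    ((translate_div_invariant h (b ≫ j) a).trans hP)
  have hQi := fun a => (congrArg (opull (𝟙 X * (toUnit X ≫ a))) hQ).symm.trans
    ((translate_div_invariant h x a).trans hQ)
  have f1 : opull (𝟙 X * (toUnit X ≫ ((b ≫ j) * x))) h = P * Q * h := by
    have h' := translate_div_mul h (b ≫ j) x
    rw [hP, hQ, div_eq_iff_eq_mul] at h'
    exact h'
  rw [hP, hQ, map_div, map_mul, ← opull_comp τ m, ← opull_comp τ (fst B X), ← opull_comp τ (snd B X), e3,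
    e2, e1, opull_comp m, opull_comp (fst B X), ← opull_comp _ j, translate_hom_comp, opull_comp j,
    opull_comp (snd B X), f1, div_eq_iff_eq_mul.1 hP, div_eq_iff_eq_mul.1 hQ]
  simp only [map_mul, hA P hPi, hA Q hQi]
  generalize opull m h = u, opull (fst B X) (opull j h) = v, opull (snd B X) h = w,
    opull (fst B X) (opull j P) = p, opull (snd B X) P = q, opull (fst B X) (opull j Q) = r,
    opull (snd B X) Q = s
  rw [div_mul_eq_mul_div, div_eq_div_iff_mul_eq_mul]
  simp only [_root_.mul_comm, _root_.mul_left_comm, _root_.mul_assoc]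

set_option backward.isDefEq.respectTransparency false in
/-- An abelian subvariety has a complement up to isogeny. -/
theorem exists_complement (j : B ⟶ X) [IsMonHom j] [IsClosedImmersion j.left] :
    ∃ (Z : Over (Spec (CommRingCat.of k))) (_ : GrpObj Z) (jZ : Z ⟶ X), IsProper Z.hom ∧
      GeometricallyIntegral Z.hom ∧ IsMonHom jZ ∧
      Surjective ((fst B Z ≫ j) * (snd B Z ≫ jZ)).left ∧
      IsFinite ((fst B Z ≫ j) * (snd B Z ≫ jZ)).left := by
  have := Groth.GrpschAbsch.isCommMonObj_of_isProper X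
  have := Groth.GrpschAbsch.isCommMonObj_of_isProper B
  have := Groth.Abvar.Cube.geometricallyIntegral_tensor B X
  have := Groth.Abvar.Cube.isProper_tensor B X
  obtain ⟨H, hH⟩ := Groth.AbVarMul.exists_isAmple (A := X)
  have hHB : CohB1.IsAmple ((Scheme.Modules.pullback j.left).obj H) :=
    Groth.Chow.isAmple_pullback_of_isAffineHom _ hH
  have hcB : cls hHB.1 = opull j (cls hH.1) := (pull_cls j.left hH.1).symm
  have hBf := finite_fixed hHB
  rw [hcB] at hBf
  have hXf := finite_fixed hH
  have : Mono j := Over.mono_of_mono_left j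
  obtain ⟨G, hG, hGc⟩ := PicGrp.exists_eq_cls (opull ((fst B X ≫ j) * snd B X) (cls hH.1) /
    (opull (fst B X) (opull j (cls hH.1)) * opull (snd B X) (cls hH.1)))
  obtain ⟨Z, instZ, jP, _, _, _, _, hadd, S, hS, hFix⟩ := exists_additive_subvariety (X := B ⊗ X) hG
  rw [show cls hG = _ from hGc.symm] at hadd hFix
  have hfix : ∀ (b : 𝟙_ (Over (Spec (CommRingCat.of k))) ⟶ B)
      (x : 𝟙_ (Over (Spec (CommRingCat.of k))) ⟶ X),
      opull (𝟙 (B ⊗ X) * (toUnit (B ⊗ X) ≫ lift b x))
        (opull ((fst B X ≫ j) * snd B X) (cls hH.1) /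
          (opull (fst B X) (opull j (cls hH.1)) * opull (snd B X) (cls hH.1))) =
        opull ((fst B X ≫ j) * snd B X) (cls hH.1) /
          (opull (fst B X) (opull j (cls hH.1)) * opull (snd B X) (cls hH.1)) ↔
      opull j (opull (𝟙 X * (toUnit X ≫ x)) (cls hH.1) / cls hH.1) = 1 ∧
        opull (𝟙 X * (toUnit X ≫ (b ≫ j))) (cls hH.1) / cls hH.1 = 1 := by
    intro b x
    rw [translate_cross, mul_eq_left]
    refine ⟨fun e => ⟨?_, ?_⟩, fun e => by rw [e.1, e.2, map_one, map_one, _root_.one_mul]⟩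
    · have e' := congrArg (opull (lift (𝟙 B) (1 : B ⟶ X))) e
      rwa [map_mul, map_one, ← opull_comp _ (fst B X), ← opull_comp _ (snd B X), lift_fst, lift_snd,
        opull_one, opull_id, _root_.mul_one] at e'
    · have e' := congrArg (opull (lift (1 : X ⟶ B) (𝟙 X))) e
      rwa [map_mul, map_one, ← opull_comp _ (fst B X), ← opull_comp _ (snd B X), lift_fst, lift_snd,
        opull_one, opull_id, _root_.one_mul] at e'
  let jZ : Z ⟶ X := jP ≫ snd B X
  have hjZ : IsMonHom jZ := inferInstanceAs (IsMonHom (jP ≫ snd B X))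
  have := Groth.Abvar.Cube.geometricallyIntegral_tensor B Z
  have := Groth.Abvar.Cube.isProper_tensor B Z
  have := Groth.GrpschAbsch.isCommMonObj_of_isProper Z
  set φ : B ⊗ Z ⟶ X := (fst B Z ≫ j) * (snd B Z ≫ jZ) with hφ
  have hφm : IsMonHom φ := by rw [hφ, Hom.mul_def]; infer_instance
  refine ⟨Z, instZ, jZ, inferInstance, inferInstance, hjZ, ⟨?_⟩,
    Groth.AbVarMul.isFinite_of_finite_ker φ ?_⟩
  · -- surjectivity
    let τ : (𝟙_ (Over (Spec (CommRingCat.of k))) ⟶ B ⊗ X) → (B ⊗ Z ⟶ X) := fun f =>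
      φ ≫ (𝟙 X * (toUnit X ≫ (f ≫ snd B X)))
    have hτ : ∀ f, IsClosed (Set.range (τ f).left.base) := fun f => by
      have : IsProper ((τ f).left ≫ X.hom) := by rw [Over.w]; infer_instance
      have : IsProper (τ f).left := IsProper.of_comp (τ f).left X.hom
      exact (τ f).left.isClosedMap.isClosed_range
    have hcov : ∀ a : 𝟙_ (Over (Spec (CommRingCat.of k))) ⟶ X,
        ∃ f ∈ S, pt a ∈ Set.range (τ f).left.base := by
      intro a
      obtain ⟨b, hb⟩ := exists_translate_eq_mul (opull j (cls hH.1)) hBf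
        (opull j (opull (𝟙 X * (toUnit X ≫ a)) (cls hH.1) / cls hH.1)) fun y => by
          rw [← opull_comp, translate_hom_comp, opull_comp, translate_div_invariant]
      have hb' : opull j (opull (𝟙 X * (toUnit X ≫ (b ≫ j))) (cls hH.1) / cls hH.1) =
          opull j (opull (𝟙 X * (toUnit X ≫ a)) (cls hH.1) / cls hH.1) := by
        rw [map_div, div_eq_iff_eq_mul, ← opull_comp, ← translate_hom_comp, opull_comp, hb,
          _root_.mul_comm]
      have ha := translate_div_mul (cls hH.1) (b ≫ j) ((b ≫ j)⁻¹ * a)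
      rw [mul_inv_cancel_left] at ha
      rw [ha, map_mul, left_eq_mul] at hb'
      obtain ⟨f, hf, w, hw⟩ := hFix (lift 1 ((b ≫ j)⁻¹ * a)) ((hfix _ _).2 ⟨hb', by
        rw [MonObj.one_comp, translate_one, opull_id, div_self']⟩)
      refine ⟨f, hf, pt (lift b w), ?_⟩
      rw [← pt_comp]
      show pt (lift b w ≫ φ ≫ _) = pt a
      have h2 := congrArg (· ≫ snd B X) hw
      simp only [lift_snd, MonObj.mul_comp, Category.assoc] at h2
      rw [← Category.assoc, comp_mul_const, toUnit_unique (toUnit _) (𝟙 _), Category.id_comp, hφ,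
        MonObj.comp_mul, lift_fst_assoc, lift_snd_assoc, _root_.mul_assoc, _root_.mul_comm (w ≫ jZ),
        show (f ≫ snd B X) * (w ≫ jZ) = (b ≫ j)⁻¹ * a from h2.symm, mul_inv_cancel_left]
    have hU : IsClosed (⋃ f ∈ S, Set.range (τ f).left.base) :=
      hS.isClosed_biUnion fun f _ => hτ f
    have := Groth.Abvar.isIntegral_left X
    have := LocallyOfFiniteType.jacobsonSpace X.hom
    have huniv : ⋃ f ∈ S, Set.range (τ f).left.base = Set.univ := by
      refine Set.eq_univ_of_univ_subset ((closure_closedPoints (X := X.left)).symm.subset.trans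
        (closure_minimal (fun x hx => ?_) hU))
      obtain ⟨a, ha⟩ := Groth.Abvar.exists_rationalPoint X hx
      obtain ⟨f, hf, h⟩ := hcov a
      exact Set.mem_biUnion hf (ha ▸ h)
    obtain ⟨_, ht, hsub⟩ := isIrreducible_iff_sUnion_isClosed.1 (IrreducibleSpace.isIrreducible_univ X.left)
      (hS.image fun f => Set.range (τ f).left.base).toFinset
      (fun z hz => by obtain ⟨f, -, rfl⟩ := (Set.Finite.mem_toFinset _).1 hz; exact hτ f)
      (by rw [Set.Finite.coe_toFinset, Set.sUnion_image, huniv])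
    obtain ⟨f, -, rfl⟩ := (Set.Finite.mem_toFinset _).1 ht
    intro x
    obtain ⟨y, hy⟩ := hsub (Set.mem_univ ((𝟙 X * (toUnit X ≫ (f ≫ snd B X))).left.base x))
    have := Groth.AbVarMul.isIso_translate_left (f ≫ snd B X)
    refine ⟨y, (𝟙 X * (toUnit X ≫ (f ≫ snd B X))).left.homeomorph.injective ?_⟩
    simpa [τ] using hy
  · -- finiteness of the kernel
    refine Set.Finite.of_finite_image (f := fun p => (p ≫ fst B Z, p ≫ snd B Z ≫ jP ≫ fst B X))
      ((hBf.prod (Set.Finite.preimage (f := fun b => b ≫ j)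
        (fun _ _ _ _ h => (cancel_mono j).1 h) hXf)).subset ?_) ?_
    · rintro _ ⟨p, hp, rfl⟩
      have hw : opull (𝟙 (B ⊗ X) * (toUnit (B ⊗ X) ≫ lift ((p ≫ snd B Z ≫ jP) ≫ fst B X)
          ((p ≫ snd B Z ≫ jP) ≫ snd B X)))
          (opull ((fst B X ≫ j) * snd B X) (cls hH.1) /
          (opull (fst B X) (opull j (cls hH.1)) * opull (snd B X) (cls hH.1))) =
          (opull ((fst B X ≫ j) * snd B X) (cls hH.1) /
          (opull (fst B X) (opull j (cls hH.1)) * opull (snd B X) (cls hH.1))) := by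
        revert hadd
        generalize (opull ((fst B X ≫ j) * snd B X) (cls hH.1) /
          (opull (fst B X) (opull j (cls hH.1)) * opull (snd B X) (cls hH.1))) = P₀
        intro hadd
        have e := congrArg (opull ((B ⊗ X) ◁ (p ≫ snd B Z))) hadd
        simp only [map_mul, ← opull_comp, MonObj.comp_mul, whiskerLeft_fst, whiskerLeft_snd_assoc] at e
        rw [lift_comp_fst_snd]
        exact (fixed_iff_additive' _ _).2 (by simpa [Mumford.Additive', Category.assoc] using e)
      obtain ⟨h1, h2⟩ := (hfix _ _).1 hw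
      refine ⟨?_, ?_⟩
      · have hx : (p ≫ snd B Z ≫ jP) ≫ snd B X = ((p ≫ fst B Z) ≫ j)⁻¹ := by
          refine eq_inv_of_mul_eq_one_right ?_
          have hp' : p ≫ φ = 1 := hp
          rw [hφ, MonObj.comp_mul] at hp'
          simpa [jZ, Category.assoc] using hp'
        have h3 := translate_div_mul (cls hH.1) ((p ≫ fst B Z) ≫ j) ((p ≫ fst B Z) ≫ j)⁻¹
        rw [mul_inv_cancel, translate_one, opull_id, div_self', ← hx] at h3
        have h4 := congrArg (opull j) h3.symm
        rw [map_mul, h1, _root_.mul_one, map_one, map_div, div_eq_one, ← opull_comp,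
          ← translate_hom_comp, opull_comp] at h4
        exact h4
      · show opull _ _ = _
        rw [div_eq_one] at h2
        simpa [Category.assoc] using h2
    · intro p hp q hq e
      have hp' : p ≫ φ = 1 := hp
      have hq' : q ≫ φ = 1 := hq
      obtain ⟨e1, e2⟩ := Prod.ext_iff.1 e
      simp only [] at e1 e2
      have e3 : p ≫ snd B Z ≫ jP ≫ snd B X = q ≫ snd B Z ≫ jP ≫ snd B X := by
        have h : p ≫ φ = q ≫ φ := hp'.trans hq'.symm
        rw [hφ, MonObj.comp_mul, MonObj.comp_mul, ← Category.assoc, ← Category.assoc q (fst B Z), e1,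
          mul_right_inj] at h
        exact h
      have : Mono jP := Over.mono_of_mono_left jP
      refine CartesianMonoidalCategory.hom_ext _ _ e1 ((cancel_mono jP).1 ?_)
      refine CartesianMonoidalCategory.hom_ext _ _ ?_ ?_
      · simpa [Category.assoc] using e2
      · simpa [Category.assoc] using e3

end Groth.AbvarAmple
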