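import Groth.Agent.CohBase.LocalModel
import Groth.Agent.CohBase.FibreConsequences
import Groth.Agent.PicAux.BaseChangeModel

/-!
# A local model together with its corepresentation of global sections
-/

universe u

open CategoryTheory Limits AlgebraicGeometry TopologicalSpace Opposite
open scoped TensorProduct

noncomputable section

namespace Groth.AbvarAmple

open Groth.CohBase Groth.PicAux.BC Groth.CohBase.CxRank Groth.FlatCxBase

variable {X S : Scheme.{u}} (f : X ⟶ S) [IsProper f] [IsLocallyNoetherian S]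
  [HasInjectiveResolutions X.Modules] (M : X.Modules)

/-- The degree zero functor of a model corepresents the sections of all base changes. -/
theorem exists_model_corep (hM : Coh.IsCoh M) (hfl : FlatMod.IsFlatOver f M) {V : S.Opens}
    (hV : IsAffineOpen V) :
    ∃ (L : CochainComplex (ModuleCat.{u} Γ(S, V)) ℤ) (Q : ModuleCat.{u} Γ(S, V)),
      IsModel f M L ∧ Module.Finite Γ(S, V) Q ∧
      Nonempty (CohIII.TFun L 0 ≅ (linearCoyoneda Γ(S, V) (ModuleCat.{u} Γ(S, V))).obj (op Q)) ∧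
      ∀ (B : Type u) [CommRing B] [Algebra Γ(S, V) B] (X' : Scheme.{u})
        (g : X' ⟶ (f ⁻¹ᵁ V : Scheme.{u})) (f' : X' ⟶ Spec (CommRingCat.of B))
        (_ : IsPullback g f' (preimageToSpec f (V := V))
          (Spec.map (CommRingCat.ofHom (algebraMap Γ(S, V) B)))),
        ∃ θ : (Q →ₗ[Γ(S, V)] B) → Γ((Scheme.Modules.pullback g).obj (M.restrict (f ⁻¹ᵁ V).ι), ⊤),
          Function.Bijective θ ∧
          ∀ (b : B) (φ : Q →ₗ[Γ(S, V)] B), θ (LinearMap.mulLeft Γ(S, V) b ∘ₗ φ) =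
            Groth.PicAux.BC.bSec B (f' := f') ⊤ b • θ φ := by
  have := hM.1
  have : IsLocallyNoetherian X := LocallyOfFiniteType.isLocallyNoetherian f
  have : IsNoetherianRing Γ(S, V) := IsLocallyNoetherian.component_noetherian ⟨V, hV⟩
  let U : X.Opens := f ⁻¹ᵁ V
  let q : (U : Scheme.{u}) ⟶ Spec (CommRingCat.of Γ(S, V)) := preimageToSpec f
  let : (U : Scheme.{u}).Over (Spec (CommRingCat.of Γ(S, V))) := ⟨q⟩
  let G := M.restrict U.ι
  have : IsProper q := MorphismProperty.of_isPullback (isPullback_preimageToSpec f hV) ‹IsProper f›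
  have : CompactSpace (U : Scheme.{u}) := CohFin.compactSpace_of_proper q
  have : (U : Scheme.{u}).IsSeparated := CohFin.isSeparated_of_proper q
  have hG : Coh.IsCoh G := CohFin.isCoh_restrict hM U
  have := hG.1
  have hfin : ∀ p : ℕ, Module.Finite Γ(S, V) (Coh.HH (U : Scheme.{u}) G p) := fun p =>
    CohFin.hFin_of_proper CohFin.projFinite p (U : Scheme.{u}) q G hG
  obtain ⟨cov⟩ := exists_goodCover (U : Scheme.{u})
  obtain ⟨L, ψ, hL, hb, hq⟩ :=
    exists_finiteFree_qis Γ(S, V) cov G (isFlatOver_restrict_preimage f hV M hfl) hfin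
  have : ∀ i, Module.Finite Γ(S, V) (L.X i) := fun i => (hL i).1
  have : ∀ i, Module.Flat Γ(S, V) (L.X i) := fun i => have := (hL i).2; inferInstance
  have hneg : ∀ (j : ℤ) (N : ModuleCat.{u} Γ(S, V)), j < 0 → IsZero (CohIII.T L j N) := fun j N hj => by
    refine IsZero.of_iso ?_ ((tFunIso ψ j hq).app N)
    refine (FlatCxBase.isZero_T_iff _ (FlatCxBase.cochain_prev j) (FlatCxBase.cochain_next j) N).2
      fun x _ => ⟨0, ?_⟩
    have := ModuleCat.subsingleton_of_isZero (isZero_cxA_of_neg Γ(S, V) cov.U G hj)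
    exact Subsingleton.elim _ _
  obtain ⟨Q, hQ, ⟨c⟩⟩ := CxExch.exists_corep L (-1)
    (CxExch.preservesEpi_of_isZero L (-1) fun N => hneg (-1) N (by norm_num))
  refine ⟨L, Q, ⟨fun i => (hL i).1, fun i => (hL i).2, hb, hneg, fun p => ?_, fun p y hy => ?_⟩,
    hQ, ⟨c⟩, fun B _ _ X' g f' hp => ?_⟩
  · obtain ⟨e⟩ := exists_Rpush_linEquiv f (M := M) p hV
    exact ⟨e.trans ((selfLinIso Γ(S, V) cov G p).symm.trans
      (((tFunIso ψ (p : ℤ) hq).app (ModuleCat.of Γ(S, V) Γ(S, V))).toLinearEquiv.symm.trans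
        (tOneEquiv L (p : ℤ))))⟩
  · let : Algebra Γ(S, V) (S.residueField y) := (S.evaluation V y hy).hom.toAlgebra
    let : (f.fiber y).Over (Spec (CommRingCat.of (S.residueField y))) :=
      ⟨f.fiberToSpecResidueField y⟩
    let g := fibreToPreimage f y hy
    have hsq : IsBC (A := Γ(S, V)) (A' := S.residueField y) g :=
      isPullback_fibreToPreimage f hV y hy
    obtain ⟨e, he⟩ := exists_bcEquiv hsq G cov p
    let K : ModuleCat.{u} Γ(S, V) := ModuleCat.of Γ(S, V) (S.residueField y)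
    let η := tFunIso ψ (p : ℤ) hq
    let iso := haIsoEquiv (f.fiberToSpecResidueField y) (fibreModIso f M y hy) p
    let e' : LinearMap.ker ((dq L (p : ℤ)).rTensor K) ≃+ CohIII.fiberH f M y p :=
      (tKerEquiv L K (p : ℤ)).symm.toAddEquiv.trans
        ((η.app K).toLinearEquiv.toAddEquiv.trans (e.trans iso.toAddEquiv))
    refine (exists_ker_baseChange_equiv (K := S.residueField y) (dq L (p : ℤ)) e'
      fun b z w h => ?_).map LinearEquiv.symm
    let m : K ⟶ K := ModuleCat.ofHom (LinearMap.mul Γ(S, V) (S.residueField y) b)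
    obtain ⟨a, rfl⟩ := (tKerEquiv L K (p : ℤ)).surjective z
    have hw : w = tKerEquiv L K (p : ℤ) ((CohIII.TFun L (p : ℤ)).map m a) :=
      Subtype.ext (h.trans (tKerEquiv_map L K (p : ℤ) m a).symm)
    subst hw
    change iso (e ((η.app K).toLinearEquiv ((tKerEquiv L K (p : ℤ)).symm (tKerEquiv L K (p : ℤ) _)))) =
      b • (show CohIII.fiberH f M y p from
        iso (e ((η.app K).toLinearEquiv ((tKerEquiv L K (p : ℤ)).symm (tKerEquiv L K (p : ℤ) a)))))
    rw [LinearEquiv.symm_apply_apply, LinearEquiv.symm_apply_apply]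
    have hnat : (η.app K).toLinearEquiv ((CohIII.TFun L (p : ℤ)).map m a) =
        (CohIII.TFun (cxA Γ(S, V) cov.U G) (p : ℤ)).map m ((η.app K).toLinearEquiv a) :=
      congr($(η.hom.naturality m) a)
    rw [hnat, he]
    exact iso.map_smul b _
  let e : CohIII.TFun (cxA Γ(S, V) cov.U G) ((0 : ℕ) : ℤ) ≅
      (linearCoyoneda Γ(S, V) (ModuleCat.{u} Γ(S, V))).obj (op Q) := (tFunIso ψ _ hq).symm ≪≫ c
  let toCyc : ∀ (N : ModuleCat.{u} Γ(S, V)), (Q →ₗ[Γ(S, V)] N) → Cyc Γ(S, V) cov (F := G) (M := N) :=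
    fun N φ => (LinearEquiv.ofBijective _ (clsT_zero_bijective Γ(S, V) cov G N)).symm
      (e.inv.app N (ModuleCat.ofHom φ))
  have hbij : ∀ N, Function.Bijective (toCyc N) := fun N =>
    (LinearEquiv.ofBijective _ (clsT_zero_bijective Γ(S, V) cov G N)).symm.bijective.comp
      ((ConcreteCategory.bijective_of_isIso (e.inv.app N)).comp ModuleCat.homEquiv.symm.bijective)
  refine ⟨fun φ => sec Γ(S, V) cov (bcModel Γ(S, V) B hp G cov) (toCyc (ModuleCat.of Γ(S, V) B) φ),
    (sec_bijective Γ(S, V) cov (bcModel Γ(S, V) B hp G cov)).comp (hbij _), fun b φ => ?_⟩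
  have hnat : (toCyc (ModuleCat.of Γ(S, V) B) (LinearMap.mulLeft Γ(S, V) b ∘ₗ φ)).1 =
      (LinearMap.mulLeft Γ(S, V) b).lTensor _ (toCyc (ModuleCat.of Γ(S, V) B) φ).1 := by
    let t : ModuleCat.of Γ(S, V) B ⟶ ModuleCat.of Γ(S, V) B :=
      ModuleCat.ofHom (LinearMap.mulLeft Γ(S, V) b)
    have h1 : e.inv.app _ (ModuleCat.ofHom (t.hom ∘ₗ φ)) =
        (CohIII.TFun (cxA Γ(S, V) cov.U G) ((0 : ℕ) : ℤ)).map t (e.inv.app _ (ModuleCat.ofHom φ)) :=
      congr($(e.inv.naturality t) (ModuleCat.ofHom φ))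
    obtain ⟨z, hz⟩ := (clsT_zero_bijective Γ(S, V) cov G (ModuleCat.of Γ(S, V) B)).2
      (e.inv.app _ (ModuleCat.ofHom φ))
    have hM' : toCyc _ φ = z := (LinearEquiv.symm_apply_eq _).2 hz.symm
    rw [← hz, FlatCxBase.TFun_map_clsT] at h1
    have hN : toCyc _ (t.hom ∘ₗ φ) = ⟨_, FlatCxBase.lTensor_mem_ker _ _ t z⟩ :=
      (LinearEquiv.symm_apply_eq _).2 h1
    show (toCyc _ (t.hom ∘ₗ φ)).1 = _
    rw [hN, hM']
    rfl
  refine sec_map Γ(S, V) cov (bcModel Γ(S, V) B hp G cov) (bcModel Γ(S, V) B hp G cov)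
    (LinearMap.mulLeft Γ(S, V) b)
    (fun W s => bSec B (f' := f') (g ⁻¹ᵁ W) b • s) (fun W z => ?_) (fun W s => ?_) _ _ hnat
  · change bSec B _ b • bcΦ Γ(S, V) B hp G W z = bcΦ Γ(S, V) B hp G W _
    induction z using TensorProduct.induction_on with
    | zero => simp
    | tmul s c => rw [LinearMap.lTensor_tmul, bcΦ_tmul, bcΦ_tmul, LinearMap.mulLeft_apply,
        map_mul, smul_smul]
    | add p q hp hq => simp only [map_add, smul_add, hp, hq]
  · exact ((QCohMod.res_smul _ (le_top : g ⁻¹ᵁ W ≤ ⊤) _ _).trans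
      (congrArg (· • _) (resFun_bSec B _ b))).symm

end Groth.AbvarAmple
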