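import Groth.Agent.AbvarAmple.StabFinite
import Groth.Agent.RefRank.EffCartierLocal
import Groth.Agent.AbVarMul.Consequences
import Groth.Agent.PropsBasic2.Reduced

/-!
# Translations by differences of points of a variety avoiding a prime divisor
-/

universe u

open CategoryTheory MonoidalCategory CartesianMonoidalCategory MonObj GrpObj AlgebraicGeometry
open TopologicalSpace

namespace Groth.AbvarAmple

open Groth.Abvar Groth.Abvar.PicCalc Groth.PropsBasic.Ample

variable {k : Type u} [Field k] [IsAlgClosed k]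
variable {A : Over (Spec (CommRingCat.of k))} [GrpObj A] [IsProper A.hom]
  [GeometricallyIntegral A.hom]

/-- A subvariety avoiding the zero set of a section has all its translates trivial for its class. -/
theorem slices_trivial_of_disjoint {L : A.left.Modules} (hL : PicF.IsInvertible L) (s : Γ(L, ⊤))
    {D : Set A.left} (hD : IsClosed D) (hsD : ∀ x, x ∈ gloc s ↔ x ∉ D)
    {Z : Over (Spec (CommRingCat.of k))} [IsProper Z.hom] [IsIntegral Z.left] (j : Z ⟶ A)
    (hdisj : ∀ z, j.left z ∉ D) (a : 𝟙_ (Over (Spec (CommRingCat.of k))) ⟶ A) :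
    opull (j ≫ (𝟙 A * (toUnit A ≫ a))) (cls hL) = 1 := by
  have hcomm := GrpschAbsch.isCommMonObj_of_isProper A
  have := Groth.Abvar.isIntegral_left A
  have : GeometricallyIntegral Z.hom := geometricallyIntegral_of_isAlgClosed Z.hom
  have : JacobsonSpace A.left := LocallyOfFiniteType.jacobsonSpace A.hom
  let ψ : A ⊗ Z ⟶ A := fst A Z * (snd A Z ≫ j)⁻¹
  have sq : IsPullback (fst A Z).left (snd A Z).left A.hom Z.hom := IsPullback.of_hasPullback _ _
  have : IsProper (snd A Z).left := MorphismProperty.of_isPullback sq ‹_›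
  have hw : (snd A Z).left ≫ Z.hom = (A ⊗ Z).hom := Over.w _
  have : IsProper (A ⊗ Z).hom := hw ▸ inferInstanceAs (IsProper (_ ≫ _))
  have : IsProper ψ.left := by
    have h : IsProper (ψ.left ≫ A.hom) := by rw [Over.w ψ]; infer_instance
    exact IsProper.of_comp ψ.left A.hom
  let T := ψ.left.base '' ((fst A Z).left.base ⁻¹' D)
  have hT : IsClosed T := ψ.left.isClosedMap _ (hD.preimage (fst A Z).left.continuous)
  have h1T : pt η[A] ∉ T := by
    rintro ⟨q₀, hq₀, hq₀'⟩
    have : JacobsonSpace (A ⊗ Z).left := LocallyOfFiniteType.jacobsonSpace (A ⊗ Z).hom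
    have hclosed : IsClosed ({pt η[A]} : Set A.left) :=
      (pointEquivClosedPoint A.hom ⟨(η[A]).left, Over.w η[A]⟩).2
    obtain ⟨q, ⟨hqD, hq1⟩, hqc⟩ := nonempty_inter_closedPoints
      (Z := (fst A Z).left.base ⁻¹' D ∩ ψ.left.base ⁻¹' {pt η[A]}) ⟨q₀, hq₀, hq₀'⟩
      ((hD.preimage (fst A Z).left.continuous).inter
        (hclosed.preimage ψ.left.continuous)).isLocallyClosed
    obtain ⟨p, rfl⟩ := exists_rationalPoint (A ⊗ Z) hqc
    have e1 : p ≫ ψ = η[A] := pt_injective (by rw [pt_comp]; exact hq1)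
    simp only [ψ, MonObj.comp_mul, GrpObj.comp_inv, MonObj.one_eq_one] at e1
    rw [mul_inv_eq_one, ← Category.assoc] at e1
    have hmem : pt (p ≫ fst A Z) ∈ D := by rw [pt_comp]; exact hqD
    rw [e1, pt_comp] at hmem
    exact hdisj _ hmem
  obtain ⟨S, hS, hSa⟩ := Groth.Abvar.Cube.exists_isClosed_slice_trivial (X := Z) (Y := A)
    (opull ((fst Z A ≫ j) * snd Z A) (cls hL))
  have hslice : ∀ a, opull (lift (𝟙 Z) (toUnit Z ≫ a)) (opull ((fst Z A ≫ j) * snd Z A) (cls hL)) =
      opull (j ≫ (𝟙 A * (toUnit A ≫ a))) (cls hL) := fun a => by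
    rw [← opull_comp, MonObj.comp_mul, ← Category.assoc, lift_fst, lift_snd, Category.id_comp,
      comp_mul_const]
  have hSO : Tᶜ ∩ closedPoints A.left ⊆ S := by
    rintro x ⟨hxT, hx⟩
    obtain ⟨b, rfl⟩ := exists_rationalPoint A hx
    refine (hSa b).2 ((hslice b).trans ?_)
    have hg : gloc (PicAux.pullSec (j ≫ (𝟙 A * (toUnit A ≫ b))).left L s) = ⊤ := by
      by_contra hne
      obtain ⟨z₁, hz₁⟩ : ∃ z, z ∉ gloc (PicAux.pullSec (j ≫ (𝟙 A * (toUnit A ≫ b))).left L s) := by
        by_contra hall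
        push Not at hall
        exact hne (top_le_iff.1 fun z _ => hall z)
      have : JacobsonSpace Z.left := LocallyOfFiniteType.jacobsonSpace Z.hom
      obtain ⟨z₂, hz₂, hz₂c⟩ := nonempty_inter_closedPoints
        (Z := ((gloc (PicAux.pullSec (j ≫ (𝟙 A * (toUnit A ≫ b))).left L s) : Set Z.left))ᶜ)
        ⟨z₁, hz₁⟩ (gloc _).2.isClosed_compl.isLocallyClosed
      obtain ⟨z, rfl⟩ := exists_rationalPoint Z hz₂c
      rw [Set.mem_compl_iff, SetLike.mem_coe, gloc_pullSec _ hL] at hz₂
      have hwD : pt (z ≫ j ≫ (𝟙 A * (toUnit A ≫ b))) ∈ D := by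
        by_contra hcon
        refine hz₂ ?_
        show (j ≫ (𝟙 A * (toUnit A ≫ b))).left.base (pt z) ∈ gloc s
        rw [← pt_comp]
        exact (hsD _).2 hcon
      refine hxT ⟨pt (lift (z ≫ j ≫ (𝟙 A * (toUnit A ≫ b))) z), ?_, ?_⟩
      · show (fst A Z).left.base _ ∈ D
        rw [← pt_comp, lift_fst]
        exact hwD
      · rw [← pt_comp]
        simp only [ψ, MonObj.comp_mul, GrpObj.comp_inv, lift_fst, lift_snd, lift_snd_assoc]
        rw [Category.comp_id, ← Category.assoc z, ← Category.assoc (z ≫ j),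
          toUnit_unique ((z ≫ j) ≫ toUnit A) (𝟙 _), Category.id_comp,
          _root_.mul_comm (z ≫ j) b, mul_inv_cancel_right]
    change pull _ (cls hL) = 1
    rw [pull_cls _ hL, ← nonempty_iso_structure_iff, PicAux.nonempty_iso_structure_iff]
    have hgen := gen_gloc (PicAux.pullSec (j ≫ (𝟙 A * (toUnit A ≫ b))).left L s) (V := ⊤) hg.ge
    rw [PicAux.res_self] at hgen
    exact ⟨_, hgen⟩
  have hSu : ∀ x, x ∈ S := fun x => by
    refine hS.closure_subset_iff.2 hSO ?_
    rw [JacobsonSpace.closure_inter_closedPoints_eq_closure hT.isOpen_compl.isLocallyClosed,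
      (hT.isOpen_compl.dense ⟨_, h1T⟩).closure_eq]
    trivial
  exact (hslice a).symm.trans ((hSa a).1 (hSu _))

/-- Differences of points of a variety avoiding a prime divisor fix the divisor. -/
theorem preimage_eq_of_disjoint {Δ : Set A.left} (hΔ : IsClosed Δ) (ξ : A.left)
    (hξ : closure {ξ} = Δ) (hcodim : ringKrullDim (A.left.presheaf.stalk ξ) = 1)
    {C : Set A.left} (hC : IsClosed C) (hCirr : IsIrreducible C) (hdisj : Disjoint C Δ)
    (x y : 𝟙_ (Over (Spec (CommRingCat.of k))) ⟶ A) (hx : pt x ∈ C) (hy : pt y ∈ C) :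
    (𝟙 A * (toUnit A ≫ (x * y⁻¹))).left.base ⁻¹' Δ = Δ := by
  have hcomm := GrpschAbsch.isCommMonObj_of_isProper A
  have := Groth.Abvar.isIntegral_left A
  have : IsLocallyNoetherian A.left := LocallyOfFiniteType.isLocallyNoetherian A.hom
  have : Smooth A.hom := GrpschAbsch.smooth_of_geometricallyReduced A
  let I := Scheme.IdealSheafData.vanishingIdeal (⟨Δ, hΔ⟩ : Closeds A.left)
  have hsupp : (I.support : Set A.left) = Δ := by
    rw [Scheme.IdealSheafData.coe_support_vanishingIdeal]
    rfl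
  have hrange : Set.range I.subschemeι = Δ := by rw [Scheme.IdealSheafData.range_subschemeι, hsupp]
  obtain ⟨ξ', hξ'⟩ : ξ ∈ Set.range I.subschemeι := hrange ▸ hξ ▸ subset_closure rfl
  have hgen : ∀ z : I.subscheme, ξ' ⤳ z := fun z => by
    rw [← I.subschemeι.isEmbedding.toIsInducing.specializes_iff, hξ', specializes_iff_mem_closure, hξ,
      ← hrange]
    exact ⟨z, rfl⟩
  have : IrreducibleSpace I.subscheme :=
    { isPreirreducible_univ := fun u v hu hv hune hvne => by
        obtain ⟨a, -, ha⟩ := hune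
        obtain ⟨b, -, hb⟩ := hvne
        exact ⟨ξ', trivial, (hgen a).mem_open hu ha, (hgen b).mem_open hv hb⟩
      toNonempty := ⟨ξ'⟩ }
  have : IsReduced I.subscheme := Groth.PropsBasic2.isReduced_vanishingIdeal_subscheme _
  have : IsIntegral I.subscheme := isIntegral_of_irreducibleSpace_of_isReduced _
  have hξgen : I.subschemeι (genericPoint I.subscheme) = ξ := by
    rw [← hξ']
    refine congrArg _ ?_
    exact ((show IsGenericPoint ξ' (Set.univ : Set I.subscheme) from Set.eq_univ_of_forall fun z => (hgen z).mem_closure).eq (genericPoint_spec I.subscheme)).symm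
  have hI : BlowUp.IsEffCartierIdeal I :=
    Groth.RefRank.EffCartierLocal.isEffCartierIdeal_of_isIntegral I (by rw [hξgen]; exact hcodim)
      fun z _ => by
        have hfld : IsField ((Spec (CommRingCat.of k)).presheaf.stalk (A.hom z)) := by
          obtain ⟨p, hp⟩ := Groth.GrpschAbsch.FibreFlat.exists_isField_stalk
            (Spec (CommRingCat.of k)) (A.hom z)
          have : Subsingleton ↥(Spec (CommRingCat.of k)) :=
            inferInstanceAs (Subsingleton (PrimeSpectrum k))
          rwa [Subsingleton.elim (A.hom z) p]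
        have : IsRegularLocalRing ((Spec (CommRingCat.of k)).presheaf.stalk (A.hom z)) := by
          let := hfld.toField
          infer_instance
        have := Groth.NeronArea.Weil.isRegularLocalRing_of_smooth A.hom z this
        have : IsDomain (A.left.presheaf.stalk z) := Groth.Ega4Algebra1.isDomain_of_isRegularLocalRing _
        exact ⟨this, Groth.PicAux.ufd_of_isRegularLocalRing _⟩
  obtain ⟨L, s', hL, -, hs'⟩ := PicAux.exists_invertible_section hI
  let s := PicAux.gsec s'
  have hsD : ∀ z, z ∈ gloc s ↔ z ∉ Δ := fun z => by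
    have h := PicAux.mem_genLocus_iff_not_mem_support (s := s') (x := z) hL
    rw [hs', genLocus_eq_gloc] at h
    rw [← hsupp]
    exact h
  obtain ⟨Z, j, hj, hZr, hZC⟩ := exists_reduced_on A ⟨C, hC⟩
  have : IsProper Z.hom := by
    rw [← Over.w j]
    infer_instance
  have : IrreducibleSpace Z.left := by
    have hi : IsPreirreducible (Set.univ : Set Z.left) := by
      intro u v hu hv hune hvne
      obtain ⟨u', hu', rfl⟩ := j.left.isClosedEmbedding.toIsEmbedding.toIsInducing.isOpen_iff.1 hu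
      obtain ⟨v', hv', rfl⟩ := j.left.isClosedEmbedding.toIsEmbedding.toIsInducing.isOpen_iff.1 hv
      obtain ⟨a, -, ha⟩ := hune
      obtain ⟨b, -, hb⟩ := hvne
      obtain ⟨w, hwC, hwu, hwv⟩ := hCirr.isPreirreducible u' v' hu' hv'
        ⟨_, hZC.subset ⟨a, rfl⟩, ha⟩ ⟨_, hZC.subset ⟨b, rfl⟩, hb⟩
      obtain ⟨z, rfl⟩ := hZC.symm.subset hwC
      exact ⟨z, trivial, hwu, hwv⟩
    obtain ⟨z, -⟩ := hZC.symm.subset hx
    exact { isPreirreducible_univ := hi, toNonempty := ⟨z⟩ }
  have : IsIntegral Z.left := isIntegral_of_irreducibleSpace_of_isReduced _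
  have hlift : ∀ w, pt w ∈ C → ∃ z : 𝟙_ (Over (Spec (CommRingCat.of k))) ⟶ Z, z ≫ j = w := by
    intro w hw
    obtain ⟨z₁, hz₁⟩ := hZC.symm.subset hw
    have hcl : IsClosed ({z₁} : Set Z.left) := by
      have h1 : IsClosed ({pt w} : Set A.left) := (pointEquivClosedPoint A.hom ⟨w.left, Over.w w⟩).2
      have h2 := h1.preimage j.left.continuous
      convert h2
      ext u
      simp only [Set.mem_singleton_iff, Set.mem_preimage, ← hz₁]
      exact (j.left.isClosedEmbedding.injective.eq_iff).symm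
    obtain ⟨z, hz⟩ := exists_rationalPoint Z hcl
    exact ⟨z, pt_injective (by rw [pt_comp]; exact (congrArg j.left.base hz).trans hz₁)⟩
  obtain ⟨zx, rfl⟩ := hlift x hx
  obtain ⟨zy, rfl⟩ := hlift y hy
  have hall := slices_trivial_of_disjoint hL s hΔ hsD j
    fun z hz => hdisj.le_bot ⟨hZC.subset ⟨z, rfl⟩, hz⟩
  have : IrreducibleSpace Δ := isIrreducible_iff_irreducibleSpace.mp
    (hξ ▸ isIrreducible_singleton.closure)
  have hC' : (Set.univ : Set Δ) ∈ irreducibleComponents Δ := by
    rw [irreducibleComponents_eq_singleton]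
    rfl
  have himg : ∀ z₁ z₂ : 𝟙_ (Over (Spec (CommRingCat.of k))) ⟶ Z, ∀ d ∈ Δ,
      (𝟙 A * (toUnit A ≫ ((z₁ ≫ j) * (z₂ ≫ j)⁻¹))).left.base d ∈ Δ := fun z₁ z₂ d hd => by
    obtain ⟨e, -, he⟩ := image_component_subset hL s hΔ hsD j hall hC' z₁ z₂
      ⟨d, ⟨⟨d, hd⟩, trivial, rfl⟩, rfl⟩
    dsimp only at he
    rw [← he]
    exact e.2
  ext d
  refine ⟨fun hd => ?_, himg zx zy d⟩
  have h := himg zy zx _ hd
  rw [← Scheme.Hom.comp_apply, ← Over.comp_left, translate_comp,
    show (zx ≫ j) * (zy ≫ j)⁻¹ * ((zy ≫ j) * (zx ≫ j)⁻¹) = 1 by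
      rw [_root_.mul_assoc, inv_mul_cancel_left, mul_inv_cancel], translate_one] at h
  exact h

end Groth.AbvarAmple
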