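import Groth.Agent.AbvarAmple.HHGrowth
import Groth.Agent.DecShCurve.Avoid
import Groth.Agent.Pic13Aux.PnDrop
import Groth.Agent.Divisors.AssocPush

/-!
# Cohomology just before a drop of the degree in which it lives

If the cohomology of `F ⊗ L^a ⊗ H^{b + l s}` vanishes above degree `i'` for `l = 1, …, r`, then
`hⁱ'⁺ʳ(F ⊗ L^a ⊗ H^b)` grows only like the `(dim F - r)`-th power.
-/

universe u

open CategoryTheory CategoryTheory.Limits AlgebraicGeometry TopologicalSpace

namespace Groth.AbvarAmple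

open Groth.PicAux Groth.HilbStab Groth.PropsBasic.Ample Groth.Inter

variable (k : Type u) [Field k] {X : Scheme.{u}} [X.Over (Spec (CommRingCat.of k))]
  [IsProper (X ↘ Spec (CommRingCat.of k))] [Infinite k]

include k in
/-- A section which is regular on a coherent module and cuts down its dimension. -/
theorem exists_regular_step {M : X.Modules} (hM : PicF.IsInvertible M)
    (hs : ∀ x : X, ∃ t : Γ(M, (⊤ : X.Opens)), x ∈ gloc t) {F : X.Modules} (hF : Coh.IsCoh F) {n : ℕ}
    (hdim : topologicalKrullDim (CohB1.support F) ≤ ((n + 1 : ℕ) : WithBot ℕ∞)) :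
    ∃ t : Γ(M, (⊤ : X.Opens)), Mono (mulSec t F) ∧
      topologicalKrullDim (CohB1.support (cokernel (mulSec t F))) ≤ ((n : ℕ) : WithBot ℕ∞) := by
  have hN : IsNoetherian X := isNoetherian k
  obtain ⟨t, ht⟩ := DecShCurve.exists_mem_gloc_finite
    ((X ↘ Spec (CommRingCat.of k)).appTop.hom.comp (Scheme.ΓSpecIso (CommRingCat.of k)).inv.hom)
    hM hs (Pic13Aux.finite_isAssPoint hF)
  refine ⟨t, ?_, ?_⟩
  · refine Divisors.mono_of_stalk_injective_off _ hF.1 fun x => ?_
    by_cases hx : Curv2.IsWeakAssPoint F x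
    · exact Or.inl (mulSec_stalk_bijective t F (ht x (Divisors.isAssPoint_iff_weak.2 hx))).1
    · exact Or.inr hx
  · have hMF : Coh.IsCoh (CohB1.tensorMod F M) :=
      RefRank.isCoh_tensorMod hF (Inter.isCoh_of_isInvertible hM)
    have := hF.1
    have hQ := QCohMod.isCoh_cokernel (mulSec t F) hMF
    have hQF : CohB1.support (cokernel (mulSec t F)) ⊆ CohB1.support F :=
      (CohTwo.support_subset_of_epi (cokernel.π (mulSec t F))).trans (support_tensorMod_subset hM F)
    have hle := (LocCohTransform.topologicalKrullDim_mono hQF).trans hdim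
    refine lt_natCast_succ_iff.1 (lt_of_le_of_ne hle fun heq => ?_)
    obtain ⟨ξ, hξ, hξd⟩ := exists_dim_closure_eq (CohTwo.isClosed_support _ hQ) heq
    have hcl : closure ({ξ} : Set X) ⊆ CohB1.support F :=
      closure_minimal (Set.singleton_subset_iff.2 (hQF hξ)) (CohTwo.isClosed_support F hF)
    have hmax : ∀ y : X, y ∈ CohB1.support F → y ⤳ ξ → y = ξ := fun y hy hyξ =>
      (eq_of_dim_closure hyξ.mem_closure ((LocCohTransform.topologicalKrullDim_mono
        (closure_minimal (Set.singleton_subset_iff.2 hy) (CohTwo.isClosed_support F hF))).trans hdim)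
        hξd.ge).symm
    exact support_cokernel_mulSec_subset t F hξ
      (ht ξ (Divisors.isAssPoint_iff_weak.2 (Divisors.weakAss_of_maximal_support hF.1 (hQF hξ) hmax)))

omit [X.Over (Spec (CommRingCat.of k))] [IsProper (X ↘ Spec (CommRingCat.of k))] [Infinite k] in
/-- Twisting by `H^s` shifts the twists. -/
theorem twPow_tensor_pow (L H F : X.Modules) (a b s : ℕ) :
    Nonempty (twPow L H (CohB1.tensorMod F (CohB1.tensorPow H s)) a b ≅ twPow L H F a (b + s)) :=
  ⟨(tensor_assoc F _ _).some ≪≫ (tensor_congr ⟨Iso.refl F⟩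
    ⟨(tensor_left_comm _ _ _).some ≪≫ (tensor_congr ⟨Iso.refl _⟩
      ⟨(tensor_comm _ _).some ≪≫ (PicAux.tensorPow_add H b s).some.symm⟩).some⟩).some⟩

variable {L H : X.Modules} (hL : PicF.IsInvertible L) (hH : PicF.IsInvertible H)
include hL hH

omit [Infinite k] in
/-- `hᵠ` of the twists of a last term. -/
theorem finrank_twPow_last_le {S : ShortComplex X.Modules} (hS : S.ShortExact) (h₁ : Coh.IsCoh S.X₁)
    (h₂ : Coh.IsCoh S.X₂) (h₃ : Coh.IsCoh S.X₃) (a b q : ℕ) :
    Module.finrank k (Coh.HH X (twPow L H S.X₃ a b) q) ≤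
      Module.finrank k (Coh.HH X (twPow L H S.X₂ a b) q) +
        Module.finrank k (Coh.HH X (twPow L H S.X₁ a b) (q + 1)) :=
  finrank_HH_last_le k (S := S.map (DCoh.tensorRightMod
    (CohB1.tensorMod (CohB1.tensorPow L a) (CohB1.tensorPow H b))))
    (shortExact_tensorRightMod (isInvertible_powPow hL hH a b) hS)
    (isCoh_twPow hL hH h₁ a b) (isCoh_twPow hL hH h₂ a b) (isCoh_twPow hL hH h₃ a b) q

variable {s : ℕ} (hsec : ∀ x : X, ∃ t : Γ(CohB1.tensorPow H s, (⊤ : X.Opens)), x ∈ gloc t)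
include hsec

/-- The sequence of a regular section, twisted. -/
theorem exists_twPow_seq {F : X.Modules} (hF : Coh.IsCoh F) {n : ℕ}
    (hdim : topologicalKrullDim (CohB1.support F) ≤ ((n + 1 : ℕ) : WithBot ℕ∞)) :
    ∃ Q : X.Modules, Coh.IsCoh Q ∧ topologicalKrullDim (CohB1.support Q) ≤ ((n : ℕ) : WithBot ℕ∞) ∧
      ∀ a b q : ℕ,
        (Module.finrank k (Coh.HH X (twPow L H F a b) (q + 1)) ≤
          Module.finrank k (Coh.HH X (twPow L H F a (b + s)) (q + 1)) +
            Module.finrank k (Coh.HH X (twPow L H Q a b) q)) ∧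
        (Module.finrank k (Coh.HH X (twPow L H Q a b) q) ≤
          Module.finrank k (Coh.HH X (twPow L H F a (b + s)) q) +
            Module.finrank k (Coh.HH X (twPow L H F a b) (q + 1))) ∧
        (Module.finrank k (Coh.HH X (twPow L H F a (b + s)) q) ≤
          Module.finrank k (Coh.HH X (twPow L H F a b) q) +
            Module.finrank k (Coh.HH X (twPow L H Q a b) q)) := by
  have hM := PicAux.isInvertible_tensorPow hH s
  obtain ⟨t, ht, hd⟩ := exists_regular_step k hM hsec hF hdim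
  have hMF : Coh.IsCoh (CohB1.tensorMod F (CohB1.tensorPow H s)) :=
    RefRank.isCoh_tensorMod hF (Inter.isCoh_of_isInvertible hM)
  have hN : IsNoetherian X := isNoetherian k
  have := hF.1
  have hQ := QCohMod.isCoh_cokernel (mulSec t F) hMF
  refine ⟨cokernel (mulSec t F), hQ, hd, fun a b q => ?_⟩
  have e : ∀ p, Module.finrank k (Coh.HH X (twPow L H (CohB1.tensorMod F (CohB1.tensorPow H s)) a b) p) =
      Module.finrank k (Coh.HH X (twPow L H F a (b + s)) p) :=
    fun p => (EulerDeg.hEquiv k (twPow_tensor_pow L H F a b s).some p).finrank_eq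
  rw [← e (q + 1), ← e q]
  exact ⟨finrank_twPow_succ_first_le k hL hH (CohTwo.cokerSeq_shortExact (mulSec t F)) hF hMF hQ a b q,
    finrank_twPow_last_le k hL hH (CohTwo.cokerSeq_shortExact (mulSec t F)) hF hMF hQ a b q,
    finrank_twPow_mid_le k hL hH (CohTwo.cokerSeq_shortExact (mulSec t F)) hF hMF hQ a b q⟩

/-- **Cohomology just before a drop.** -/
theorem exists_drop_bound : ∀ (r n : ℕ) {F : X.Modules}, Coh.IsCoh F →
    topologicalKrullDim (CohB1.support F) ≤ ((n + r : ℕ) : WithBot ℕ∞) → ∀ i' : ℕ,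
    ∃ C : ℕ, ∀ a b : ℕ, (∀ l, 1 ≤ l → l ≤ r → ∀ p, i' < p →
        Module.finrank k (Coh.HH X (twPow L H F a (b + l * s)) p) = 0) →
      Module.finrank k (Coh.HH X (twPow L H F a b) (i' + r)) ≤ C * (a + b + 1) ^ n := by
  intro r
  induction r with
  | zero =>
    intro n F hF hdim i'
    obtain ⟨C, hC⟩ := hGrow_of_dim k hL hH n hF hdim i'
    exact ⟨C, fun a b _ => hC a b⟩
  | succ r ih =>
    intro n F hF hdim i'
    obtain ⟨Q, hQ, hQd, hle⟩ := exists_twPow_seq k hL hH hsec hF (n := n + r) hdim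
    obtain ⟨C, hC⟩ := ih n hQ hQd i'
    refine ⟨C, fun a b hv => ?_⟩
    have h1 := hC a b fun l hl hlr p hp => by
      have h := (hle a (b + l * s) p).2.1
      have z1 := hv (l + 1) (by omega) (by omega) p hp
      rw [show b + (l + 1) * s = b + l * s + s by ring] at z1
      have z2 := hv l hl (by omega) (p + 1) (by omega)
      omega
    have h2 := (hle a b (i' + r)).1
    have z := hv 1 le_rfl (by omega) (i' + r + 1) (by omega)
    rw [one_mul] at z
    rw [← add_assoc]
    omega

/-- Cohomology just after a rise. -/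
theorem exists_rise_bound {n : ℕ} {F : X.Modules} (hF : Coh.IsCoh F)
    (hdim : topologicalKrullDim (CohB1.support F) ≤ ((n + 1 : ℕ) : WithBot ℕ∞)) (q : ℕ) :
    ∃ C : ℕ, ∀ a b : ℕ, Module.finrank k (Coh.HH X (twPow L H F a b) q) = 0 →
      Module.finrank k (Coh.HH X (twPow L H F a (b + s)) q) ≤ C * (a + b + 1) ^ n := by
  obtain ⟨Q, hQ, hQd, hle⟩ := exists_twPow_seq k hL hH hsec hF hdim
  obtain ⟨C, hC⟩ := hGrow_of_dim k hL hH n hQ hQd q
  refine ⟨C, fun a b hz => ?_⟩
  have := (hle a b q).2.2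
  have := hC a b
  omega

end Groth.AbvarAmple
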