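import Groth.Agent.AbvarAmple.DropZero
import Groth.Agent.AbvarAmple.SurjKernel

/-!
# The multiplicity of the root `0` along a decomposition up to isogeny

If `c` is additive along `B`, of finite index in the stabiliser of `c`, and `B × Z → X` is an isogeny,
then `0` is a root of multiplicity `dim B` of the Hilbert polynomial of `c`.
-/

universe u

open CategoryTheory Limits MonoidalCategory CartesianMonoidalCategory MonObj GrpObj AlgebraicGeometry

namespace Groth.AbvarAmple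

open Groth.Abvar Groth.Abvar.PicCalc

variable {k : Type u} [Field k] [IsAlgClosed k] {X B Z : Over (Spec (CommRingCat.of k))}
  [GrpObj X] [IsProper X.hom] [GeometricallyIntegral X.hom]
  [GrpObj B] [IsProper B.hom] [GeometricallyIntegral B.hom]
  [GrpObj Z] [IsProper Z.hom] [GeometricallyIntegral Z.hom]

omit [GrpObj X] [IsProper X.hom] [GeometricallyIntegral X.hom] [IsProper Z.hom]
  [GeometricallyIntegral Z.hom] [GrpObj Z] in
/-- The pullback of an additive class along a homomorphism is additive. -/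
theorem additive_opull [GrpObj X] (j : B ⟶ X) [IsMonHom j] {c : PicLoc.PicSet X.left}
    (h : Mumford.Additive' c j) :
    opull (fst B B * snd B B) (opull j c) =
      opull (fst B B) (opull j c) * opull (snd B B) (opull j c) := by
  have e := congrArg (opull (lift (fst B B ≫ j) (snd B B))) h
  simp only [map_mul, ← opull_comp, MonObj.comp_mul, lift_fst, lift_snd_assoc] at e
  rw [← opull_comp, ← opull_comp, ← opull_comp, MonObj.mul_comp]
  exact e

omit [GrpObj Z] [IsProper Z.hom] [GeometricallyIntegral Z.hom] [GrpObj X] [IsProper X.hom]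
  [GeometricallyIntegral X.hom] in
/-- An additive class times an ample class has index `0`. -/
theorem isIdx_zero_mul_additive {d : PicLoc.PicSet B.left}
    (hd : opull (fst B B * snd B B) d = opull (fst B B) d * opull (snd B B) d)
    {Q : B.left.Modules} (hQ : CohB1.IsAmple Q) : IsIdx (d * cls hQ.1) 0 := by
  obtain ⟨N, hN, rfl⟩ := PicGrp.exists_eq_cls d
  have h := isIdx_zero_of_isAmple (isAmple_tensor_additive hQ hN hd)
  rwa [cls_tensorMod hQ.1 hN, _root_.mul_comm] at h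

variable (jB : B ⟶ X) (jZ : Z ⟶ X) [IsMonHom jB] [IsMonHom jZ]
  [IsFinite ((fst B Z ≫ jB) * (snd B Z ≫ jZ)).left]
  [Surjective ((fst B Z ≫ jB) * (snd B Z ≫ jZ)).left]

/-- On the complement the class is nondegenerate. -/
theorem finite_fixed_complement {c : PicLoc.PicSet X.left} (hadd : Mumford.Additive' c jB)
    {F : Set (𝟙_ (Over (Spec (CommRingCat.of k))) ⟶ X)} (hF : F.Finite)
    (hFix : ∀ a, opull (𝟙 X * (toUnit X ≫ a)) c = c →
      ∃ f ∈ F, ∃ w : 𝟙_ (Over (Spec (CommRingCat.of k))) ⟶ B, a = f * (w ≫ jB)) :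
    {x : 𝟙_ (Over (Spec (CommRingCat.of k))) ⟶ Z |
      opull (𝟙 Z * (toUnit Z ≫ x)) (opull jZ c) = opull jZ c}.Finite := by
  have := Groth.GrpschAbsch.isCommMonObj_of_isProper X
  have := Groth.GrpschAbsch.isCommMonObj_of_isProper B
  have := Groth.GrpschAbsch.isCommMonObj_of_isProper Z
  have := Groth.Abvar.Cube.geometricallyIntegral_tensor B Z
  have := Groth.Abvar.Cube.isProper_tensor B Z
  set φ : B ⊗ Z ⟶ X := (fst B Z ≫ jB) * (snd B Z ≫ jZ) with hφ
  have : IsMonHom φ := by rw [hφ, Hom.mul_def]; infer_instance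
  have hker := Groth.AbVarMul.finite_ker_of_isFinite φ
  have hlift : ∀ (w : 𝟙_ (Over (Spec (CommRingCat.of k))) ⟶ B) (x : 𝟙_ (Over (Spec (CommRingCat.of k))) ⟶ Z),
      lift w x ≫ φ = (w ≫ jB) * (x ≫ jZ) := fun w x => by
    rw [hφ, MonObj.comp_mul, lift_fst_assoc, lift_snd_assoc]
  have hS : {x : 𝟙_ (Over (Spec (CommRingCat.of k))) ⟶ Z |
      opull (𝟙 X * (toUnit X ≫ (x ≫ jZ))) c = c}.Finite := by
    refine (hF.biUnion (t := fun f => {x | ∃ w, x ≫ jZ = f * (w ≫ jB)}) fun f _ => ?_).subset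
      fun x hx => by
        obtain ⟨f, hf, w, hw⟩ := hFix _ hx
        exact Set.mem_biUnion hf ⟨w, hw⟩
    rcases Set.eq_empty_or_nonempty {x : 𝟙_ (Over (Spec (CommRingCat.of k))) ⟶ Z |
      ∃ w, x ≫ jZ = f * (w ≫ jB)} with h | ⟨x₀, w₀, h₀⟩
    · rw [h]; exact Set.finite_empty
    · refine (hker.image (fun p => x₀ * (p ≫ snd B Z))).subset ?_
      rintro x ⟨w, hw⟩
      refine ⟨lift (w₀ * w⁻¹) (x₀⁻¹ * x), ?_, ?_⟩
      · show lift (w₀ * w⁻¹) (x₀⁻¹ * x) ≫ φ = 1
        rw [hlift, MonObj.mul_comp, MonObj.mul_comp, GrpObj.inv_comp, GrpObj.inv_comp, hw, h₀,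
          _root_.mul_inv, ← div_eq_mul_inv]
        generalize w₀ ≫ jB = p
        generalize w ≫ jB = q
        simp [div_eq_mul_inv, _root_.mul_comm, _root_.mul_left_comm, _root_.mul_assoc]
        rw [_root_.mul_left_comm q, _root_.mul_left_comm p f⁻¹, mul_inv_cancel_left,
          _root_.mul_left_comm q, mul_inv_cancel_left, mul_inv_cancel]
      · show x₀ * (lift (w₀ * w⁻¹) (x₀⁻¹ * x) ≫ snd B Z) = x
        rw [lift_snd, mul_inv_cancel_left]
  refine Set.Finite.of_finite_fibers (fun x => opull (𝟙 X * (toUnit X ≫ (x ≫ jZ))) c / c)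
    ((finite_invariant_kernel φ).subset ?_) fun m _ => ?_
  · rintro _ ⟨x, hx, rfl⟩
    refine ⟨fun a => translate_div_invariant c _ a, ?_⟩
    have hφc : opull φ c = opull (fst B Z) (opull jB c) * opull (snd B Z) (opull jZ c) := by
      have e := congrArg (opull (lift (snd B Z ≫ jZ) (fst B Z))) hadd
      simp only [map_mul, ← opull_comp, MonObj.comp_mul, lift_fst, lift_snd_assoc] at e
      rw [hφ, _root_.mul_comm (fst B Z ≫ jB), e, _root_.mul_comm, opull_comp, opull_comp]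
    show opull φ (opull (𝟙 X * (toUnit X ≫ (x ≫ jZ))) c / c) = 1
    rw [map_div, div_eq_one, ← opull_comp,
      show φ ≫ (𝟙 X * (toUnit X ≫ (x ≫ jZ))) =
        (𝟙 (B ⊗ Z) * (toUnit (B ⊗ Z) ≫ lift 1 x)) ≫ φ by
        rw [comp_mul_const, MonObj.mul_comp, Category.id_comp, Category.assoc, hlift, MonObj.one_comp,
          _root_.one_mul],
      opull_comp, hφc, map_mul, ← opull_comp _ (fst B Z), ← opull_comp _ (snd B Z)]
    have e1 : (𝟙 (B ⊗ Z) * (toUnit (B ⊗ Z) ≫ lift 1 x)) ≫ fst B Z = fst B Z := by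
      rw [MonObj.mul_comp, Category.id_comp, Category.assoc, lift_fst, MonObj.comp_one,
        _root_.mul_one]
    have e2 : (𝟙 (B ⊗ Z) * (toUnit (B ⊗ Z) ≫ lift 1 x)) ≫ snd B Z =
        snd B Z ≫ (𝟙 Z * (toUnit Z ≫ x)) := by
      rw [MonObj.mul_comp, Category.id_comp, Category.assoc, lift_snd, comp_mul_const]
    rw [e1, e2, opull_comp (snd B Z), show opull (𝟙 Z * (toUnit Z ≫ x)) (opull jZ c) = _ from hx]
  · rcases Set.eq_empty_or_nonempty ({x : 𝟙_ (Over (Spec (CommRingCat.of k))) ⟶ Z |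
        opull (𝟙 Z * (toUnit Z ≫ x)) (opull jZ c) = opull jZ c} ∩
        (fun x => opull (𝟙 X * (toUnit X ≫ (x ≫ jZ))) c / c) ⁻¹' {m}) with h | ⟨x₀, -, hx₀⟩
    · rw [h]; exact Set.finite_empty
    · refine (hS.image (fun w => x₀ * w)).subset ?_
      rintro x ⟨-, hx⟩
      refine ⟨x₀⁻¹ * x, ?_, mul_inv_cancel_left _ _⟩
      have e := translate_div_mul c (x₀ ≫ jZ) ((x₀⁻¹ * x) ≫ jZ)
      rw [← MonObj.mul_comp, mul_inv_cancel_left,
        show opull (𝟙 X * (toUnit X ≫ (x ≫ jZ))) c / c = m from hx,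
        show opull (𝟙 X * (toUnit X ≫ (x₀ ≫ jZ))) c / c = m from hx₀, eq_comm, mul_eq_left,
        div_eq_one] at e
      exact e

include jZ in
set_option backward.isDefEq.respectTransparency false in
/-- **The multiplicity of the root `0` is the dimension of the stabiliser.** -/
theorem rootMultiplicity_zero_eq_dim {g d : ℕ} (hg : topologicalKrullDim X.left = g)
    (hd : topologicalKrullDim B.left = d) {H : X.left.Modules} (hH : CohB1.IsAmple H)
    {c : PicLoc.PicSet X.left} (hadd : Mumford.Additive' c jB)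
    {F : Set (𝟙_ (Over (Spec (CommRingCat.of k))) ⟶ X)} (hF : F.Finite)
    (hFix : ∀ a, opull (𝟙 X * (toUnit X ≫ a)) c = c →
      ∃ f ∈ F, ∃ w : 𝟙_ (Over (Spec (CommRingCat.of k))) ⟶ B, a = f * (w ≫ jB))
    {Φ : Polynomial ℚ} (hΦ : ∀ n : ℕ, Φ.eval (n : ℚ) = (chi (c * cls hH.1 ^ n) : ℚ)) :
    Φ.rootMultiplicity 0 = d := by
  have := Groth.GrpschAbsch.isCommMonObj_of_isProper X
  have := Groth.GrpschAbsch.isCommMonObj_of_isProper B
  have := Groth.GrpschAbsch.isCommMonObj_of_isProper Z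
  have := Groth.Abvar.Cube.geometricallyIntegral_tensor B Z
  have := Groth.Abvar.Cube.isProper_tensor B Z
  obtain ⟨gY, hgY⟩ := Groth.FibreDim.exists_dim_eq_nat (B ⊗ Z)
  obtain ⟨gZ, hgZ⟩ := Groth.FibreDim.exists_dim_eq_nat Z
  set φ : B ⊗ Z ⟶ X := (fst B Z ≫ jB) * (snd B Z ≫ jZ) with hφ
  have : IsMonHom φ := by rw [hφ, Hom.mul_def]; infer_instance
  have hcZ := finite_fixed_complement jB jZ hadd hF hFix
  have hφc : opull φ c = opull (fst B Z) (opull jB c) * opull (snd B Z) (opull jZ c) := by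
    have e := congrArg (opull (lift (snd B Z ≫ jZ) (fst B Z))) hadd
    simp only [map_mul, ← opull_comp, MonObj.comp_mul, lift_fst, lift_snd_assoc] at e
    rw [hφ, _root_.mul_comm (fst B Z ≫ jB), e, _root_.mul_comm, opull_comp, opull_comp]
  obtain ⟨HB, hHB⟩ := Groth.AbVarMul.exists_isAmple (A := B)
  obtain ⟨HZ, hHZ⟩ := Groth.AbVarMul.exists_isAmple (A := Z)
  obtain ⟨Q, hQ, hQc⟩ := exists_isAmple_of_isIdx_zero
    ((isIdx_zero_of_isAmple hHB).box (isIdx_zero_of_isAmple hHZ))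
  have hP : CohB1.IsAmple ((Scheme.Modules.pullback φ.left).obj H) :=
    Groth.Chow.isAmple_pullback_of_isAffineHom _ hH
  have hPc : cls hP.1 = opull φ (cls hH.1) := (pull_cls φ.left hH.1).symm
  have hdim : gY = d + gZ := by
    have h1 := isIdx_inv_isAmple hgY hQ
    have h2 := (isIdx_inv_isAmple hd hHB).box (isIdx_inv_isAmple hgZ hHZ)
    rw [map_inv, map_inv, ← _root_.mul_inv, ← hQc] at h2
    exact h1.eq h2
  have hgg : gY = g := by
    have h1 := isIdx_inv_isAmple hgY hP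
    have h2 := (isIdx_inv_isAmple hg hH).pullback' φ
    rw [map_inv, ← hPc] at h2
    exact h1.eq h2
  obtain ⟨ΦZ, -, hΦZ⟩ := exists_poly_chi hgZ (opull jZ c) (cls hHZ.1)
  obtain ⟨iZ, -, hiZ, -⟩ := exists_isIdx hgZ hcZ
  have hμZ : ΦZ.rootMultiplicity 0 = 0 := by
    refine Polynomial.rootMultiplicity_eq_zero fun h0 => hiZ.chi_ne_zero ?_
    have h := hΦZ 0
    rw [Nat.cast_zero, show ΦZ.eval 0 = 0 from h0, _root_.pow_zero, _root_.mul_one] at h
    exact_mod_cast h.symm
  obtain ⟨j, hj⟩ := exists_isPlus hHZ hgZ (opull jZ c)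
  obtain ⟨j', hj'⟩ := exists_isPlus hHZ hgZ (opull jZ c)⁻¹
  have eZ := add_rootMultiplicity_zero hHZ hgZ hΦZ hj hj'
  have key : ∀ (dB : PicLoc.PicSet B.left) (eZ : PicLoc.PicSet Z.left) (e : PicLoc.PicSet X.left),
      opull (fst B B * snd B B) dB = opull (fst B B) dB * opull (snd B B) dB →
      opull φ e = opull (fst B Z) dB * opull (snd B Z) eZ →
      ∀ i l, IsPlus e (cls hH.1) i → IsPlus eZ (cls hHZ.1) l → i = l := by
    intro dB eZ e hdB he i l ⟨ε, hε, hi⟩ ⟨ε', hε', hl⟩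
    refine IsPlus.eq (c := opull φ e) hQ hP ⟨ε', hε', fun a b hb hab => ?_⟩ ⟨ε, hε, fun a b hb hab => ?_⟩
    · obtain ⟨Q', hQ', hQ'c⟩ := exists_isAmple_of_isIdx_zero ((isIdx_zero_of_isAmple hHB).pow' hb)
      have h1 := (isIdx_zero_mul_additive (d := dB ^ a) (by
        rw [map_pow, map_pow, map_pow, hdB, mul_pow]) hQ').box (hl a b hb hab)
      rw [hQ'c, Nat.zero_add] at h1
      rw [he, hQc]
      simp only [map_mul, map_pow, mul_pow] at h1 ⊢
      rwa [_root_.mul_mul_mul_comm] at h1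
    · have h1 := (hi a b hb hab).pullback' φ
      rw [map_mul, map_pow, map_pow, ← hPc] at h1
      exact h1
  obtain ⟨i, hi⟩ := exists_isPlus hH hg c
  obtain ⟨i', hi'⟩ := exists_isPlus hH hg c⁻¹
  have eX := add_rootMultiplicity_zero hH hg hΦ hi hi'
  have e₁ := key (opull jB c) (opull jZ c) c (additive_opull jB hadd) hφc i j hi hj
  have e₂ := key (opull jB c)⁻¹ (opull jZ c)⁻¹ c⁻¹
    (by rw [map_inv, map_inv, map_inv, additive_opull jB hadd, _root_.mul_inv])
    (by rw [map_inv, map_inv, map_inv, hφc, _root_.mul_inv]) i' j' hi' hj'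
  omega

end Groth.AbvarAmple
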