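import Groth.Agent.AbvarAmple.SurjKernel

/-!
# The identity component of the stabiliser of a class
-/

universe u

open CategoryTheory Limits MonoidalCategory CartesianMonoidalCategory MonObj GrpObj AlgebraicGeometry

namespace Groth.AbvarAmple

open Groth.Abvar Groth.Abvar.PicCalc

variable {k : Type u} [Field k] [IsAlgClosed k] {X : Over (Spec (CommRingCat.of k))} [GrpObj X]
  [IsProper X.hom] [GeometricallyIntegral X.hom]

/-- A class is additive along an abelian subvariety of finite index in its stabiliser. -/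
theorem exists_additive_subvariety {G : X.left.Modules} (hG : PicF.IsInvertible G) :
    ∃ (B : Over (Spec (CommRingCat.of k))) (_ : GrpObj B) (j : B ⟶ X), IsMonHom j ∧
      IsClosedImmersion j.left ∧ IsProper B.hom ∧ GeometricallyIntegral B.hom ∧
      Mumford.Additive' (cls hG) j ∧
      ∃ F : Set (𝟙_ (Over (Spec (CommRingCat.of k))) ⟶ X), F.Finite ∧
        ∀ a, opull (𝟙 X * (toUnit X ≫ a)) (cls hG) = cls hG →
          ∃ f ∈ F, ∃ w : 𝟙_ (Over (Spec (CommRingCat.of k))) ⟶ B, a = f * (w ≫ j) := by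
  obtain ⟨K, i, hK⟩ := Groth.ThetaRep.exists_isKL (A := X) hG
  have : IsClosedImmersion i.left := hK.1
  have : Mono i := Over.mono_of_mono_left i
  have hiff := fun {T : Over (Spec (CommRingCat.of k))} (z : T ⟶ X) =>
    Mumford.additive'_iff G hG hK z
  have hi : Mumford.Additive' (cls hG) i := (hiff i).1 ⟨𝟙 K, Category.id_comp i⟩
  obtain ⟨instK, hiK⟩ := Groth.GrpschAbsch.NeutralSet.exists_grpObj_of_mono X i
    ((hiff η[X]).2 (by rw [MonObj.one_eq_one]; exact Mumford.Additive'.one))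
    ((hiff _).2 (((hiff (fst K K ≫ i)).1 ⟨_, rfl⟩).mul ((hiff (snd K K ≫ i)).1 ⟨_, rfl⟩)))
    ((hiff i⁻¹).2 hi.inv)
  have : IsProper K.hom := by
    rw [← Over.w i]
    infer_instance
  obtain ⟨Z, instZ, c, hc, hci, hcs, hZs, hZr⟩ := Groth.AlgGrp1.exists_reduced_subgroup_lft K
  have : IsProper Z.hom := by
    rw [← Over.w c]
    infer_instance
  obtain ⟨B, instB, b, hb, hbo, hbr, hBc⟩ := Groth.GrpschAbsch.NeutralSet.exists_neutral_openSubgroup Z
  have : IsClosedImmersion b.left :=
    IsClosedImmersion.of_isPreimmersion b.left (hbr ▸ isClosed_connectedComponent)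
  have : Smooth B.hom := by
    rw [← Over.w b]
    infer_instance
  have : IsProper B.hom := by
    rw [← Over.w b]
    infer_instance
  have : GeometricallyIntegral B.hom := Groth.AlgGrp1.geometricallyIntegral_of_smooth B
  have : IsClosedImmersion (b ≫ c ≫ i).left :=
    inferInstanceAs (IsClosedImmersion (b.left ≫ c.left ≫ i.left))
  let j : B ⟶ X := b ≫ c ≫ i
  have : CompactSpace Z.left := QuasiCompact.compactSpace_of_compactSpace Z.hom
  obtain ⟨S, hS⟩ := isCompact_univ.elim_finite_subcover (fun z : Z.left => connectedComponent z)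
    (fun z => Groth.GrpschAbsch.NeutralSet.isOpen_component Z z)
    (fun z _ => Set.mem_iUnion.2 ⟨z, mem_connectedComponent⟩)
  classical
  let rep : Z.left → (𝟙_ (Over (Spec (CommRingCat.of k))) ⟶ Z) := fun z =>
    if h : ∃ v : 𝟙_ (Over (Spec (CommRingCat.of k))) ⟶ Z, pt v ∈ connectedComponent z then h.choose else 1
  refine ⟨B, instB, j, inferInstance, inferInstance, inferInstance, inferInstance,
    (hiff _).1 ⟨b ≫ c, Category.assoc _ _ _⟩, (fun z => (rep z ≫ c) ≫ i) '' (S : Set Z.left),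
    S.finite_toSet.image _, fun a ha => ?_⟩
  obtain ⟨y, rfl⟩ := (hiff a).2 ((fixed_iff_additive' _ a).1 ha)
  have : Surjective c.left := hcs
  obtain ⟨v, rfl⟩ := exists_point_lift c y
  obtain ⟨z, hz, hvz⟩ := Set.mem_iUnion₂.1 (hS (Set.mem_univ (pt v)))
  have hr : pt (rep z) ∈ connectedComponent z := by
    simp only [rep]
    rw [dif_pos ⟨v, hvz⟩]
    exact Exists.choose_spec (p := fun v => pt v ∈ connectedComponent z) ⟨v, hvz⟩
  let r := rep z
  refine ⟨_, ⟨z, hz, rfl⟩, ?_⟩
  have h1 : pt (1 : 𝟙_ (Over (Spec (CommRingCat.of k))) ⟶ Z) =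
      (𝟙 Z * (toUnit Z ≫ r⁻¹)).left.base (pt r) := by
    rw [← pt_translate, mul_inv_cancel]
  have h2 : pt (v * r⁻¹) ∈ connectedComponent (pt (1 : 𝟙_ (Over (Spec (CommRingCat.of k))) ⟶ Z)) := by
    rw [h1, pt_translate]
    exact (𝟙 Z * (toUnit Z ≫ r⁻¹)).left.continuous.image_connectedComponent_subset (pt r)
      ⟨_, (connectedComponent_eq hr) ▸ hvz, rfl⟩
  have h3 : connectedComponent (pt (1 : 𝟙_ (Over (Spec (CommRingCat.of k))) ⟶ Z)) = Set.range b.left.base := by
    rw [hbr]
    simp only [pt, MonObj.one_eq_one]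
  rw [h3] at h2
  obtain ⟨q, hq⟩ := h2
  have hcl : IsClosed ({pt (v * r⁻¹)} : Set Z.left) := by
    have : IsClosedImmersion (v * r⁻¹).left :=
      isClosedImmersion_of_comp_eq_id Z.hom (v * r⁻¹).left (Over.w _)
    rw [← range_eq]
    exact (v * r⁻¹).left.isClosedEmbedding.isClosed_range
  have hqc : IsClosed ({q} : Set B.left) := by
    have : b.left.base ⁻¹' {pt (v * r⁻¹)} = {q} := by
      ext x
      exact ⟨fun hx => b.left.isClosedEmbedding.injective (hx.trans hq.symm), fun hx => hx ▸ hq⟩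
    exact this ▸ hcl.preimage b.left.continuous
  obtain ⟨w, hw⟩ := exists_rationalPoint B hqc
  have hwb : w ≫ b = v * r⁻¹ := pt_injective (by rw [pt_comp, ← hq]; exact congrArg _ hw)
  refine ⟨w, ?_⟩
  have e : (v ≫ c) ≫ i = (r ≫ c) ≫ i * (w ≫ j) := by
    have := Groth.GrpschAbsch.isCommMonObj_of_isProper X
    rw [show w ≫ j = ((w ≫ b) ≫ c) ≫ i by simp only [j, Category.assoc], hwb, MonObj.mul_comp,
      MonObj.mul_comp, GrpObj.inv_comp, GrpObj.inv_comp, _root_.mul_comm _ (((v ≫ c) ≫ i) * _),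
      inv_mul_cancel_right]
  exact e

end Groth.AbvarAmple
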