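import Groth.Agent.VarietyBC.Reduced
import Mathlib.AlgebraicGeometry.Geometrically.Integral

/-!
# Integral schemes over algebraically closed fields are geometrically integral
-/

universe u

open CategoryTheory AlgebraicGeometry

namespace Groth.AbvarAmple

/-- An integral scheme of finite type over an algebraically closed field is geometrically integral. -/
theorem geometricallyIntegral_of_isAlgClosed {k : Type u} [Field k] [IsAlgClosed k] {X : Scheme.{u}}
    (f : X ⟶ Spec (CommRingCat.of k)) [IsIntegral X] [IsSeparated f] [LocallyOfFiniteType f]
    [QuasiCompact f] : GeometricallyIntegral f := by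
  letI : X.Over (Spec (CommRingCat.of k)) := ⟨f⟩
  have hirr : GeometricallyIrreducible f := by
    refine Groth.VarietyBC.geometricallyIrreducible_of_sepClosedAt (k := k) (X := X) fun a ha => ?_
    letI := Curv2.resAlgebra k X (genericPoint X)
    exact ⟨_, (minpoly.degree_eq_one_iff.mp
      (IsAlgClosed.degree_eq_one_of_irreducible k (minpoly.irreducible ha.isIntegral))).choose_spec⟩
  have hred : GeometricallyReduced f := by
    refine (Groth.VarietyBC.geometricallyReduced_iff_forall (k := k) (X := X)).mpr fun x => ?_
    letI := Curv2.stalkAlgebra k X x
    exact (Groth.VarietyBC.isGeomReducedAt_iff x).mpr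
      (Groth.VarietyBC.isGeometricallyReduced_of_perfectField _)
  exact GeometricallyIntegral.of_geometricallyReduced_of_geometricallyIrreducible f

end Groth.AbvarAmple
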