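import Groth.Agent.Abvar.AlgClosedAux
import Groth.Agent.Abvar.PicCalc
import Groth.Agent.Chow.VeryAmplePn
import Groth.Agent.Variety2.ProjBasics

/-!
# Generated invertible modules which are trivial on no curve are ample
-/

universe u

open CategoryTheory MonoidalCategory CartesianMonoidalCategory AlgebraicGeometry TopologicalSpace

namespace Groth.AbvarAmple

open Groth.Abvar.PicCalc

variable {k : Type u} [Field k]

/-- Classes pulled back to a complete variety through an affine open are trivial. -/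
theorem pull_eq_one_of_range_subset {Z P : Scheme.{u}} (f : Z ⟶ Spec (CommRingCat.of k)) [IsProper f]
    [IsIntegral Z] (g : Z ⟶ P) {W : P.Opens} (hW : IsAffineOpen W) (h : ∀ z, g z ∈ W)
    (c : PicLoc.PicSet P) : pull g c = 1 := by
  let g' := IsOpenImmersion.lift W.ι g (by rw [W.range_ι]; rintro _ ⟨z, rfl⟩; exact h z)
  have hg : g' ≫ W.ι = g := IsOpenImmersion.lift_fac _ _ _
  have : IsAffine (W : Scheme.{u}) := hW
  have hf := isField_of_universallyClosed k f
  have : Subsingleton ↥(Spec Γ(Z, ⊤)) := by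
    let := hf.toField
    exact inferInstanceAs (Subsingleton (PrimeSpectrum Γ(Z, ⊤)))
  have e : g = Z.toSpecΓ ≫ Spec.map g'.appTop ≫ (W : Scheme.{u}).isoSpec.inv ≫ W.ι := by
    rw [← Scheme.toSpecΓ_naturality_assoc, ← Scheme.isoSpec_hom, Iso.hom_inv_id_assoc, hg]
  rw [e, pull_comp, eq_one_of_subsingleton (pull _ c), map_one]

/-- Points of a compact scheme specialise to closed points. -/
theorem exists_isClosed_specializes {P : Scheme.{u}} [CompactSpace P] (y : P) :
    ∃ z : P, y ⤳ z ∧ IsClosed ({z} : Set P) := by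
  obtain ⟨z, hz, hzc⟩ := IsClosed.exists_closed_singleton isClosed_closure
    (⟨y, subset_closure (Set.mem_singleton y)⟩ : (closure ({y} : Set P)).Nonempty)
  exact ⟨z, specializes_iff_mem_closure.2 hz, hzc⟩

/-- An invertible module generated by global sections which is trivial on no positive dimensional
closed subvariety is ample. -/
theorem isAmple_of_generated (X : Over (Spec (CommRingCat.of k))) [IsProper X.hom]
    {L : X.left.Modules} (hL : PicF.IsInvertible L) {m : ℕ} (s : Fin (m + 1) → Γ(L, ⊤))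
    (hcov : ∀ x, ∃ i, x ∈ Groth.PropsBasic.Ample.gloc (s i))
    (hZ : ∀ (Z : Over (Spec (CommRingCat.of k))) (j : Z ⟶ X), IsClosedImmersion j.left →
      IsIntegral Z.left → pull j.left (cls hL) = 1 → Subsingleton Z.left) :
    CohB1.IsAmple L := by
  have hU : ⨆ i, Groth.Chow.ToPn.U L s i = ⊤ := top_le_iff.1 fun x _ => by
    obtain ⟨i, hi⟩ := hcov x
    exact Opens.mem_iSup.2 ⟨i, hi⟩
  obtain ⟨r, hr⟩ := Groth.Chow.ToPn.exists_r X.hom L s hU
  have hrq := Groth.Chow.ToPn.r_toSpec hr hU
  obtain ⟨τ, -⟩ := Groth.Chow.ToPn.exists_tau hr hU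
  let P := CohB1.ProjSpace m k
  have : IsProper (CohB1.ProjSpace.toSpec m k) := Groth.Variety2.isProper_projSpace_toSpec m k
  have : IsProper r := by
    have h : IsProper (r ≫ CohB1.ProjSpace.toSpec m k) := by rw [hrq]; infer_instance
    exact IsProper.of_comp r (CohB1.ProjSpace.toSpec m k)
  have : CompactSpace P := QuasiCompact.compactSpace_of_compactSpace (CohB1.ProjSpace.toSpec m k)
  have : IsLocallyNoetherian X.left := LocallyOfFiniteType.isLocallyNoetherian X.hom
  have : CompactSpace X.left := QuasiCompact.compactSpace_of_compactSpace X.hom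
  have : IsNoetherian X.left := {}
  have hM : PicF.IsInvertible (Groth.Chow.ToPn.O1 m k) := Groth.Chow.ToPn.twist_isInvertible
  have hpull : pull r (cls hM) = cls hL := by
    rw [pull_cls]
    exact (nonempty_iso_iff _ _).1 ⟨τ⟩
  have hfib : ∀ p : P, IsClosed ({p} : Set P) → (r ⁻¹' {p}).Finite := by
    intro p hp
    obtain ⟨T, hTf, hTc, hTi, hST⟩ :=
      NoetherianSpace.exists_finite_set_isClosed_irreducible (hp.preimage r.continuous)
    rw [hST]
    refine hTf.sUnion fun C hC => Set.Subsingleton.finite ?_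
    obtain ⟨Z, j, hj, hZr, hZC⟩ := Groth.Abvar.exists_reduced_on X ⟨C, hTc C hC⟩
    have : IsProper Z.hom := by
      rw [← Over.w j]
      infer_instance
    have : IrreducibleSpace Z.left := by
      have hi : IsPreirreducible (Set.univ : Set Z.left) := by
        intro u v hu hv hune hvne
        obtain ⟨u', hu', rfl⟩ := j.left.isClosedEmbedding.toIsEmbedding.toIsInducing.isOpen_iff.1 hu
        obtain ⟨v', hv', rfl⟩ := j.left.isClosedEmbedding.toIsEmbedding.toIsInducing.isOpen_iff.1 hv
        obtain ⟨a, -, ha⟩ := hune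
        obtain ⟨b, -, hb⟩ := hvne
        obtain ⟨x, hxC, hxu, hxv⟩ := (hTi C hC).isPreirreducible u' v' hu' hv'
          ⟨_, hZC.subset ⟨a, rfl⟩, ha⟩ ⟨_, hZC.subset ⟨b, rfl⟩, hb⟩
        obtain ⟨z, rfl⟩ := hZC.symm.subset hxC
        exact ⟨z, trivial, hxu, hxv⟩
      obtain ⟨x, hx⟩ := (hTi C hC).nonempty
      rw [show C = Set.range j.left.base from hZC.symm] at hx
      obtain ⟨z, -⟩ := hx
      exact { isPreirreducible_univ := hi, toNonempty := ⟨z⟩ }
    have : IsIntegral Z.left := isIntegral_of_irreducibleSpace_of_isReduced _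
    obtain ⟨W, hW, hpW, -⟩ := exists_isAffineOpen_mem_and_subset
      (X := P) (U := (⊤ : P.Opens)) (x := p) trivial
    have := hZ Z j hj inferInstance (by
      rw [← hpull, ← pull_comp]
      refine pull_eq_one_of_range_subset Z.hom (j.left ≫ r) hW (fun z => ?_) _
      have h1 : j.left z ∈ r ⁻¹' {p} := hST.symm ▸ Set.mem_sUnion.2 ⟨C, hC, hZC.subset ⟨z, rfl⟩⟩
      rw [Scheme.Hom.comp_apply, Set.mem_singleton_iff.1 h1]
      exact hpW)
    rw [show C = Set.range j.left.base from hZC.symm]
    exact Set.subsingleton_range _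
  choose V hpV hV using fun p : {p : P // IsClosed ({p} : Set P)} =>
    exists_isFinite_morphismRestrict_of_finite_preimage_singleton r p.1 (hfib p.1 p.2)
  have : IsFinite r := IsZariskiLocalAtTarget.of_iSup_eq_top (P := @IsFinite) V
    (top_le_iff.1 fun y _ => by
      obtain ⟨z, hyz, hz⟩ := exists_isClosed_specializes y
      exact Opens.mem_iSup.2 ⟨⟨z, hz⟩, hyz.mem_open (V ⟨z, hz⟩).2 (hpV _)⟩) hV
  exact Groth.Chow.isAmple_of_iso τ
    (Groth.Chow.isAmple_pullback_of_isAffineHom r (Groth.Chow.isAmple_O1 m k))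

end Groth.AbvarAmple
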