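import Groth.Agent.AbvarAmple.Slices
import Groth.Agent.AbvarAmple.GlobGen
import Groth.Agent.AbvarAmple.GeomInt
import Groth.Agent.AbVarMul.Ample
import Groth.Agent.Ega2Proj.QuasiAffineAmple

/-!
# Effective nondegenerate classes are ample
-/

universe u

open CategoryTheory MonoidalCategory CartesianMonoidalCategory MonObj GrpObj AlgebraicGeometry
open TopologicalSpace

namespace Groth.AbvarAmple

open Groth.Abvar Groth.Abvar.PicCalc Groth.PropsBasic.Ample

variable {k : Type u} [Field k] [IsAlgClosed k]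
variable {A : Over (Spec (CommRingCat.of k))} [GrpObj A] [IsProper A.hom]
  [GeometricallyIntegral A.hom]

theorem surjective_translate (a : 𝟙_ (Over (Spec (CommRingCat.of k))) ⟶ A) :
    Function.Surjective (𝟙 A * (toUnit A ≫ a)).left.base :=
  surjective_of_comp_eq_id (g := 𝟙 A * (toUnit A ≫ a⁻¹))
    (by rw [translate_comp, inv_mul_cancel, translate_one])

/-- On a proper integral scheme a section of a trivial module with nonempty locus vanishes nowhere. -/
theorem gloc_eq_top_of_trivial {Z : Scheme.{u}} (f : Z ⟶ Spec (CommRingCat.of k)) [IsProper f]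
    [IsIntegral Z] {M : Z.Modules} (hM : PicF.IsInvertible M) (h : cls hM = 1) (t : Γ(M, ⊤))
    (hne : (gloc t : Set Z).Nonempty) : gloc t = ⊤ := by
  obtain ⟨ψ⟩ := (nonempty_iso_structure_iff hM).2 h
  have h1 : gloc t = Z.basicOpen (PicAux.toFun (ψ.hom.app ⊤ t)) := by
    rw [← Groth.Ega2Proj.gloc_structure, gloc_map]
  rcases eq_or_ne (PicAux.toFun (ψ.hom.app ⊤ t)) 0 with h0 | h0
  · rw [h1, h0, Scheme.basicOpen_zero] at hne
    obtain ⟨x, hx⟩ := hne
    exact hx.elim
  · obtain ⟨d, hd⟩ := (isField_of_universallyClosed k f).mul_inv_cancel h0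
    rw [h1, Scheme.basicOpen_of_isUnit _ (IsUnit.of_mul_eq_one _ hd)]

/-- A rational point whose translate and inverse translate of a point lie in a given nonempty open
can be found, and they fill a nonempty open. -/
theorem exists_open_translates (p : 𝟙_ (Over (Spec (CommRingCat.of k))) ⟶ A) (U : A.left.Opens)
    (hU : (U : Set A.left).Nonempty) :
    ∃ O : Set A.left, IsOpen O ∧ O.Nonempty ∧ ∀ a : 𝟙_ (Over (Spec (CommRingCat.of k))) ⟶ A,
      pt a ∈ O → pt (p * a) ∈ U ∧ pt (p * a⁻¹) ∈ U := by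
  let φ₁ : A ⟶ A := (toUnit A ≫ p) * 𝟙 A
  let φ₂ : A ⟶ A := (toUnit A ≫ p) * (𝟙 A)⁻¹
  have h₁ : Function.Surjective φ₁.left.base := by
    refine surjective_of_comp_eq_id (g := (toUnit A ≫ p)⁻¹ * 𝟙 A) ?_
    simp only [φ₁, MonObj.comp_mul, Category.comp_id, ← Category.assoc, comp_toUnit]
    rw [← _root_.mul_assoc, mul_inv_cancel, _root_.one_mul]
  have h₂ : Function.Surjective φ₂.left.base := by
    refine surjective_of_comp_eq_id (g := (𝟙 A)⁻¹ * (toUnit A ≫ p)) ?_
    simp only [φ₂, MonObj.comp_mul, GrpObj.comp_inv, Category.comp_id, ← Category.assoc, comp_toUnit]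
    rw [_root_.mul_inv_rev, _root_.inv_inv, ← _root_.mul_assoc, mul_inv_cancel, _root_.one_mul]
  have := Groth.Abvar.isIntegral_left A
  refine ⟨φ₁.left.base ⁻¹' U ∩ φ₂.left.base ⁻¹' U,
    (U.2.preimage φ₁.left.continuous).inter (U.2.preimage φ₂.left.continuous),
    nonempty_preirreducible_inter (U.2.preimage φ₁.left.continuous) (U.2.preimage φ₂.left.continuous)
      (hU.preimage h₁) (hU.preimage h₂), fun a ha => ?_⟩
  have e₁ : a ≫ φ₁ = p * a := by
    simp only [φ₁, MonObj.comp_mul, Category.comp_id, ← Category.assoc]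
    rw [toUnit_unique (a ≫ toUnit A) (𝟙 _), Category.id_comp]
  have e₂ : a ≫ φ₂ = p * a⁻¹ := by
    simp only [φ₂, MonObj.comp_mul, GrpObj.comp_inv, Category.comp_id, ← Category.assoc]
    rw [toUnit_unique (a ≫ toUnit A) (𝟙 _), Category.id_comp]
  rw [← e₁, ← e₂, pt_comp, pt_comp]
  exact ha

/-- An effective class is ample if no positive dimensional subvariety has all its translates trivial
for the class. -/
theorem isAmple_of_slices {L : A.left.Modules} (hL : PicF.IsInvertible L) (s : Γ(L, ⊤))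
    (hs : s ≠ 0)
    (hsub : ∀ (Z : Over (Spec (CommRingCat.of k))) (j : Z ⟶ A), IsClosedImmersion j.left →
      IsIntegral Z.left → IsProper Z.hom →
      (∀ a : 𝟙_ (Over (Spec (CommRingCat.of k))) ⟶ A,
        opull (j ≫ (𝟙 A * (toUnit A ≫ a))) (cls hL) = 1) → Subsingleton Z.left) :
    CohB1.IsAmple L := by
  have hcomm := GrpschAbsch.isCommMonObj_of_isProper A
  have := Groth.Abvar.isIntegral_left A
  have : CompactSpace A.left := QuasiCompact.compactSpace_of_compactSpace A.hom
  have : JacobsonSpace A.left := LocallyOfFiniteType.jacobsonSpace A.hom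
  let c := cls hL
  let t := fun a : 𝟙_ (Over (Spec (CommRingCat.of k))) ⟶ A => (𝟙 A * (toUnit A ≫ a) : A ⟶ A)
  let U := gloc s
  have hU : (U : Set A.left).Nonempty := by
    have h := Seesaw.genLocus_nonempty hL hs
    rwa [genLocus_eq_gloc, PicAux.gsec_homOfSection] at h
  have hM := PicCalc.isInvertible_tensorPow hL 2
  have hsig : ∀ a, ∃ σ : Γ(CohB1.tensorPow L 2, ⊤),
      ∀ x, x ∈ gloc σ ↔ (t a).left x ∈ U ∧ (t a⁻¹).left x ∈ U := by
    intro a
    have h1 := PicLoc.isInvertible_pullback (t a).left hL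
    have h2 := PicLoc.isInvertible_pullback (t a⁻¹).left hL
    obtain ⟨e⟩ : Nonempty (CohB1.tensorMod ((Scheme.Modules.pullback (t a).left).obj L)
        ((Scheme.Modules.pullback (t a⁻¹).left).obj L) ≅ CohB1.tensorPow L 2) := by
      rw [nonempty_iso_iff (PicCalc.isInvertible_tensorMod h1 h2) hM, cls_tensorMod h1 h2,
        cls_tensorPow hL 2, ← pull_cls _ hL, ← pull_cls _ hL]
      have := Groth.Abvar.Cube.opull_square c (𝟙 A) a a⁻¹
      rw [mul_inv_cancel a, MonObj.comp_one, show (𝟙 A : A ⟶ A) * 1 = 𝟙 A from _root_.mul_one _,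
        opull_id] at this
      rw [_root_.pow_two]
      exact this.symm
    refine ⟨e.hom.app ⊤ (PicAux.tmulSec (PicAux.pullSec (t a).left L s)
      (PicAux.pullSec (t a⁻¹).left L s)), fun x => ?_⟩
    rw [gloc_map e.hom, gloc_tmulSec h1 h2, gloc_pullSec _ hL, gloc_pullSec _ hL]
    rfl
  choose σ hσ using hsig
  -- the sections `σ a` generate
  have hgen : ∀ x : A.left, ∃ a, x ∈ gloc (σ a) := by
    intro x
    obtain ⟨z, hxz, hz⟩ := exists_isClosed_specializes x
    obtain ⟨p, rfl⟩ := exists_rationalPoint A hz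
    obtain ⟨O, hO, hOne, hOU⟩ := exists_open_translates p U hU
    obtain ⟨a, ha⟩ := exists_point_mem A hO hOne
    refine ⟨a, hxz.mem_open (gloc (σ a)).2 ((hσ a _).2 ?_)⟩
    have h := hOU a ha
    rw [pt_translate, pt_translate] at h
    exact h
  choose α hα using hgen
  obtain ⟨F, hF⟩ := CompactSpace.isCompact_univ.elim_finite_subcover
    (fun x => (gloc (σ (α x)) : Set A.left)) (fun x => (gloc (σ (α x))).isOpen)
    (fun x _ => Set.mem_iUnion.2 ⟨x, hα x⟩)
  let e := F.equivFin
  refine Groth.Chow.isAmple_of_tensorPow hL two_pos (isAmple_of_generated A hM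
    (m := F.card) (Fin.cons (σ 1) fun i => σ (α (e.symm i).1)) (fun x => ?_) ?_)
  · obtain ⟨y, hy, hxy⟩ := Set.mem_iUnion₂.1 (hF (Set.mem_univ x))
    refine ⟨(e ⟨y, hy⟩).succ, ?_⟩
    simp only [Fin.cons_succ, Equiv.symm_apply_apply]
    exact hxy
  intro Z j hj hZ htriv
  have : IsProper Z.hom := by
    rw [← Over.w j]
    infer_instance
  have : GeometricallyIntegral Z.hom := geometricallyIntegral_of_isAlgClosed Z.hom
  have : JacobsonSpace Z.left := LocallyOfFiniteType.jacobsonSpace Z.hom
  obtain ⟨z₀, -⟩ := exists_point_mem Z isOpen_univ Set.univ_nonempty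
  obtain ⟨O, hO, hOne, hOU⟩ := exists_open_translates (z₀ ≫ j) U hU
  -- on an open set of translations the translate of `L` is trivial on `Z`
  have hO1 : ∀ a, pt a ∈ O → opull (j ≫ t a) c = 1 := by
    intro a ha
    have h := hOU a ha
    rw [pt_translate, pt_translate, pt_comp] at h
    have hMZ := PicLoc.isInvertible_pullback j.left hM
    have htop := gloc_eq_top_of_trivial Z.hom hMZ (by rw [← pull_cls _ hM]; exact htriv)
      (PicAux.pullSec j.left _ (σ a)) ⟨pt z₀, by
        rw [gloc_pullSec _ hM]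
        exact (hσ a _).2 h⟩
    have hg : gloc (PicAux.pullSec (j ≫ t a).left L s) = ⊤ := top_le_iff.1 fun z _ => by
      rw [gloc_pullSec _ hL]
      have hz : z ∈ gloc (PicAux.pullSec j.left (CohB1.tensorPow L 2) (σ a)) := htop.ge trivial
      rw [gloc_pullSec _ hM] at hz
      have hz' := ((hσ a _).1 hz).1
      rw [Over.comp_left]
      exact hz'
    change pull _ (cls hL) = 1
    rw [pull_cls _ hL, ← nonempty_iso_structure_iff, PicAux.nonempty_iso_structure_iff]
    have hgen := gen_gloc (PicAux.pullSec (j ≫ t a).left L s) (V := ⊤) hg.ge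
    rw [PicAux.res_self] at hgen
    exact ⟨_, hgen⟩
  obtain ⟨S, hS, hSa⟩ := Groth.Abvar.Cube.exists_isClosed_slice_trivial (X := Z) (Y := A)
    (opull ((fst Z A ≫ j) * snd Z A) c)
  have hslice : ∀ a, opull (lift (𝟙 Z) (toUnit Z ≫ a)) (opull ((fst Z A ≫ j) * snd Z A) c) =
      opull (j ≫ t a) c := fun a => by
    rw [← opull_comp, MonObj.comp_mul, ← Category.assoc, lift_fst, lift_snd, Category.id_comp,
      comp_mul_const]
  have hSO : O ∩ closedPoints A.left ⊆ S := by
    rintro x ⟨hxO, hx⟩
    obtain ⟨a, rfl⟩ := exists_rationalPoint A hx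
    exact (hSa a).2 ((hslice a).trans (hO1 a hxO))
  have hSu : ∀ x, x ∈ S := by
    intro x
    refine hS.closure_subset_iff.2 hSO ?_
    rw [JacobsonSpace.closure_inter_closedPoints_eq_closure hO.isLocallyClosed, (hO.dense hOne).closure_eq]
    trivial
  exact hsub Z j hj hZ inferInstance fun a => (hslice a).symm.trans ((hSa a).1 (hSu _))

/-- An effective class fixed by finitely many translations is ample. -/
theorem isAmple_of_finite_fixed {L : A.left.Modules} (hL : PicF.IsInvertible L) (s : Γ(L, ⊤))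
    (hs : s ≠ 0)
    (hfin : Set.Finite {a : 𝟙_ (Over (Spec (CommRingCat.of k))) ⟶ A |
      opull (𝟙 A * (toUnit A ≫ a)) (cls hL) = cls hL}) : CohB1.IsAmple L := by
  have hcomm := GrpschAbsch.isCommMonObj_of_isProper A
  refine isAmple_of_slices hL s hs fun Z j hj hZ hP hall => ?_
  let c := cls hL
  let t := fun a : 𝟙_ (Over (Spec (CommRingCat.of k))) ⟶ A => (𝟙 A * (toUnit A ≫ a) : A ⟶ A)
  have : GeometricallyIntegral Z.hom := geometricallyIntegral_of_isAlgClosed Z.hom
  have := Groth.Abvar.isIntegral_left A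
  have : JacobsonSpace Z.left := LocallyOfFiniteType.jacobsonSpace Z.hom
  obtain ⟨z₀, -⟩ := exists_point_mem Z isOpen_univ Set.univ_nonempty
  have hslice : ∀ a, opull (lift (𝟙 Z) (toUnit Z ≫ a)) (opull ((fst Z A ≫ j) * snd Z A) c) = 1 :=
    fun a => by
    rw [← opull_comp, MonObj.comp_mul, ← Category.assoc, lift_fst, lift_snd, Category.id_comp,
      ← comp_mul_const]
    exact hall a
  have hbase := eq_opull_snd_of_slices z₀ (opull ((fst Z A ≫ j) * snd Z A) c) hslice
  rw [← opull_comp (B := Z ⊗ A) (lift (toUnit A ≫ z₀) (𝟙 A)) _ c, MonObj.comp_mul,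
    ← Category.assoc (lift _ _), lift_fst, lift_snd, Category.assoc, ← opull_comp] at hbase
  -- translations by differences of points of `Z` fix `L`
  have hK : ∀ z, opull (t ((z ≫ j) * (z₀ ≫ j)⁻¹)) c = c := by
    intro z
    have h := congrArg (opull (lift (toUnit A ≫ z) (𝟙 A))) hbase
    rw [← opull_comp, ← opull_comp, MonObj.comp_mul, ← Category.assoc (lift _ _), lift_fst, lift_snd,
      Category.assoc, lift_snd_assoc, Category.id_comp] at h
    have e1 : ∀ b, (toUnit A ≫ b) * 𝟙 A = t b := fun b => _root_.mul_comm _ _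
    rw [e1, e1] at h
    have h2 := congrArg (opull (t (z₀ ≫ j)⁻¹)) h
    simp only [t] at h2
    rw [← opull_comp, ← opull_comp, translate_comp, translate_comp, inv_mul_cancel, translate_one,
      opull_id] at h2
    simp only [t]
    rw [_root_.mul_comm (z ≫ j)]
    exact h2
  have hpts : (closedPoints Z.left).Finite := by
    refine (((hfin.image fun b => pt (b * (z₀ ≫ j))).preimage
      j.left.isClosedEmbedding.injective.injOn)).subset fun x hx => ?_
    obtain ⟨z, rfl⟩ := exists_rationalPoint Z hx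
    refine ⟨_, hK z, ?_⟩
    dsimp only
    rw [_root_.mul_assoc, inv_mul_cancel, _root_.mul_one, pt_comp]
  have hclosed : IsClosed (closedPoints Z.left) := by
    have h := hpts.isClosed_biUnion (f := fun x => ({x} : Set Z.left)) fun x hx => hx
    rwa [Set.biUnion_of_singleton] at h
  have hcp : ∀ x, x ∈ closedPoints Z.left := fun x => by
    rw [← hclosed.closure_eq, closure_closedPoints]
    trivial
  refine ⟨fun a b => ?_⟩
  have h1 := (genericPoint_specializes (α := Z.left) a).mem_closure
  have h2 := (genericPoint_specializes (α := Z.left) b).mem_closure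
  rw [(hcp (genericPoint Z.left)).closure_eq] at h1 h2
  exact h1.trans h2.symm

end Groth.AbvarAmple
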