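import Groth.Agent.AbVarMul.Consequences
import Groth.Agent.AbVarMul.Ample
import Groth.Agent.AbvarAmple.KerFinite
import Groth.Agent.Chow.AmpleTwist
import Groth.Agent.Chow.NormGen
import Groth.Agent.S2328

/-!
# Ample classes twisted by additive classes
-/

universe u

open CategoryTheory MonoidalCategory CartesianMonoidalCategory MonObj GrpObj AlgebraicGeometry
open TopologicalSpace

namespace Groth.AbvarAmple

open Groth.Abvar Groth.Abvar.PicCalc

variable {k : Type u} [Field k] {A : Over (Spec (CommRingCat.of k))} [GrpObj A]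

/-- Pullbacks of additive classes along powers. -/
theorem opull_pow_of_additive (c : PicLoc.PicSet A.left)
    (hc : opull (fst A A * snd A A) c = opull (fst A A) c * opull (snd A A) c)
    {T : Over (Spec (CommRingCat.of k))} (f : T ⟶ A) (n : ℕ) :
    opull (f ^ n) c = opull f c ^ n := by
  induction n with
  | zero => rw [_root_.pow_zero, _root_.pow_zero, opull_one]
  | succ n ih =>
    have e := congrArg (opull (lift (f ^ n) f)) hc
    rw [map_mul, ← opull_comp, ← opull_comp, ← opull_comp, MonObj.comp_mul, lift_fst, lift_snd] at e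
    rw [pow_succ, e, ih, pow_succ]

/-- The local rings of a smooth variety over a field are normal. -/
theorem normal_stalk {X : Scheme.{u}} (f : X ⟶ Spec (CommRingCat.of k)) [Smooth f] (x : X) :
    IsDomain (X.presheaf.stalk x) ∧ IsIntegrallyClosed (X.presheaf.stalk x) := by
  have hfld : IsField ((Spec (CommRingCat.of k)).presheaf.stalk (f x)) := by
    obtain ⟨p, hp⟩ := Groth.GrpschAbsch.FibreFlat.exists_isField_stalk
      (Spec (CommRingCat.of k)) (f x)
    have : Subsingleton ↥(Spec (CommRingCat.of k)) := inferInstanceAs (Subsingleton (PrimeSpectrum k))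
    rwa [Subsingleton.elim (f x) p]
  have : IsLocallyNoetherian X := LocallyOfFiniteType.isLocallyNoetherian f
  have : IsRegularLocalRing ((Spec (CommRingCat.of k)).presheaf.stalk (f x)) := by
    let := hfld.toField
    infer_instance
  have := Groth.NeronArea.Weil.isRegularLocalRing_of_smooth f x this
  have : IsDomain (X.presheaf.stalk x) := Groth.Ega4Algebra1.isDomain_of_isRegularLocalRing _
  have := Groth.PicAux.ufd_of_isRegularLocalRing (X.presheaf.stalk x)
  exact ⟨inferInstance, inferInstance⟩

/-- Some odd power of `P^j ⊗ M` is ample. -/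
theorem exists_odd_pow_isAmple {X : Scheme.{u}} {P M : X.Modules} (hP : CohB1.IsAmple P)
    (hM : PicF.IsInvertible M) : ∃ (j : ℕ) (Q : X.Modules) (hQ : CohB1.IsAmple Q),
      cls hQ.1 = (cls hP.1 ^ j * cls hM) ^ (2 * j + 1) := by
  have : CompactSpace X := hP.2.1
  obtain ⟨j, -, hj⟩ := Groth.Chow.exists_twist_isAmple hP hM
  have h1 : CohB1.IsAmple (CohB1.tensorMod (CohB1.tensorPow P j) M) := (hj j le_rfl).1
  have h2 := (Groth.Ega2Proj.isAmple_tensorPow_iff (L := CohB1.tensorMod (CohB1.tensorPow P j) M)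
    h1.1 (2 * j + 1) (Nat.succ_pos _)).1 h1
  refine ⟨j, _, h2, ?_⟩
  have hi := PicCalc.isInvertible_tensorMod (PicCalc.isInvertible_tensorPow hP.1 j) hM
  rw [cls_tensorPow hi, cls_tensorMod (PicCalc.isInvertible_tensorPow hP.1 j) hM, cls_tensorPow hP.1]

/-- An ample module twisted by an additive invertible module is ample. -/
theorem isAmple_tensor_additive [IsProper A.hom] [GeometricallyIntegral A.hom] {L N : A.left.Modules}
    (hL : CohB1.IsAmple L) (hN : PicF.IsInvertible N)
    (hadd : opull (fst A A * snd A A) (cls hN) = opull (fst A A) (cls hN) * opull (snd A A) (cls hN)) :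
    CohB1.IsAmple (CohB1.tensorMod L N) := by
  have := Groth.Abvar.isIntegral_left A
  have : Smooth A.hom := GrpschAbsch.smooth_of_geometricallyReduced A
  have : IsLocallyNoetherian A.left := LocallyOfFiniteType.isLocallyNoetherian A.hom
  have : CompactSpace A.left := QuasiCompact.compactSpace_of_compactSpace A.hom
  have : IsNoetherian A.left := {}
  have := Groth.AbVarMul.isSeparated_left (A := A)
  have := isIso_inv_left (A := A)
  have hL' : CohB1.IsAmple ((Scheme.Modules.pullback (𝟙 A)⁻¹.left).obj L) :=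
    Groth.Chow.isAmple_pullback_of_isAffineHom _ hL
  have hP : CohB1.IsAmple (CohB1.tensorMod L ((Scheme.Modules.pullback (𝟙 A)⁻¹.left).obj L)) :=
    Groth.Agent.S2328.result A.left _ _ hL hL'.1 fun x => by
      obtain ⟨n, s, hx, -⟩ := hL'.2.2 x
      exact ⟨n, s, hx⟩
  have hM := PicCalc.isInvertible_tensorMod hL.1 hN
  obtain ⟨j, Q, hQ, hQc⟩ := exists_odd_pow_isAmple hP hM
  obtain ⟨hfin, -, hsurj⟩ := Groth.AbVarMul.isogeny_zpow (A := A) (d := ((2 * j + 1 : ℕ) : ℤ)) (by omega)
  rw [zpow_natCast] at hfin hsurj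
  have hA : CohB1.IsAmple
      ((Scheme.Modules.pullback (𝟙 A ^ (2 * j + 1) : A ⟶ A).left).obj (CohB1.tensorMod L N)) := by
    obtain ⟨e⟩ : Nonempty (Q ≅
        (Scheme.Modules.pullback (𝟙 A ^ (2 * j + 1) : A ⟶ A).left).obj (CohB1.tensorMod L N)) := by
      rw [nonempty_iso_iff hQ.1 (PicLoc.isInvertible_pullback _ hM), ← pull_cls _ hM, hQc,
        cls_tensorMod hL.1 hL'.1, cls_tensorMod hL.1 hN, ← pull_cls _ hL.1]
      show _ = opull (𝟙 A ^ (2 * j + 1)) _
      rw [map_mul, Groth.AbVarMul.opull_pow, opull_pow_of_additive _ hadd, opull_id, opull_id,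
        show (2 * j + 1 + 1).choose 2 = (j + 1) * (2 * j + 1) by
          rw [Nat.choose_two_right, show (2 * j + 1 + 1) * (2 * j + 1 + 1 - 1) =
            2 * ((j + 1) * (2 * j + 1)) by
              rw [show 2 * j + 1 + 1 - 1 = 2 * j + 1 by omega]; ring]
          omega,
        show (2 * j + 1).choose 2 = j * (2 * j + 1) by
          rw [Nat.choose_two_right, show (2 * j + 1) * (2 * j + 1 - 1) = 2 * (j * (2 * j + 1)) by
              rw [show 2 * j + 1 - 1 = 2 * j by omega]; ring]
          omega,
        pow_mul, pow_mul, ← mul_pow, ← mul_pow]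
      refine congrArg (· ^ (2 * j + 1)) ?_
      rw [pow_succ, mul_pow]
      ac_rfl
    exact Groth.Chow.isAmple_of_iso e hQ
  exact Groth.Chow.isAmple_of_pullback_normal (g := (𝟙 A ^ (2 * j + 1) : A ⟶ A).left) hM
    (fun z => Or.inl (normal_stalk A.hom z)) hA

end Groth.AbvarAmple
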