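import Groth.Agent.AbvarAmple.HilbertRoots
import Groth.Agent.AbvarAmple.FixedComponent
import Groth.Agent.AbvarAmple.NondegAmple
import Groth.Agent.AbvarAmple.TwistAdditive

/-!
# The drop of the index at `0`

For a class `c` and an ample `h` the index of `c^a h^b` is constant for small positive `b / a`; with
the same number for `c⁻¹` it accounts for the multiplicity of `0` as a root of the Hilbert polynomial.
-/

universe u

open CategoryTheory Limits MonoidalCategory CartesianMonoidalCategory MonObj GrpObj AlgebraicGeometry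

namespace Groth.AbvarAmple

open Groth.Abvar Groth.Abvar.PicCalc

/-- The index of `c^a h^b` for small positive `b / a` is `i`. -/
def IsPlus {X : Scheme.{u}} (c h : PicLoc.PicSet X) (i : ℕ) : Prop :=
  ∃ ε : ℝ, 0 < ε ∧ ∀ a b : ℕ, 0 < b → (b : ℝ) < ε * a → IsIdx (c ^ a * h ^ b) i

theorem IsPlus.exists_of_large {X : Scheme.{u}} {c h : PicLoc.PicSet X} {i : ℕ} (hp : IsPlus c h i) :
    ∃ a₀ : ℕ, ∀ a, a₀ ≤ a → IsIdx (c ^ a * h ^ 1) i := by
  obtain ⟨ε, hε, hp⟩ := hp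
  obtain ⟨a₀, ha₀⟩ := exists_nat_gt (1 / ε)
  refine ⟨a₀, fun a ha => hp a 1 one_pos ?_⟩
  rw [div_lt_iff₀ hε] at ha₀
  have : (a₀ : ℝ) ≤ a := by exact_mod_cast ha
  push_cast
  nlinarith

variable {k : Type u} [Field k] [IsAlgClosed k] {X : Over (Spec (CommRingCat.of k))} [GrpObj X]
  [IsProper X.hom] [GeometricallyIntegral X.hom] {g : ℕ}

/-- A class living in degree `0` is ample. -/
theorem exists_isAmple_of_isIdx_zero {c : PicLoc.PicSet X.left} (h : IsIdx c 0) :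
    ∃ (Q : X.left.Modules) (hQ : CohB1.IsAmple Q), cls hQ.1 = c := by
  have hfix := h.finite_fixed
  obtain ⟨L, hL, rfl⟩ := PicGrp.exists_eq_cls c
  let : X.left.Over (Spec (CommRingCat.of k)) := ⟨X.hom⟩
  have : Nontrivial (Coh.HH X.left L 0) := ((isIdx_cls_iff X.hom hL 0).1 h).2
  have : Nontrivial Γ(L, (⊤ : X.left.Opens)) :=
    (EulerDeg.h0Equiv k L).toEquiv.nontrivial_congr.1 inferInstance
  obtain ⟨s, hs⟩ := exists_ne (0 : Γ(L, (⊤ : X.left.Opens)))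
  exact ⟨L, isAmple_of_finite_fixed hL s hs hfix, rfl⟩

variable {H : X.left.Modules} (hH : CohB1.IsAmple H)
include hH

/-- The Hilbert polynomial is not zero. -/
theorem hilbert_ne_zero {c : PicLoc.PicSet X.left} {Φ : Polynomial ℚ}
    (hΦ : ∀ n : ℕ, Φ.eval (n : ℚ) = (chi (c * cls hH.1 ^ n) : ℚ)) : Φ ≠ 0 := by
  obtain ⟨n₀, -, htw⟩ := exists_twist_isAmple_cls c hH
  obtain ⟨Q, hQ, hQc⟩ := htw n₀ le_rfl
  intro h
  have h' := hΦ n₀
  rw [h, Polynomial.eval_zero, eq_comm, Int.cast_eq_zero, ← hQc] at h'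
  exact (isIdx_zero_of_isAmple hQ).chi_ne_zero h'

/-- The index just to the right of `0` exists. -/
theorem exists_isPlus (hg : topologicalKrullDim X.left = g) (c : PicLoc.PicSet X.left) :
    ∃ i, IsPlus c (cls hH.1) i := by
  obtain ⟨Φ, -, hΦ⟩ := exists_poly_chi hg c (cls hH.1)
  obtain ⟨s, D⟩ := exists_indexData hg c hH hΦ
  have hf : Φ.map (algebraMap ℚ ℝ) ≠ 0 :=
    (Polynomial.map_ne_zero_iff (algebraMap ℚ ℝ).injective).2 (hilbert_ne_zero hH hΦ)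
  classical
  obtain ⟨ε, hε, hroot⟩ : ∃ ε : ℝ, 0 < ε ∧ ∀ t, 0 < t → t < ε →
      (Φ.map (algebraMap ℚ ℝ)).eval t ≠ 0 := by
    have hT := ((Φ.map (algebraMap ℚ ℝ)).roots.toFinset.filter fun t => 0 < t)
    rcases ((Φ.map (algebraMap ℚ ℝ)).roots.toFinset.filter fun t => 0 < t).eq_empty_or_nonempty
      with h | h
    · refine ⟨1, one_pos, fun t h1 _ h0 => ?_⟩
      exact (Finset.eq_empty_iff_forall_notMem.1 h) t (Finset.mem_filter.2
        ⟨Multiset.mem_toFinset.2 ((Polynomial.mem_roots hf).2 h0), h1⟩)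
    · exact ⟨_, (Finset.mem_filter.1 (Finset.min'_mem _ h)).2, fun t h1 h2 h0 =>
        not_le.2 h2 (Finset.min'_le _ t (Finset.mem_filter.2
          ⟨Multiset.mem_toFinset.2 ((Polynomial.mem_roots hf).2 h0), h1⟩))⟩
  obtain ⟨a₁, b₁, ha₁, hlo, hhi⟩ := exists_pair_btwn le_rfl hε
  obtain ⟨i, hi⟩ := D.exists_idx a₁ b₁ ha₁ (hroot _ hlo hhi)
  refine ⟨i, ε, hε, fun a b hb hab => ?_⟩
  have ha : 0 < a := by
    rcases Nat.eq_zero_or_pos a with h | h
    · subst h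
      have : (0 : ℝ) < b := Nat.cast_pos.2 hb
      norm_num at hab
      linarith
    · exact h
  have hlt : (b : ℝ) / a < ε := (div_lt_iff₀ (Nat.cast_pos.2 ha)).2 hab
  have hpos : (0 : ℝ) < (b : ℝ) / a := div_pos (Nat.cast_pos.2 hb) (Nat.cast_pos.2 ha)
  obtain ⟨j, hj⟩ := D.exists_idx a b ha (hroot _ hpos hlt)
  rcases le_total ((b : ℝ) / a) ((b₁ : ℝ) / a₁) with hle | hle
  · rw [← D.eq_of_no_root ha ha₁ hj hi hle fun t h1 h2 =>
      hroot t (hpos.trans_le h1) (h2.trans_lt hhi)]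
    exact hj.2
  · rw [D.eq_of_no_root ha₁ ha hi hj hle fun t h1 h2 =>
      hroot t (hlo.trans_le h1) (h2.trans_lt hlt)]
    exact hj.2

/-- The two indices at `0` and the multiplicity of the root `0`. -/
theorem add_rootMultiplicity_zero (hg : topologicalKrullDim X.left = g) {c : PicLoc.PicSet X.left}
    {Φ : Polynomial ℚ} (hΦ : ∀ n : ℕ, Φ.eval (n : ℚ) = (chi (c * cls hH.1 ^ n) : ℚ)) {i i' : ℕ}
    (hi : IsPlus c (cls hH.1) i) (hi' : IsPlus c⁻¹ (cls hH.1) i') :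
    i + i' + Φ.rootMultiplicity 0 = g := by
  classical
  obtain ⟨n₁, hn₁, htw₁⟩ := exists_twist_isAmple_cls c hH
  obtain ⟨n₂, -, htw₂⟩ := exists_twist_isAmple_cls c⁻¹ hH
  let N := max n₁ n₂
  have hN : 0 < N := hn₁.trans_le (le_max_left _ _)
  obtain ⟨Q₁, hQ₁, hQ₁c⟩ := htw₁ N (le_max_left _ _)
  obtain ⟨Q₂, hQ₂, hQ₂c⟩ := htw₂ N (le_max_right _ _)
  set h := cls hH.1
  let c' := c * (h ^ N)⁻¹
  have hc'0 : IsIdx c' g := by
    have := isIdx_inv_isAmple hg hQ₂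
    rwa [hQ₂c, _root_.mul_inv, _root_.inv_inv] at this
  have hc'2 : IsIdx (c' * h ^ (N + N)) 0 := by
    have := isIdx_zero_of_isAmple hQ₁
    rwa [pow_add, ← _root_.mul_assoc, inv_mul_cancel_right, ← hQ₁c]
  let Φ' := Φ.comp (Polynomial.X + Polynomial.C (-(N : ℚ)))
  have hΦ' : ∀ n : ℕ, Φ'.eval (n : ℚ) = (chi (c' * h ^ n) : ℚ) := by
    obtain ⟨p, -, hp⟩ := exists_poly_chi hg c' h
    suffices hp' : Φ' = p by intro n; rw [hp', hp]
    refine Polynomial.eq_of_infinite_eval_eq _ _ ((Set.infinite_range_of_injective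
      (f := fun n : ℕ => ((N + n : ℕ) : ℚ)) fun a b e => by simpa using e).mono ?_)
    rintro _ ⟨n, rfl⟩
    show Φ'.eval _ = p.eval _
    rw [hp, pow_add, ← _root_.mul_assoc, inv_mul_cancel_right, ← hΦ]
    simp [Φ']
  obtain ⟨s, D⟩ := exists_indexData hg c' hH hΦ'
  set f := Φ.map (algebraMap ℚ ℝ)
  set f' := Φ'.map (algebraMap ℚ ℝ)
  have hΦ0 := hilbert_ne_zero hH hΦ
  have hmult : f'.rootMultiplicity (N : ℝ) = Φ.rootMultiplicity 0 := by
    rw [Polynomial.eq_rootMultiplicity_map (p := Φ) (algebraMap ℚ ℝ).injective (a := 0), map_zero,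
      show f' = f.comp (Polynomial.C 1 * Polynomial.X + Polynomial.C (-(N : ℝ))) by
        simp [f', f, Φ', Polynomial.map_comp],
      Polynomial.rootMultiplicity_comp_C_mul_X_add_C f 1 (-(N : ℝ)) (N : ℝ) isUnit_one]
    simp [f]
  have hf0 : f' ≠ 0 := (Polynomial.map_ne_zero_iff (algebraMap ℚ ℝ).injective).2 (hilbert_ne_zero hH hΦ')
  have hend : ∀ n j : ℕ, IsIdx (c' * h ^ n) j → f'.eval ((n : ℝ) / ((1 : ℕ) : ℝ)) ≠ 0 := fun n j hj => by
    rw [Nat.cast_one, div_one, ← map_natCast (algebraMap ℚ ℝ), Polynomial.eval_map_apply, hΦ' n,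
      map_intCast, Int.cast_ne_zero]
    exact hj.chi_ne_zero
  obtain ⟨ε, hε, hp⟩ := hi
  obtain ⟨ε', hε', hp'⟩ := hi'
  obtain ⟨δ, hδ, hiso⟩ : ∃ δ : ℝ, 0 < δ ∧ ∀ t, f'.eval t = 0 → |t - N| < δ → t = N := by
    rcases ((f'.roots.toFinset.erase (N : ℝ)).image fun t => |t - (N : ℝ)|).eq_empty_or_nonempty
      with hh | hh
    · refine ⟨1, one_pos, fun t ht _ => by_contra fun hne => ?_⟩
      exact Finset.eq_empty_iff_forall_notMem.1 hh _ (Finset.mem_image_of_mem _ (Finset.mem_erase.2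
        ⟨hne, Multiset.mem_toFinset.2 ((Polynomial.mem_roots hf0).2 ht)⟩))
    · refine ⟨Finset.min' _ hh, ?_, fun t ht hlt => by_contra fun hne => ?_⟩
      · obtain ⟨t, ht, e⟩ := Finset.mem_image.1 (Finset.min'_mem _ hh)
        rw [← e]
        exact abs_pos.2 (sub_ne_zero.2 (Finset.mem_erase.1 ht).1)
      · exact absurd (Finset.min'_le _ _ (Finset.mem_image_of_mem (fun t => |t - (N : ℝ)|)
          (Finset.mem_erase.2 ⟨hne, Multiset.mem_toFinset.2 ((Polynomial.mem_roots hf0).2 ht)⟩)))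
          (not_le.2 hlt)
  let ρ : ℝ := min (min δ (N : ℝ)) (min ε ε')
  have hN' : (0 : ℝ) < N := Nat.cast_pos.2 hN
  have hρ : 0 < ρ := lt_min (lt_min hδ hN') (lt_min hε hε')
  have hρ1 : ρ ≤ δ := (min_le_left _ _).trans (min_le_left _ _)
  have hρ2 : ρ ≤ N := (min_le_left _ _).trans (min_le_right _ _)
  have hρ3 : ρ ≤ ε := (min_le_right _ _).trans (min_le_left _ _)
  have hρ4 : ρ ≤ ε' := (min_le_right _ _).trans (min_le_right _ _)
  obtain ⟨p₁, q₁, hp₁, hl₁, hr₁⟩ := exists_pair_btwn (x := (N : ℝ) - ρ) (by linarith) (y := N) (by linarith)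
  obtain ⟨p₂, q₂, hp₂, hl₂, hr₂⟩ := exists_pair_btwn (x := (N : ℝ)) hN'.le (y := N + ρ) (by linarith)
  have hp₁' : (0 : ℝ) < p₁ := Nat.cast_pos.2 hp₁
  have hp₂' : (0 : ℝ) < p₂ := Nat.cast_pos.2 hp₂
  have hq₁ : q₁ < N * p₁ := by
    have := (div_lt_iff₀ hp₁').1 hr₁
    exact_mod_cast this
  have hq₂ : N * p₂ < q₂ := by
    have := (lt_div_iff₀ hp₂').1 hl₂
    exact_mod_cast this
  have hj₁ : IsIdx (c' ^ p₁ * h ^ q₁) (g - i') := by
    obtain ⟨d, hd⟩ := Nat.exists_eq_add_of_lt hq₁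
    have hlt : ((d + 1 : ℕ) : ℝ) < ε' * p₁ := by
      have e : (N : ℝ) * p₁ = q₁ + d + 1 := by exact_mod_cast hd
      have := (lt_div_iff₀ hp₁').1 hl₁
      push_cast
      nlinarith
    have e := ((hp' p₁ (d + 1) d.succ_pos hlt).inv hg).2
    rwa [_root_.mul_inv, inv_pow, _root_.inv_inv, show c ^ p₁ * (h ^ (d + 1))⁻¹ = c' ^ p₁ * h ^ q₁ by
      simp only [c']
      rw [mul_pow, inv_pow, ← pow_mul, hd, _root_.add_assoc, pow_add h q₁ (d + 1), _root_.mul_inv,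
        _root_.mul_comm (h ^ q₁)⁻¹, _root_.mul_assoc, _root_.mul_assoc, inv_mul_cancel, _root_.mul_one]] at e
  have hj₂ : IsIdx (c' ^ p₂ * h ^ q₂) i := by
    obtain ⟨d, hd⟩ := Nat.exists_eq_add_of_lt hq₂
    have hlt : ((d + 1 : ℕ) : ℝ) < ε * p₂ := by
      have e : (q₂ : ℝ) = (N : ℝ) * p₂ + d + 1 := by exact_mod_cast hd
      have := (div_lt_iff₀ hp₂').1 hr₂
      push_cast
      nlinarith
    have e := hp p₂ (d + 1) d.succ_pos hlt
    rwa [show c ^ p₂ * h ^ (d + 1) = c' ^ p₂ * h ^ q₂ by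
      simp only [c']
      rw [mul_pow, inv_pow, ← pow_mul, hd, _root_.add_assoc (N * p₂), pow_add h (N * p₂),
        _root_.mul_assoc, inv_mul_cancel_left]] at e
  have hne₁ : f'.eval ((q₁ : ℝ) / p₁) ≠ 0 := fun h0 =>
    hr₁.ne (hiso _ h0 (by rw [abs_lt]; constructor <;> linarith))
  have hne₂ : f'.eval ((q₂ : ℝ) / p₂) ≠ 0 := fun h0 =>
    hl₂.ne' (hiso _ h0 (by rw [abs_lt]; constructor <;> linarith))
  have e₀ : ∀ n j : ℕ, IsIdx (c' * h ^ n) j → 0 < 1 ∧ IsIdx (c' ^ 1 * h ^ n) j :=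
    fun n j hj => ⟨one_pos, by rwa [_root_.pow_one]⟩
  let S := f'.roots.toFinset
  have hmem : ∀ t, f'.eval t = 0 → t ∈ S := fun t ht =>
    Multiset.mem_toFinset.2 ((Polynomial.mem_roots hf0).2 ht)
  have e₁ := D.le_add_sum hf0 (S.filter (· < (N : ℝ))) one_pos hp₁
    (e₀ 0 g (by rwa [_root_.pow_zero, _root_.mul_one])) ⟨hp₁, hj₁⟩
    (hend 0 g (by rwa [_root_.pow_zero, _root_.mul_one])) hne₁ (by simp; positivity)
    fun t _ h2 h0 => Finset.mem_filter.2 ⟨hmem t h0, h2.trans hr₁⟩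
  have e₂ := D.le_add_rootMultiplicity hf0 hp₁ hp₂ ⟨hp₁, hj₁⟩ ⟨hp₂, hj₂⟩ hr₁ hl₂
    fun t h1 h2 h0 => hiso t h0 (by rw [abs_lt]; constructor <;> linarith)
  have e₃ := D.le_add_sum hf0 (S.filter ((N : ℝ) < ·)) hp₂ one_pos ⟨hp₂, hj₂⟩ (e₀ (N + N) 0 hc'2)
    hne₂ (hend (N + N) 0 hc'2) (by simp; linarith)
    fun t h1 _ h0 => Finset.mem_filter.2 ⟨hmem t h0, hl₂.trans h1⟩
  have hsum : (∑ t ∈ S.filter (· < (N : ℝ)), f'.rootMultiplicity t) + f'.rootMultiplicity (N : ℝ) +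
      (∑ t ∈ S.filter ((N : ℝ) < ·), f'.rootMultiplicity t) ≤ g := by
    have h1 : ∑ t ∈ insert (N : ℝ) S, f'.rootMultiplicity t ≤ g := by
      refine le_trans (le_of_eq ?_) ((Polynomial.card_roots' f').trans
        (le_trans (le_of_eq (Polynomial.natDegree_map _)) (natDegree_hilbert_le hg c' h hΦ')))
      rw [← Multiset.toFinset_sum_count_eq]
      refine Finset.sum_bij_ne_zero (fun t _ _ => t) (fun t ht hne => ?_) (fun _ _ _ _ _ _ e => e)
        (fun t ht hne => ⟨t, Finset.mem_insert_of_mem ht,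
          by rwa [← Polynomial.count_roots], rfl⟩) (fun t _ _ => (Polynomial.count_roots _).symm)
      exact Multiset.mem_toFinset.2 (Multiset.count_ne_zero.1 (by rwa [Polynomial.count_roots]))
    refine le_trans (le_of_eq ?_) h1
    rw [← Finset.sum_filter_add_sum_filter_not (insert (N : ℝ) S) (· < (N : ℝ)), add_assoc]
    congr 1
    · rw [Finset.filter_insert, if_neg (lt_irrefl _)]
    · have : (insert (N : ℝ) S).filter (fun t => ¬ t < (N : ℝ)) =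
          insert (N : ℝ) (S.filter ((N : ℝ) < ·)) := by
        ext t
        simp only [Finset.mem_filter, Finset.mem_insert, not_lt]
        constructor
        · rintro ⟨ht, hle⟩
          rcases hle.lt_or_eq with hh | hh
          · rcases ht with rfl | ht
            · exact absurd hh (lt_irrefl _)
            · exact Or.inr ⟨ht, hh⟩
          · exact Or.inl hh.symm
        · rintro (rfl | ⟨ht, hh⟩)
          · exact ⟨Or.inl rfl, le_rfl⟩
          · exact ⟨Or.inr ht, hh.le⟩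
      rw [this, Finset.sum_insert (by simp)]
  rw [Nat.zero_add] at e₃
  have hi'g : i' ≤ g := by
    obtain ⟨a₀, ha₀⟩ := IsPlus.exists_of_large ⟨ε', hε', hp'⟩
    exact ((ha₀ a₀ le_rfl).inv hg).1
  rw [hmult] at e₂ hsum
  omega

omit hH in
/-- The index to the right of `0` does not depend on the ample class. -/
theorem IsPlus.le {H₀ : X.left.Modules} (hH : CohB1.IsAmple H) (hH₀ : CohB1.IsAmple H₀)
    {c : PicLoc.PicSet X.left} {i i₀ : ℕ} (hi : IsPlus c (cls hH.1) i)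
    (hi₀ : IsPlus c (cls hH₀.1) i₀) : i₀ ≤ i := by
  obtain ⟨n, hn0, hn⟩ := exists_twist_isAmple_cls (cls hH.1)⁻¹ hH₀
  obtain ⟨Q, hQ, hQc⟩ := hn n le_rfl
  obtain ⟨a₀, ha₀⟩ := hi.exists_of_large
  obtain ⟨ε, hε, hp⟩ := hi₀
  obtain ⟨a₁, ha₁⟩ := exists_nat_gt ((n : ℝ) / ε)
  have hlt : ((n : ℕ) : ℝ) < ε * ((max a₀ a₁ : ℕ) : ℝ) := by
    rw [div_lt_iff₀ hε] at ha₁
    have : (a₁ : ℝ) ≤ ((max a₀ a₁ : ℕ) : ℝ) := by exact_mod_cast le_max_right _ _
    nlinarith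
  have h1 := hp (max a₀ a₁) n hn0 hlt
  have h2 := isIdx_zero_of_isAmple hQ
  rw [hQc] at h2
  refine IsIdx.le_add' (ha₀ (max a₀ a₁) (le_max_left _ _)) h2 ?_ |>.trans_eq (Nat.add_zero i)
  rwa [_root_.pow_one, _root_.mul_assoc, mul_inv_cancel_left]

omit hH in
theorem IsPlus.eq {H₀ : X.left.Modules} (hH : CohB1.IsAmple H) (hH₀ : CohB1.IsAmple H₀)
    {c : PicLoc.PicSet X.left} {i i₀ : ℕ} (hi : IsPlus c (cls hH.1) i)
    (hi₀ : IsPlus c (cls hH₀.1) i₀) : i₀ = i :=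
  le_antisymm (IsPlus.le hH hH₀ hi hi₀) (IsPlus.le hH₀ hH hi₀ hi)

end Groth.AbvarAmple
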