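import Groth.Agent.AbvarAmple.KLKernel
import Groth.Agent.AbvarAmple.KerFinite
import Groth.Agent.AbvarAmple.IndexExists
import Groth.Agent.Abvar.Dual.BaseChange
import Groth.Agent.Abvar.Dual.EqOfPhi
import Groth.Agent.DescentBase.DimEtale
import Mathlib.AlgebraicGeometry.ZariskisMainTheorem

/-!
# The dimension of a dual is at least the dimension of the abelian variety
-/

universe u

open CategoryTheory MonoidalCategory CartesianMonoidalCategory MonObj GrpObj AlgebraicGeometry
open TopologicalSpace

namespace Groth.AbvarAmple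

open Groth.Abvar Groth.Abvar.PicCalc

theorem dim_le_dual_of_isAlgClosed {k : Type u} [Field k] [IsAlgClosed k]
    {A At : Over (Spec (CommRingCat.of k))} [GrpObj A] [IsProper A.hom] [GeometricallyIntegral A.hom]
    [GrpObj At] [IsProper At.hom]
    {φ : ∀ T : Over (Spec (CommRingCat.of k)), PicF.Cl (PicF.XT A.hom T) → (T ⟶ At)}
    (hφ : AbDual.IsDualAV Scheme.fppfPrecoverage A At φ) :
    topologicalKrullDim A.left ≤ topologicalKrullDim At.left := by
  have : Flat A.hom := inferInstance
  have : IsLocallyNoetherian A.left := LocallyOfFiniteType.isLocallyNoetherian A.hom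
  have := Seesaw.locallyOfFinitePresentation_of_isNoetherian A.hom
  obtain ⟨L, hL⟩ := Groth.AbVarMul.exists_isAmple (A := A)
  let c := cls hL.1
  have : Subsingleton ↥(𝟙_ (Over (Spec (CommRingCat.of k)))).left :=
    inferInstanceAs (Subsingleton (PrimeSpectrum k))
  let lam : A ⟶ At := φ A (mum c (𝟙 A)).1
  have hlam : ∀ x : 𝟙_ (Over (Spec (CommRingCat.of k))) ⟶ A, φ _ (mum c x).1 = x ≫ lam := fun x => by
    conv_lhs => rw [← Category.comp_id x, ← pull_XTmap_mum c x (𝟙 A)]
    exact Dual.phi_natural hφ x (p0_mum _ _)
  have hfib : ∀ b : 𝟙_ (Over (Spec (CommRingCat.of k))) ⟶ At,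
      {x : 𝟙_ (Over (Spec (CommRingCat.of k))) ⟶ A | x ≫ lam = b}.Finite := by
    intro b
    rcases Set.eq_empty_or_nonempty {x : 𝟙_ (Over (Spec (CommRingCat.of k))) ⟶ A | x ≫ lam = b} with h | ⟨y, hy⟩
    · rw [h]; exact Set.finite_empty
    refine Set.Finite.of_injOn (f := fun x => y⁻¹ * x) (fun x hx => ?_)
      (fun a _ b _ h => mul_left_cancel h) (finite_fixed hL)
    have e : mum c x = mum c y := Dual.EqOfPhi.eq_of_phi_eq hφ (p0_mum _ _) (p0_mum _ _)
      (eq_one_of_subsingleton _) (eq_one_of_subsingleton _) (by rw [hlam, hlam]; exact hx.trans hy.symm)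
    let r : A ⟶ A ⊗ 𝟙_ (Over (Spec (CommRingCat.of k))) := lift (𝟙 A) (toUnit A)
    have hr : ∀ z : 𝟙_ (Over (Spec (CommRingCat.of k))) ⟶ A,
        opull r (mum c z) = opull (𝟙 A * (toUnit A ≫ z)) c / c := fun z => by
      simp only [r, mum, map_div, map_mul, ← opull_comp, MonObj.comp_mul, lift_fst, lift_snd_assoc,
        opull_id, opull_toUnit_comp, _root_.mul_one]
    have e2 : opull (𝟙 A * (toUnit A ≫ x)) c = opull (𝟙 A * (toUnit A ≫ y)) c :=
      div_left_inj.1 ((hr x).symm.trans ((congrArg _ e).trans (hr y)))
    have e3 := congrArg (opull (𝟙 A * (toUnit A ≫ y⁻¹))) e2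
    rw [← opull_comp, ← opull_comp, MonObj.comp_mul, MonObj.comp_mul, Category.comp_id,
      comp_toUnit_assoc, comp_toUnit_assoc, _root_.mul_assoc, _root_.mul_assoc, ← MonObj.comp_mul,
      ← MonObj.comp_mul, inv_mul_cancel, MonObj.comp_one, _root_.mul_one, opull_id] at e3
    exact e3
  have : LocallyOfFiniteType lam.left := by
    have : LocallyOfFiniteType (lam.left ≫ At.hom) := (Over.w lam).symm ▸ inferInstance
    exact locallyOfFiniteType_of_comp lam.left At.hom
  have : JacobsonSpace A.left := LocallyOfFiniteType.jacobsonSpace A.hom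
  have : JacobsonSpace At.left := LocallyOfFiniteType.jacobsonSpace At.hom
  have hq : ∀ x : A.left, IsClosed ({x} : Set A.left) → lam.left.QuasiFiniteAt x := by
    intro x hx
    have hy : IsClosed ({lam.left x} : Set At.left) := lam.left.closePoints_subset_preimage_closedPoints hx
    obtain ⟨b, hb⟩ := exists_rationalPoint At hy
    let S := lam.left ⁻¹' {lam.left x}
    have hS : IsClosed S := hy.preimage lam.left.continuous
    have hclfin : (S ∩ closedPoints A.left).Finite := by
      refine ((hfib b).image pt).subset ?_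
      rintro z ⟨hz, hzc⟩
      obtain ⟨s, rfl⟩ := exists_rationalPoint A hzc
      refine ⟨s, pt_injective ?_, rfl⟩
      rw [pt_comp]
      exact hz.trans hb.symm
    have hcl : IsClosed (S ∩ closedPoints A.left) := by
      rw [← Set.biUnion_of_singleton (S ∩ closedPoints A.left)]
      exact hclfin.isClosed_biUnion fun z hz => hz.2
    have hSfin : S.Finite := by
      refine hclfin.subset ?_
      conv_lhs => rw [← closure_inter_closedPoints hS, hcl.closure_eq]
    have : Finite (lam.left.fiber (lam.left x)) := by
      have := hSfin.to_subtype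
      exact Finite.of_equiv _ (lam.left.fiberHomeo (lam.left x)).toEquiv.symm
    have : JacobsonSpace (lam.left.fiber (lam.left x)) :=
      LocallyOfFiniteType.jacobsonSpace (lam.left.fiberToSpecResidueField (lam.left x))
    exact Scheme.Hom.quasiFiniteAt_iff_isOpen_singleton_asFiber.2 (isOpen_discrete _)
  have : LocallyQuasiFinite lam.left := by
    rw [← Scheme.Hom.quasiFiniteLocus_eq_top_iff]
    refine SetLike.coe_injective ?_
    by_contra hne
    obtain ⟨x, hx, hxc⟩ := nonempty_inter_closedPoints
      (Z := ((lam.left.quasiFiniteLocus : A.left.Opens) : Set A.left)ᶜ)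
      (Set.nonempty_compl.2 hne) lam.left.quasiFiniteLocus.isOpen.isClosed_compl.isLocallyClosed
    exact hx (hq x hxc)
  exact Groth.DescentBase.topologicalKrullDim_le_of_discrete_fibres lam.left lam.left.continuous
    fun y => lam.left.isDiscrete_preimage_singleton y

/-- A dual has at least the dimension of the abelian variety. -/
theorem dim_le_dual {k : Type u} [Field k] {A At : Over (Spec (CommRingCat.of k))} [GrpObj A]
    [IsProper A.hom] [GeometricallyIntegral A.hom] [GrpObj At] [IsProper At.hom]
    {φ : ∀ T : Over (Spec (CommRingCat.of k)), PicF.Cl (PicF.XT A.hom T) → (T ⟶ At)}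
    (hφ : AbDual.IsDualAV Scheme.fppfPrecoverage A At φ) :
    topologicalKrullDim A.left ≤ topologicalKrullDim At.left := by
  let t : Spec (CommRingCat.of (AlgebraicClosure k)) ⟶ Spec (CommRingCat.of k) :=
    Spec.map (CommRingCat.ofHom (algebraMap k (AlgebraicClosure k)))
  have : IsProper (Red.bc t A).hom := inferInstanceAs (IsProper (Limits.pullback.snd A.hom t))
  have : GeometricallyIntegral (Red.bc t A).hom :=
    inferInstanceAs (GeometricallyIntegral (Limits.pullback.snd A.hom t))
  have : IsProper (Red.bc t At).hom := inferInstanceAs (IsProper (Limits.pullback.snd At.hom t))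
  have h := dim_le_dual_of_isAlgClosed (Dual.BaseChange.isDualAV_bc t hφ)
  rwa [show topologicalKrullDim (Red.bc t A).left = topologicalKrullDim A.left from
      topologicalKrullDim_baseChange (X := A) (AlgebraicClosure k),
    show topologicalKrullDim (Red.bc t At).left = topologicalKrullDim At.left from
      topologicalKrullDim_baseChange (X := At) (AlgebraicClosure k)] at h

end Groth.AbvarAmple
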