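import Groth.Agent.CohBase.FibreConsequencesFP
import Groth.Agent.CohBase.FlatCohBaseChange
import Groth.Agent.CohBase.MayerVietoris
import Groth.Agent.CohBase.Modules
import Groth.Agent.CohBase.RpushAb
import Groth.Agent.PnCoh.VanishingClosed

/-!
# Acyclic families: vanishing fibre cohomology and a finite exceptional set
-/

universe u

open CategoryTheory Limits TopologicalSpace Opposite AlgebraicGeometry
open CategoryTheory.Abelian (Ext)

namespace Groth.AbvarAmple

open Groth.CohBase Groth.CohBase.CxRank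

section Space

variable {X : TopCat.{u}} {F : AbSheaf X} {U V : Opens X}

theorem hVanish_sup' (hU : ∀ n, HVanish F n U) (hV : ∀ n, HVanish F n V)
    (hI : ∀ n, HVanish F n (U ⊓ V)) : ∀ n, HVanish F n (U ⊔ V)
  | n + 1 => hVanish_sup (hI n) (hU _) (hV _)
  | 0 => by
    have hS := (Opens.mayerVietorisSquare U V).shortComplex_shortExact
    have hb : Subsingleton (Ext (Opens.mayerVietorisSquare U V).shortComplex.X₂ F 0) := by
      have : Subsingleton (Ext (freeOpen U) F 0) := hU 0
      have : Subsingleton (Ext (freeOpen V) F 0) := hV 0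
      exact (Ext.biprodAddEquiv (X₁ := freeOpen U) (X₂ := freeOpen V)).toEquiv.subsingleton
    refine subsingleton_of_forall_eq 0
      fun (x : Ext (Opens.mayerVietorisSquare U V).shortComplex.X₃ F 0) => ?_
    obtain ⟨φ, rfl⟩ := Ext.addEquiv₀.symm.surjective x
    have h0 : (Ext.mk₀ (Opens.mayerVietorisSquare U V).shortComplex.g).comp (Ext.mk₀ φ)
        (zero_add 0) = 0 := hb.elim _ _
    rw [Ext.mk₀_comp_mk₀] at h0
    have hφ : φ = 0 := by
      have := hS.epi_g
      rw [← cancel_epi (Opens.mayerVietorisSquare U V).shortComplex.g, Limits.comp_zero]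
      exact (Ext.mk₀_bijective _ _).1 (h0.trans (Ext.mk₀_zero _ _).symm)
    rw [hφ, map_zero]
    rfl

theorem hVanish_right_of_sup (hs : ∀ n, HVanish F n (U ⊔ V)) (hI : ∀ n, HVanish F n (U ⊓ V))
    (n : ℕ) : HVanish F n V := by
  have hS := (Opens.mayerVietorisSquare U V).shortComplex_shortExact
  have hb : Subsingleton (Ext (Opens.mayerVietorisSquare U V).shortComplex.X₂ F n) := by
    refine subsingleton_of_forall_eq 0 fun x => ?_
    obtain ⟨y, hy⟩ := Ext.contravariant_sequence_exact₂ hS F x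
      (@Subsingleton.elim _ (hI n) _ _)
    have hy0 : y = 0 := @Subsingleton.elim _ (hs n) y 0
    rw [← hy, hy0, Ext.comp_zero]
  have hp : Subsingleton (Ext (freeOpen U) F n × Ext (freeOpen V) F n) :=
    @Equiv.subsingleton _ _ (Ext.biprodAddEquiv (X₁ := freeOpen U) (X₂ := freeOpen V)).symm.toEquiv hb
  show Subsingleton (Ext (freeOpen V) F n)
  exact Function.Surjective.subsingleton (f := Prod.snd)
    (fun v : Ext (freeOpen V) F n => ⟨((0 : Ext (freeOpen U) F n), v), rfl⟩)

end Space

theorem subsingleton_HH_pullback_iff {A : Type u} [CommRing A] {X Y : Scheme.{u}} (f : X ⟶ Y)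
    [IsIso f] (q : X ⟶ Spec (CommRingCat.of A)) (M : Y.Modules) (n : ℕ) :
    Subsingleton (Coh.HH X ((Scheme.Modules.pullback f).obj M) n) ↔
      Subsingleton (Coh.HH Y M n) := by
  have htop : f ''ᵁ (⊤ : X.Opens) = ⊤ := by
    rw [Scheme.Hom.image_top_eq_opensRange]
    exact f.opensRange_of_isIso
  have h := hVanish_restrict_iff f M n (⊤ : X.Opens)
  rw [htop] at h
  let i := (Scheme.Modules.restrictFunctorIsoPullback f).app M
  constructor
  · intro hs
    have h1 : Subsingleton (Coh.HH X (M.restrict f) n) :=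
      PnCoh.subsingleton_HH_of_iso q i.symm hs
    have : HVanish (X := X.toTopCat) (abSheaf (M.restrict f)) n ⊤ :=
      @Equiv.subsingleton _ _ (equivHTop _ n).symm.toEquiv h1
    exact @Equiv.subsingleton _ _ (equivHTop (abSheaf M) n).toEquiv (h.1 this)
  · intro hs
    have : HVanish (X := Y.toTopCat) (abSheaf M) n ⊤ :=
      @Equiv.subsingleton _ _ (equivHTop _ n).symm.toEquiv hs
    exact PnCoh.subsingleton_HH_of_iso q i
      (@Equiv.subsingleton _ _ (equivHTop (abSheaf (M.restrict f)) n).toEquiv (h.2 this))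

variable {X S : Scheme.{u}} (f : X ⟶ S) [IsProper f] [LocallyOfFinitePresentation f]
  [HasInjectiveResolutions X.Modules] {M : X.Modules} [M.IsQuasicoherent] (hM : CohB1.IsFP M)
  (hfl : FlatMod.IsFlatOver f M)

include hM hfl in
theorem hVanish_preimage_affine {V : S.Opens} (hV : IsAffineOpen V)
    (h : ∀ p, ∀ y ∈ V, Subsingleton (CohIII.fiberH f M y p)) (p : ℕ) :
    HVanish (X := X.toTopCat) (abSheaf M) p (f ⁻¹ᵁ V) := by
  obtain ⟨L, hL⟩ := exists_isModel_fp f M hM hfl hV
  obtain ⟨e⟩ := hL.sections p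
  have := hL.subsingleton_Hk hV p (h p)
  have h1 : Subsingleton Γ((Coh.Rpush f p).obj M, V) := e.toEquiv.subsingleton
  obtain ⟨a⟩ := nonempty_toAb_Rpush_iso f (M := M) p
  obtain ⟨b⟩ := nonempty_RpushAb_sections f (M := M) p hV
  let c := ((sheafToPresheaf _ _ ⋙ (evaluation _ _).obj (op V)).mapIso a).addCommGroupIsoToAddEquiv
  exact @Equiv.subsingleton _ _ (c.trans b).symm.toEquiv h1

include hM hfl in
theorem hVanish_preimage [QuasiSeparatedSpace S] (W : S.Opens) (hW : IsCompact (W : Set S))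
    (h : ∀ p, ∀ y ∈ W, Subsingleton (CohIII.fiberH f M y p)) (n : ℕ) :
    HVanish (X := X.toTopCat) (abSheaf M) n (f ⁻¹ᵁ W) := by
  revert h n
  refine qcqs_induction (fun W => (∀ p, ∀ y ∈ W, Subsingleton (CohIII.fiberH f M y p)) →
    ∀ n, HVanish (X := X.toTopCat) (abSheaf M) n (f ⁻¹ᵁ W))
    (fun V hV h n => hVanish_preimage_affine f hM hfl hV h n) (fun U V _ _ hU hV hUV h n => ?_) W hW
  exact hVanish_sup' (X := X.toTopCat) (hU fun p y hy => h p y (Or.inl hy))
    (hV fun p y hy => h p y (Or.inr hy)) (hUV fun p y hy => h p y (Or.inl hy.1)) n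

include hM hfl in
/-- A family with acyclic fibres is acyclic. -/
theorem subsingleton_HH_of_fibres [CompactSpace S] [QuasiSeparatedSpace S]
    (h : ∀ p, ∀ y : S, Subsingleton (CohIII.fiberH f M y p)) (n : ℕ) :
    Subsingleton (Coh.HH X M n) := by
  have h1 := hVanish_preimage f hM hfl (⊤ : S.Opens) isCompact_univ (fun p y _ => h p y) n
  exact @Equiv.subsingleton _ _ (equivHTop (abSheaf M) n).toEquiv h1

include hM hfl in
/-- An acyclic family whose fibres are acyclic outside a closed set contained in an affine open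
has acyclic fibres. -/
theorem subsingleton_fiberH_of_exceptional [NoetherianSpace S] [QuasiSeparatedSpace S]
    (hvan : ∀ n, Subsingleton (Coh.HH X M n)) {Z : Set S} (hZ : IsClosed Z) {V : S.Opens}
    (hV : IsAffineOpen V) (hZV : Z ⊆ V)
    (h : ∀ p, ∀ y ∉ Z, Subsingleton (CohIII.fiberH f M y p)) (p : ℕ) (y : S) :
    Subsingleton (CohIII.fiberH f M y p) := by
  by_cases hy : y ∈ Z
  swap
  · exact h p y hy
  replace hy := hZV hy
  let U : S.Opens := ⟨Zᶜ, hZ.isOpen_compl⟩
  have hsup : (f ⁻¹ᵁ U) ⊔ (f ⁻¹ᵁ V) = ⊤ := top_le_iff.1 fun x _ => by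
    by_cases hx : f x ∈ Z
    · exact Or.inr (hZV hx)
    · exact Or.inl hx
  have hVan : ∀ q, HVanish (X := X.toTopCat) (abSheaf M) q (f ⁻¹ᵁ V) := by
    refine hVanish_right_of_sup (X := X.toTopCat) (U := f ⁻¹ᵁ U) (fun q => ?_)
      (hVanish_preimage f hM hfl (U ⊓ V) (NoetherianSpace.isCompact _) fun q z hz => h q z hz.1)
    have := @Equiv.subsingleton _ _ (equivHTop (abSheaf M) q).symm.toEquiv (hvan q)
    exact hsup.symm ▸ this
  obtain ⟨L, hL⟩ := exists_isModel_fp f M hM hfl hV
  have := hL.flat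
  have hH : ∀ q : ℕ, Subsingleton (Hk L (q : ℤ)) := by
    intro q
    obtain ⟨e⟩ := hL.sections q
    obtain ⟨a⟩ := nonempty_toAb_Rpush_iso f (M := M) q
    obtain ⟨b⟩ := nonempty_RpushAb_sections f (M := M) q hV
    let c := ((sheafToPresheaf _ _ ⋙ (evaluation _ _).obj (op V)).mapIso a).addCommGroupIsoToAddEquiv
    have : Subsingleton Γ((Coh.Rpush f q).obj M, V) := @Equiv.subsingleton _ _ (c.trans b).toEquiv (hVan q)
    exact e.symm.toEquiv.subsingleton
  obtain ⟨b, hb⟩ := hL.bdd
  have hT : ∀ j, b < j → ∀ N : ModuleCat.{u} Γ(S, V), IsZero (CohIII.T L j N) := fun j hj N =>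
    (HomologicalComplex.ExactAt.of_isZero (K := CohIII.tensorObj L N)
      (Functor.map_isZero (MonoidalCategory.tensorRight N) (hb j hj))).isZero_homology
  have hQ := CxRank.flat_Qc_of_flat_Hk' L b hT 0 fun i hi => by
    obtain ⟨q, rfl⟩ : ∃ q : ℕ, i = q := ⟨i.toNat, by omega⟩
    have := hH q
    exact Module.Flat.of_free
  let : Algebra Γ(S, V) (S.residueField y) := (S.evaluation V y hy).hom.toAlgebra
  obtain ⟨t⟩ := CxRank.nonempty_tEquiv_tensor L (p : ℤ) (hQ _ (by omega))
    (ModuleCat.of Γ(S, V) (S.residueField y))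
  have := hH p
  have hz : Subsingleton (LinearMap.ker ((CxRank.dq L (p : ℤ)).rTensor (S.residueField y))) :=
    @Equiv.subsingleton _ _
      ((CxRank.tKerEquiv L (ModuleCat.of Γ(S, V) (S.residueField y)) (p : ℤ)).symm.trans t).toEquiv
      (subsingleton_of_forall_eq 0 fun a => by
        induction a using TensorProduct.induction_on with
        | zero => rfl
        | tmul u v => rw [Subsingleton.elim u 0, TensorProduct.zero_tmul]
        | add u v hu hv => rw [hu, hv, add_zero])
  have hinj : Function.Injective ((CxRank.dq L (p : ℤ)).rTensor (S.residueField y)) :=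
    LinearMap.ker_eq_bot.1 (Submodule.subsingleton_iff_eq_bot.1 hz)
  rw [← LinearMap.lTensor_inj_iff_rTensor_inj] at hinj
  obtain ⟨e⟩ := hL.fibres p y hy
  have : Subsingleton (LinearMap.ker ((CxRank.dq L (p : ℤ)).baseChange (S.residueField y))) :=
    ⟨fun a b => Subtype.ext (hinj (a.2.trans b.2.symm))⟩
  exact e.toEquiv.subsingleton

end Groth.AbvarAmple
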