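import Groth.Agent.AbvarAmple.InvariantVanish
import Groth.Agent.PicAux.BaseChangeModel
import Mathlib.RingTheory.Artinian.Module

/-!
# A section with zero annihilator of a fibrewise trivial invertible module over an Artinian base
-/

universe u

open CategoryTheory Limits AlgebraicGeometry TopologicalSpace Opposite
open scoped TensorProduct
open Groth.PropsBasic.Ample

noncomputable section

namespace Groth.AbvarAmple

open Groth.Abvar Groth.Abvar.PicCalc Groth.CohBase Groth.PicAux.BC

variable {B : Type u} [CommRing B] [IsLocalRing B] [IsArtinianRing B] {X : Scheme.{u}}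
  (q : X ⟶ Spec (CommRingCat.of B))

omit [IsLocalRing B] in
/-- A nonzero element killed by the maximal ideal. -/
theorem exists_ne_zero_smul_maximalIdeal [IsLocalRing B] :
    ∃ e : B, e ≠ 0 ∧ ∀ x ∈ IsLocalRing.maximalIdeal B, e * x = 0 := by
  classical
  have hn : ∃ n : ℕ, (IsLocalRing.maximalIdeal B) ^ n = ⊥ := by
    obtain ⟨n, hn⟩ := IsArtinianRing.isNilpotent_jacobson_bot (R := B)
    exact ⟨n, by rwa [IsLocalRing.jacobson_eq_maximalIdeal ⊥ bot_ne_top] at hn⟩
  have h0 : Nat.find hn ≠ 0 := fun h => by
    have h' := Nat.find_spec hn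
    rw [h, pow_zero, Ideal.one_eq_top] at h'
    exact top_ne_bot h'
  obtain ⟨n, hn'⟩ := Nat.exists_eq_succ_of_ne_zero h0
  obtain ⟨e, he, he0⟩ := Submodule.exists_mem_ne_zero_of_ne_bot
    (Nat.find_min hn (m := n) (by omega))
  refine ⟨e, he0, fun x hx => ?_⟩
  have : e * x ∈ (IsLocalRing.maximalIdeal B) ^ (n + 1) := by
    rw [pow_succ (IsLocalRing.maximalIdeal B) n]
    exact Ideal.mul_mem_mul he hx
  rw [show n + 1 = Nat.find hn from hn'.symm, Nat.find_spec hn] at this
  exact this

/-- An invertible module over an Artinian base, trivial on the closed fibre, with a section of zero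
annihilator, is trivial if the closed fibre has a field of functions. -/
theorem trivial_of_free_section [IsProper q] {M : X.Modules} (hM : PicF.IsInvertible M)
    {X₀ : Scheme.{u}} {g : X₀ ⟶ X} {q₀ : X₀ ⟶ Spec (CommRingCat.of (IsLocalRing.ResidueField B))}
    (hp : IsPullback g q₀ q (Spec.map (CommRingCat.ofHom (algebraMap B (IsLocalRing.ResidueField B)))))
    (hfld : IsField Γ(X₀, ⊤))
    (htriv : Nonempty ((Scheme.Modules.pullback g).obj M ≅ Coh.structureModule X₀))
    (s : Γ(M, ⊤)) (hs : ∀ b : B, bSec B (f' := q) ⊤ b • s = 0 → b = 0) :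
    cls hM = 1 := by
  let : X.Over (Spec (CommRingCat.of B)) := ⟨q⟩
  let K := IsLocalRing.ResidueField B
  have : M.IsQuasicoherent := (EulerDeg.isCoh_of_isInvertible hM).1
  have hM₀ := PicLoc.isInvertible_pullback g hM
  -- the section does not vanish on the closed fibre
  have hne : PicAux.pullSec g M s ≠ 0 := by
    intro h0
    obtain ⟨e, he, hem⟩ := exists_ne_zero_smul_maximalIdeal (B := B)
    refine he (hs e ?_)
    choose W hW hxW using fun x : X => exists_isAffineOpen_mem_and_subset (U := (⊤ : X.Opens)) (x := x) trivial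
    refine PicAux.res_ext W (fun _ => le_top) (fun x _ => Opens.mem_iSup.2 ⟨x, (hxW x).1⟩) fun x => ?_
    rw [PicAux.res_zero]
    let v : secA B M (W x) := PicAux.res M le_top s
    have hv : v ⊗ₜ[B] (1 : K) = 0 := by
      apply (bcΦ_bijective B K hp M (hW x)).1
      rw [map_zero, bcΦ_tmul, map_one, one_smul]
      show PicAux.pullSec g M (PicAux.res M le_top s) = 0
      rw [← PicAux.res_pullSec, h0, PicAux.res_zero]
    have hmem : v ∈ (IsLocalRing.maximalIdeal B • ⊤ : Submodule B (secA B M (W x))) := by
      have h := congrArg (TensorProduct.tensorQuotEquivQuotSMul (secA B M (W x)) (IsLocalRing.maximalIdeal B)) hv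
      replace h := h.trans (LinearEquiv.map_zero _)
      have h' : (Submodule.Quotient.mk v : secA B M (W x) ⧸
          (IsLocalRing.maximalIdeal B • ⊤ : Submodule B (secA B M (W x)))) = 0 := by
        rw [← h, show (1 : K) = Ideal.Quotient.mk _ 1 from rfl]
        refine Eq.trans ?_ (TensorProduct.tensorQuotEquivQuotSMul_tmul_mk _ v 1).symm
        rw [one_smul]
      exact (Submodule.Quotient.mk_eq_zero _).1 h'
    have hev : e • v = 0 := by
      refine Submodule.smul_induction_on hmem (fun r hr w _ => ?_) fun a b ha hb => ?_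
      · rw [smul_smul, hem r hr, zero_smul]
      · rw [smul_add, ha, hb, add_zero]
    refine Eq.trans ?_ (congrArg (fun t : secA B M (W x) => (show Γ(M, W x) from t)) hev)
    show PicAux.res M (U := ⊤) (V := W x) le_top (bSec B (f' := q) ⊤ e • s) =
      toSec B (W x) e • PicAux.res M (U := ⊤) (V := W x) le_top s
    rw [PicAux.res_smul]
    exact congrArg (fun t : Γ(X, W x) => t • PicAux.res M (U := ⊤) (V := W x) le_top s) (QCohMod.resFun_resFun _ _ _)
  -- so it generates on the closed fibre, hence everywhere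
  obtain ⟨ψ⟩ := htriv
  have h1 : gloc (PicAux.pullSec g M s) =
      X₀.basicOpen (PicAux.toFun (ψ.hom.app ⊤ (PicAux.pullSec g M s))) := by
    rw [← Groth.Ega2Proj.gloc_structure, gloc_map]
  have htop : gloc (PicAux.pullSec g M s) = ⊤ := by
    rcases eq_or_ne (PicAux.toFun (ψ.hom.app ⊤ (PicAux.pullSec g M s))) 0 with h0 | h0
    · refine absurd ?_ hne
      have h2 : ψ.hom.app ⊤ (PicAux.pullSec g M s) = 0 := h0
      have h3 := congrArg (fun t => ψ.inv.app ⊤ t) h2
      simp only [map_zero] at h3
      exact (congr($(ψ.hom_inv_id).app ⊤ (PicAux.pullSec g M s))).symm.trans h3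
    · obtain ⟨d, hd⟩ := hfld.mul_inv_cancel h0
      rw [h1, Scheme.basicOpen_of_isUnit _ (IsUnit.of_mul_eq_one _ hd)]
  rw [gloc_pullSec g hM] at htop
  have : Surjective g := by
    have : Surjective (Spec.map (CommRingCat.ofHom (algebraMap B K))) := by
      refine ⟨fun y => ⟨IsLocalRing.closedPoint K, ?_⟩⟩
      have : Subsingleton (PrimeSpectrum B) := inferInstance
      exact Subsingleton.elim (α := PrimeSpectrum B) _ _
    exact MorphismProperty.of_isPullback (P := @Surjective) hp.flip this
  have hs' : gloc s = ⊤ := top_le_iff.1 fun x _ => by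
    obtain ⟨y, rfl⟩ := g.surjective x
    exact (htop.ge trivial : y ∈ g ⁻¹ᵁ gloc s)
  rw [← nonempty_iso_structure_iff, PicAux.nonempty_iso_structure_iff]
  have hgen := gen_gloc s (V := ⊤) hs'.ge
  rw [PicAux.res_self] at hgen
  exact ⟨_, hgen⟩

end Groth.AbvarAmple
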