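import Groth.Agent.Inter.Growth
import Groth.Agent.CohTwo.Graft

/-!
# The growth of the cohomology of twists

For coherent `F` with support of dimension `≤ r` and invertible `L`, `H` one has
`hᵠ(F ⊗ L^a ⊗ H^b) = O((a + b + 1)^r)`.
-/

universe u

open CategoryTheory CategoryTheory.Limits AlgebraicGeometry TopologicalSpace

namespace Groth.AbvarAmple

open Groth.PicAux Groth.HilbStab Groth.PropsBasic.Ample Groth.Inter

variable (k : Type u) [Field k] {X : Scheme.{u}} [X.Over (Spec (CommRingCat.of k))]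
  [IsProper (X ↘ Spec (CommRingCat.of k))]

section Exact

variable {S : ShortComplex X.Modules} (hS : S.ShortExact)
include hS

/-- `hᵠ` of a middle term. -/
theorem finrank_HH_mid_le (h₁ : Coh.IsCoh S.X₁) (h₂ : Coh.IsCoh S.X₂) (h₃ : Coh.IsCoh S.X₃) (q : ℕ) :
    Module.finrank k (Coh.HH X S.X₂ q) ≤
      Module.finrank k (Coh.HH X S.X₁ q) + Module.finrank k (Coh.HH X S.X₃ q) := by
  have := (finCoh k h₁).finite q
  have := (finCoh k h₂).finite q
  have := (finCoh k h₃).finite q
  have h := EulerDeg.exact_mid k hS q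
  have q1 := LinearMap.finrank_range_add_finrank_ker (EulerDeg.hMap k S.g q)
  rw [LinearMap.exact_iff.1 h] at q1
  have q2 := Submodule.finrank_le (LinearMap.range (EulerDeg.hMap k S.g q))
  have q3 := LinearMap.finrank_range_le (EulerDeg.hMap k S.f q)
  omega

/-- `hᵠ` of a last term. -/
theorem finrank_HH_last_le (h₁ : Coh.IsCoh S.X₁) (h₂ : Coh.IsCoh S.X₂) (h₃ : Coh.IsCoh S.X₃) (q : ℕ) :
    Module.finrank k (Coh.HH X S.X₃ q) ≤
      Module.finrank k (Coh.HH X S.X₂ q) + Module.finrank k (Coh.HH X S.X₁ (q + 1)) := by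
  have := (finCoh k h₁).finite (q + 1)
  have := (finCoh k h₂).finite q
  have h := EulerDeg.exact_right k hS q
  have := (finCoh k h₃).finite q
  have q1 := LinearMap.finrank_range_add_finrank_ker (EulerDeg.hDelta k hS q)
  rw [LinearMap.exact_iff.1 h] at q1
  have q2 := Submodule.finrank_le (LinearMap.range (EulerDeg.hDelta k hS q))
  have q3 := LinearMap.finrank_range_le (EulerDeg.hMap k S.g q)
  omega

/-- `hᵠ⁺¹` of a first term. -/
theorem finrank_HH_succ_first_le (h₁ : Coh.IsCoh S.X₁) (h₂ : Coh.IsCoh S.X₂) (h₃ : Coh.IsCoh S.X₃) (q : ℕ) :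
    Module.finrank k (Coh.HH X S.X₁ (q + 1)) ≤
      Module.finrank k (Coh.HH X S.X₂ (q + 1)) + Module.finrank k (Coh.HH X S.X₃ q) := by
  have := (finCoh k h₂).finite (q + 1)
  have := (finCoh k h₃).finite q
  have h := EulerDeg.exact_left k hS q
  have := (finCoh k h₁).finite (q + 1)
  have q1 := LinearMap.finrank_range_add_finrank_ker (EulerDeg.hMap k S.f (q + 1))
  rw [LinearMap.exact_iff.1 h] at q1
  have q2 := Submodule.finrank_le (LinearMap.range (EulerDeg.hMap k S.f (q + 1)))
  have q3 := LinearMap.finrank_range_le (EulerDeg.hDelta k hS q)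
  omega

/-- `h⁰` of a first term. -/
theorem finrank_HH_zero_first_le (h₂ : Coh.IsCoh S.X₂) :
    Module.finrank k (Coh.HH X S.X₁ 0) ≤ Module.finrank k (Coh.HH X S.X₂ 0) := by
  have := (finCoh k h₂).finite 0
  exact LinearMap.finrank_le_finrank_of_injective (EulerDeg.injective_zero k hS)

end Exact

variable (L H : X.Modules)

/-- The twist of `F` by `L^a ⊗ H^b`. -/
noncomputable abbrev twPow (F : X.Modules) (a b : ℕ) : X.Modules :=
  CohB1.tensorMod F (CohB1.tensorMod (CohB1.tensorPow L a) (CohB1.tensorPow H b))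

/-- All cohomology of the twists of `F` grows at most like the `r`-th power. -/
def HGrow (r : ℕ) (F : X.Modules) : Prop :=
  ∀ q : ℕ, ∃ C : ℕ, ∀ a b : ℕ,
    Module.finrank k (Coh.HH X (twPow L H F a b) q) ≤ C * (a + b + 1) ^ r

/-- All cohomology of the twists of `F` is a difference of `r`-th powers. -/
def HSmall (r : ℕ) (F : X.Modules) : Prop :=
  ∀ q : ℕ, ∃ C : ℕ, ∀ a b : ℕ,
    Module.finrank k (Coh.HH X (twPow L H F a b) q) + C * (a + b + 1) ^ r ≤ C * (a + b + 2) ^ r

variable {L H}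

omit [X.Over (Spec (CommRingCat.of k))] [IsProper (X ↘ Spec (CommRingCat.of k))] in
theorem twPow_succ_left (F : X.Modules) (a b : ℕ) :
    Nonempty (twPow L H F (a + 1) b ≅ twPow L H (CohB1.tensorMod L F) a b) :=
  ⟨(tensor_congr ⟨Iso.refl F⟩ ⟨(tensor_congr (tensor_comm _ L) ⟨Iso.refl _⟩).some ≪≫
    (tensor_assoc L _ _).some⟩).some ≪≫ (tensor_assoc F L _).some.symm ≪≫
    (tensor_congr (tensor_comm F L) ⟨Iso.refl _⟩).some⟩

omit [X.Over (Spec (CommRingCat.of k))] [IsProper (X ↘ Spec (CommRingCat.of k))] in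
theorem twPow_succ_right (F : X.Modules) (a b : ℕ) :
    Nonempty (twPow L H F a (b + 1) ≅ twPow L H (CohB1.tensorMod H F) a b) :=
  ⟨(tensor_congr ⟨Iso.refl F⟩ ⟨(tensor_congr ⟨Iso.refl _⟩ (tensor_comm _ H)).some ≪≫
    (tensor_left_comm _ H _).some⟩).some ≪≫ (tensor_assoc F H _).some.symm ≪≫
    (tensor_congr (tensor_comm F H) ⟨Iso.refl _⟩).some⟩

variable (hL : PicF.IsInvertible L) (hH : PicF.IsInvertible H)
include hL hH

omit [X.Over (Spec (CommRingCat.of k))] [IsProper (X ↘ Spec (CommRingCat.of k))] in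
theorem isInvertible_powPow (a b : ℕ) :
    PicF.IsInvertible (CohB1.tensorMod (CohB1.tensorPow L a) (CohB1.tensorPow H b)) :=
  PicAux.isInvertible_tensorMod (PicAux.isInvertible_tensorPow hL a) (PicAux.isInvertible_tensorPow hH b)

omit [X.Over (Spec (CommRingCat.of k))] [IsProper (X ↘ Spec (CommRingCat.of k))] in
theorem isCoh_twPow {F : X.Modules} (hF : Coh.IsCoh F) (a b : ℕ) : Coh.IsCoh (twPow L H F a b) :=
  RefRank.isCoh_tensorMod hF (Inter.isCoh_of_isInvertible (isInvertible_powPow hL hH a b))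

section TwSeq

variable {S : ShortComplex X.Modules} (hS : S.ShortExact) (h₁ : Coh.IsCoh S.X₁) (h₂ : Coh.IsCoh S.X₂)
  (h₃ : Coh.IsCoh S.X₃)
include hS h₁ h₂ h₃

/-- `hᵠ` of the twists of a middle term. -/
theorem finrank_twPow_mid_le (a b q : ℕ) :
    Module.finrank k (Coh.HH X (twPow L H S.X₂ a b) q) ≤
      Module.finrank k (Coh.HH X (twPow L H S.X₁ a b) q) +
        Module.finrank k (Coh.HH X (twPow L H S.X₃ a b) q) :=
  finrank_HH_mid_le k (shortExact_tensorRightMod (isInvertible_powPow hL hH a b) hS)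
    (isCoh_twPow hL hH h₁ a b) (isCoh_twPow hL hH h₂ a b) (isCoh_twPow hL hH h₃ a b) q

/-- `hᵠ⁺¹` of the twists of a first term. -/
theorem finrank_twPow_succ_first_le (a b q : ℕ) :
    Module.finrank k (Coh.HH X (twPow L H S.X₁ a b) (q + 1)) ≤
      Module.finrank k (Coh.HH X (twPow L H S.X₂ a b) (q + 1)) +
        Module.finrank k (Coh.HH X (twPow L H S.X₃ a b) q) :=
  finrank_HH_succ_first_le k (shortExact_tensorRightMod (isInvertible_powPow hL hH a b) hS)
    (isCoh_twPow hL hH h₁ a b) (isCoh_twPow hL hH h₂ a b) (isCoh_twPow hL hH h₃ a b) q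

/-- `h⁰` of the twists of a first term. -/
theorem finrank_twPow_zero_first_le (a b : ℕ) :
    Module.finrank k (Coh.HH X (twPow L H S.X₁ a b) 0) ≤
      Module.finrank k (Coh.HH X (twPow L H S.X₂ a b) 0) :=
  finrank_HH_zero_first_le k (S := S.map (DCoh.tensorRightMod
    (CohB1.tensorMod (CohB1.tensorPow L a) (CohB1.tensorPow H b))))
    (shortExact_tensorRightMod (isInvertible_powPow hL hH a b) hS) (isCoh_twPow hL hH h₂ a b)

end TwSeq

/-- Twisting by an invertible module changes the cohomology of a module killed on an irreducible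
closed set only by what comes from smaller modules. -/
theorem exists_step {M : X.Modules} (hM : PicF.IsInvertible M) {Y : Closeds X} {ξ : X} {r : ℕ}
    {F : X.Modules} (hF : Coh.IsCoh F) (hFY : CohB1.support F ⊆ Y)
    (hsmall : ∀ G : X.Modules, Coh.IsCoh G → CohB1.support G ⊆ Y → ξ ∉ CohB1.support G →
      HSmall k L H r G) (q : ℕ) :
    ∃ C : ℕ, ∀ a b : ℕ, Module.finrank k (Coh.HH X (twPow L H (CohB1.tensorMod M F) a b) q) +
      C * (a + b + 1) ^ r ≤
        Module.finrank k (Coh.HH X (twPow L H F a b) q) + C * (a + b + 2) ^ r := by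
  have hN : IsNoetherian X := isNoetherian k
  have := hF.1
  have hMF := isCoh_twist hM hF
  obtain ⟨e⟩ := exists_stalk_equiv_twist hM F ξ
  obtain ⟨J, γ, hξJ, hγ, hbij⟩ := CohTwo.exists_graft hF hMF ξ e.toLinearMap e.bijective
  have hJ := CohTwo.isCoh_idealMul J F hF
  have := hJ.1
  obtain ⟨hc, hcY, hcξ⟩ := CohTwo.coker_small hJ hMF γ ((support_twist_subset M F).trans hFY) hbij
  obtain ⟨hd, hdY, hdξ⟩ := CohTwo.coker_small hJ hF (Dual3.idealMulι J F) hFY
    (CohTwo.bijective_stalk_idealMulι J F hξJ)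
  obtain ⟨C₁, hC₁⟩ := hsmall _ hc hcY hcξ q
  have s := fun (a b : ℕ) => finrank_twPow_mid_le k hL hH (CohTwo.cokerSeq_shortExact γ) hJ hMF hc a b q
  cases q with
  | zero =>
    refine ⟨C₁, fun a b => ?_⟩
    have s1 : Module.finrank k (Coh.HH X (twPow L H (CohB1.tensorMod M F) a b) 0) ≤
        Module.finrank k (Coh.HH X (twPow L H ((Dual3.idealMul J).obj F) a b) 0) +
          Module.finrank k (Coh.HH X (twPow L H (cokernel γ) a b) 0) := s a b
    have s2 : Module.finrank k (Coh.HH X (twPow L H ((Dual3.idealMul J).obj F) a b) 0) ≤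
        Module.finrank k (Coh.HH X (twPow L H F a b) 0) := finrank_twPow_zero_first_le k hL hH
      (CohTwo.cokerSeq_shortExact (Dual3.idealMulι J F)) hJ hF hd a b
    have := hC₁ a b
    omega
  | succ q =>
    obtain ⟨C₂, hC₂⟩ := hsmall _ hd hdY hdξ q
    refine ⟨C₁ + C₂, fun a b => ?_⟩
    have s1 : Module.finrank k (Coh.HH X (twPow L H (CohB1.tensorMod M F) a b) (q + 1)) ≤
        Module.finrank k (Coh.HH X (twPow L H ((Dual3.idealMul J).obj F) a b) (q + 1)) +
          Module.finrank k (Coh.HH X (twPow L H (cokernel γ) a b) (q + 1)) := s a b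
    have s2 : Module.finrank k (Coh.HH X (twPow L H ((Dual3.idealMul J).obj F) a b) (q + 1)) ≤
        Module.finrank k (Coh.HH X (twPow L H F a b) (q + 1)) +
          Module.finrank k (Coh.HH X (twPow L H (cokernel (Dual3.idealMulι J F)) a b) q) :=
      finrank_twPow_succ_first_le k hL hH (CohTwo.cokerSeq_shortExact (Dual3.idealMulι J F)) hJ hF hd a b q
    have := hC₁ a b
    have := hC₂ a b
    rw [add_mul, add_mul]
    omega

/-- **Growth of cohomology**: `hᵠ(F ⊗ L^a ⊗ H^b) = O((a + b + 1)^{dim F})`. -/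
theorem hGrow_of_dim : ∀ (r : ℕ) {F : X.Modules}, Coh.IsCoh F →
    topologicalKrullDim (CohB1.support F) ≤ (r : ℕ) → HGrow k L H r F := by
  intro r
  induction r using Nat.strong_induction_on with
  | _ r ih =>
  intro F₀ hF₀ hdim₀
  have hN : IsNoetherian X := isNoetherian k
  have hzero : ∀ {A : X.Modules}, IsZero A → ∀ a b q,
      Module.finrank k (Coh.HH X (twPow L H A a b) q) = 0 := fun {A} h a b q => by
    have : Subsingleton (Coh.HH X (twPow L H A a b) q) :=
      Sheaf.subsingleton_H_of_isZero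
        ((SheafOfModules.toSheaf X.ringCatSheaf).map_isZero ((DCoh.tensorRightMod _).map_isZero h)) q
    exact Module.finrank_zero_of_subsingleton
  have hsmallG : ∀ G : X.Modules, Coh.IsCoh G → topologicalKrullDim (CohB1.support G) < (r : ℕ) →
      HSmall k L H r G := by
    intro G hG hd q
    cases r with
    | zero =>
      refine ⟨0, fun a b => ?_⟩
      rw [hzero ((QCohMod.isZero_iff_support_eq_empty G).2 (support_eq_empty_of_dim_lt_zero hd))]
      simp
    | succ r =>
      obtain ⟨C, hC⟩ := ih r r.lt_succ_self hG (lt_natCast_succ_iff.1 hd) q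
      refine ⟨C, fun a b => ?_⟩
      have h1 : (a + b + 1) ^ r + (a + b + 1) ^ (r + 1) ≤ (a + b + 2) ^ (r + 1) := by
        have h0 : (a + b + 1) ^ r ≤ (a + b + 2) ^ r := Nat.pow_le_pow_left (by omega) r
        rw [pow_succ (a + b + 2) r, pow_succ (a + b + 1) r]
        calc (a + b + 1) ^ r + (a + b + 1) ^ r * (a + b + 1) = (a + b + 1) ^ r * (a + b + 2) := by ring
          _ ≤ (a + b + 2) ^ r * (a + b + 2) := Nat.mul_le_mul_right _ h0
      have h2 := Nat.mul_le_mul_left C h1
      rw [mul_add] at h2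
      have := hC a b
      omega
  refine CohTwo.coh_induction (HGrow k L H r) (fun A B e h q => ?_) (fun A h q => ⟨0, fun a b => ?_⟩)
    (fun S hS h₁ h₂ h₃ b₁ b₃ q => ?_) (CohB1.support F₀) ?_ (CohTwo.isClosed_support F₀ hF₀) F₀ hF₀
    subset_rfl
  · obtain ⟨C, hC⟩ := h q
    exact ⟨C, fun a b => (EulerDeg.hEquiv k
      (tensor_congr e ⟨Iso.refl _⟩).some q).finrank_eq.symm.trans_le (hC a b)⟩
  · rw [hzero h]
    exact Nat.zero_le _
  · obtain ⟨C₁, hC₁⟩ := b₁ q
    obtain ⟨C₃, hC₃⟩ := b₃ q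
    refine ⟨C₁ + C₃, fun a b => ?_⟩
    rw [add_mul]
    exact (finrank_twPow_mid_le k hL hH hS h₁ h₂ h₃ a b q).trans
        (Nat.add_le_add (hC₁ a b) (hC₃ a b))
  intro Y ξ hY hYX F hF hkill _
  have := hF.1
  have hFY : CohB1.support F ⊆ Y := fun x hx => by simpa using hkill.support_subset hx
  have hsmall : ∀ G : X.Modules, Coh.IsCoh G → CohB1.support G ⊆ Y → ξ ∉ CohB1.support G →
      HSmall k L H r G := fun G hG hGY hξ => by
    refine hsmallG G hG ?_
    refine lt_of_lt_of_le ?_ ((LocCohTransform.topologicalKrullDim_mono hYX).trans hdim₀)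
    refine LocCohTransform.topologicalKrullDim_lt_of_ssubset hGY
      (fun hsub => hξ (hsub (by rw [hY]; exact subset_closure rfl)))
      (CohTwo.isClosed_support _ hG) Y.2 (by rw [hY]; exact isIrreducible_singleton.closure) ?_
    exact lt_of_le_of_lt ((LocCohTransform.topologicalKrullDim_mono hYX).trans hdim₀)
      (WithBot.coe_lt_coe.2 (ENat.natCast_lt_top _))
  intro q
  obtain ⟨CL, hCL⟩ := exists_step k hL hH hL hF hFY hsmall q
  obtain ⟨CH, hCH⟩ := exists_step k hL hH hH hF hFY hsmall q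
  let h := fun a b => Module.finrank k (Coh.HH X (twPow L H F a b) q)
  have hLa : ∀ a b, h (a + 1) b + CL * (a + b + 1) ^ r ≤ h a b + CL * (a + b + 2) ^ r := fun a b => by
    show Module.finrank k (Coh.HH X (twPow L H F (a + 1) b) q) + _ ≤ _
    rw [(EulerDeg.hEquiv k (twPow_succ_left F a b).some q).finrank_eq]
    exact hCL a b
  have hHb : ∀ a b, h a (b + 1) + CH * (a + b + 1) ^ r ≤ h a b + CH * (a + b + 2) ^ r := fun a b => by
    show Module.finrank k (Coh.HH X (twPow L H F a (b + 1)) q) + _ ≤ _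
    rw [(EulerDeg.hEquiv k (twPow_succ_right F a b).some q).finrank_eq]
    exact hCH a b
  let C := h 0 0 + CL + CH
  have key : ∀ a b, h a b ≤ C * (a + b + 1) ^ r := by
    have h0 : ∀ b, h 0 b ≤ C * (0 + b + 1) ^ r := by
      intro b
      induction b with
      | zero => simp only [Nat.add_zero, Nat.zero_add, one_pow, mul_one, C]; omega
      | succ b ihb =>
        have h1 := hHb 0 b
        have h2 : (0 + b + 1) ^ r ≤ (0 + b + 2) ^ r := Nat.pow_le_pow_left (by omega) r
        have h3 : CH ≤ C := by simp only [C]; omega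
        show h 0 (b + 1) ≤ C * (0 + (b + 1) + 1) ^ r
        rw [show 0 + (b + 1) + 1 = 0 + b + 2 by omega]
        nlinarith
    intro a
    induction a with
    | zero => exact h0
    | succ a iha =>
      intro b
      have h1 := hLa a b
      have h2 : (a + b + 1) ^ r ≤ (a + b + 2) ^ r := Nat.pow_le_pow_left (by omega) r
      have h3 : CL ≤ C := by simp only [C]; omega
      have h4 := iha b
      rw [show a + 1 + b + 1 = a + b + 2 by omega]
      nlinarith
  exact ⟨C, key⟩

end Groth.AbvarAmple
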