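import Mathlib

/-!
# Index functions controlled by a polynomial

An integer valued function on positive rational rays which changes only where a polynomial `f` is
small drops by at most the multiplicity at each root of `f`.
-/

open Polynomial

namespace Groth.AbvarAmple

/-- The properties of the index along the ray `c^a h^b` used to count roots: `I a b i` reads "the
index at `b / a` is `i`". -/
structure IndexData (g s : ℕ) (f : ℝ[X]) (I : ℕ → ℕ → ℕ → Prop) : Prop where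
  exists_idx : ∀ a b : ℕ, 0 < a → f.eval ((b : ℝ) / a) ≠ 0 → ∃ i, I a b i
  le_dim : ∀ a b i : ℕ, I a b i → i ≤ g
  unique : ∀ a b i i' : ℕ, I a b i → I a b i' → i = i'
  scale : ∀ a b i n : ℕ, 0 < n → I a b i → I (n * a) (n * b) i
  drop : ∀ n r : ℕ, n + r = g → ∃ C : ℕ, ∀ a b i : ℕ, 0 < a → I a b i → r ≤ i →
    (∀ l, 1 ≤ l → l ≤ r → ∃ i'', i'' + r ≤ i ∧ I a (b + l * s) i'') →
    |f.eval ((b : ℝ) / a)| * (a : ℝ) ^ g ≤ C * ((a : ℝ) + b + 1) ^ n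
  rise : ∀ n : ℕ, n + 1 = g → ∃ C : ℕ, ∀ a b i i' : ℕ, 0 < a → I a b i → I a (b + s) i' → i ≠ i' →
    |f.eval (((b + s : ℕ) : ℝ) / a)| * (a : ℝ) ^ g ≤ C * ((a : ℝ) + b + 1) ^ n
  three_le : 3 ≤ s

/-- Rational rays between two nonnegative reals. -/
theorem exists_pair_btwn {x y : ℝ} (hx : 0 ≤ x) (hxy : x < y) :
    ∃ a b : ℕ, 0 < a ∧ x < (b : ℝ) / a ∧ (b : ℝ) / a < y := by
  obtain ⟨q, hq1, hq2⟩ := exists_rat_btwn hxy
  have hq0 : 0 ≤ q := by
    have : (0 : ℝ) ≤ q := hx.trans hq1.le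
    exact_mod_cast this
  have hb : ((q.num.toNat : ℕ) : ℝ) = (q.num : ℝ) := by
    exact_mod_cast congrArg (Int.cast (R := ℝ)) (Int.toNat_of_nonneg (Rat.num_nonneg.2 hq0))
  refine ⟨q.den, q.num.toNat, q.den_pos, ?_, ?_⟩ <;> rw [hb, ← Rat.cast_def] <;> assumption

/-- A polynomial without roots on a closed interval is bounded below there. -/
theorem exists_pos_le_abs_eval (q : ℝ[X]) {u v : ℝ} (huv : u ≤ v)
    (h : ∀ t, u ≤ t → t ≤ v → q.eval t ≠ 0) : ∃ δ > 0, ∀ t, u ≤ t → t ≤ v → δ ≤ |q.eval t| := by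
  obtain ⟨t₀, ht₀, hmin⟩ := isCompact_Icc.exists_isMinOn (Set.nonempty_Icc.2 huv)
    (q.continuous.abs.continuousOn)
  exact ⟨_, abs_pos.2 (h t₀ ht₀.1 ht₀.2), fun t h1 h2 => hmin (Set.mem_Icc.2 ⟨h1, h2⟩)⟩

variable {g s : ℕ} {f : ℝ[X]} {I : ℕ → ℕ → ℕ → Prop}

/-- The index does not change on intervals without roots. -/
theorem IndexData.eq_of_no_root (D : IndexData g s f I) {a₀ b₀ a₁ b₁ i₀ i₁ : ℕ} (ha₀ : 0 < a₀)
    (ha₁ : 0 < a₁) (h₀ : I a₀ b₀ i₀) (h₁ : I a₁ b₁ i₁)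
    (hle : (b₀ : ℝ) / a₀ ≤ (b₁ : ℝ) / a₁)
    (hroot : ∀ t, (b₀ : ℝ) / a₀ ≤ t → t ≤ (b₁ : ℝ) / a₁ → f.eval t ≠ 0) : i₀ = i₁ := by
  rcases Nat.eq_zero_or_pos g with hg | hg
  · have := D.le_dim _ _ _ h₀
    have := D.le_dim _ _ _ h₁
    omega
  obtain ⟨n, hn⟩ : ∃ n, n + 1 = g := ⟨g - 1, by omega⟩
  obtain ⟨δ, hδ, hbd⟩ := exists_pos_le_abs_eval f hle hroot
  obtain ⟨C₁, hC₁⟩ := D.drop n 1 hn
  obtain ⟨C₂, hC₂⟩ := D.rise n hn
  have hs := D.three_le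
  set u := (b₀ : ℝ) / a₀
  set v := (b₁ : ℝ) / a₁
  let K : ℝ := v + 2
  obtain ⟨N, hN⟩ := exists_nat_gt (((C₁ + C₂ : ℕ) : ℝ) * K ^ n / δ)
  have hN0 : 0 < N := by
    rcases Nat.eq_zero_or_pos N with h | h
    · subst h
      have : 0 ≤ ((C₁ + C₂ : ℕ) : ℝ) * K ^ n / δ := by
        have : 0 ≤ K := by positivity
        positivity
      rw [Nat.cast_zero] at hN
      exact absurd hN (not_lt.2 this)
    · exact h
  let A := N * s * (a₀ * a₁)
  let B := N * s * (b₀ * a₁)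
  have hA : 0 < A := Nat.mul_pos (Nat.mul_pos hN0 (by omega)) (Nat.mul_pos ha₀ ha₁)
  have hcross : b₀ * a₁ ≤ b₁ * a₀ := by
    have : (b₀ : ℝ) * a₁ ≤ b₁ * a₀ := (div_le_div_iff₀ (by positivity) (by positivity)).1 hle
    exact_mod_cast this
  let M := N * (b₁ * a₀ - b₀ * a₁)
  have hB' : B + M * s = N * s * (b₁ * a₀) := by
    obtain ⟨d, hd⟩ := Nat.exists_eq_add_of_le hcross
    simp only [B, M, hd, Nat.add_sub_cancel_left]
    ring
  have hI₀ : I A B i₀ := by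
    have h := D.scale _ _ _ (N * s * a₁) (Nat.mul_pos (Nat.mul_pos hN0 (by omega)) ha₁) h₀
    rwa [show N * s * a₁ * a₀ = A by simp only [A]; ring,
      show N * s * a₁ * b₀ = B by simp only [B]; ring] at h
  have hI₁ : I A (B + M * s) i₁ := by
    rw [hB']
    have h := D.scale _ _ _ (N * s * a₀) (Nat.mul_pos (Nat.mul_pos hN0 (by omega)) ha₀) h₁
    rwa [show N * s * a₀ * a₁ = A by simp only [A]; ring,
      show N * s * a₀ * b₁ = N * s * (b₁ * a₀) by ring] at h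
  have hu : (B : ℝ) / A = u := by
    simp only [A, B, u]; push_cast; field_simp
  have hv : ((B + M * s : ℕ) : ℝ) / A = v := by
    rw [hB']; simp only [A, v]; push_cast; field_simp
  have hmem : ∀ l ≤ M, u ≤ ((B + l * s : ℕ) : ℝ) / A ∧ ((B + l * s : ℕ) : ℝ) / A ≤ v := fun l hl => by
    constructor
    · rw [← hu]
      exact div_le_div_of_nonneg_right (by exact_mod_cast Nat.le_add_right _ _) (by positivity)
    · rw [← hv]
      exact div_le_div_of_nonneg_right (by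
        exact_mod_cast Nat.add_le_add_left (Nat.mul_le_mul_right s hl) B) (by positivity)
  have hidx : ∀ l ≤ M, ∃ i, I A (B + l * s) i := fun l hl =>
    D.exists_idx A _ hA (hroot _ (hmem l hl).1 (hmem l hl).2)
  suffices key : ∀ l ≤ M, ∀ i, I A (B + l * s) i → i = i₀ from (key M le_rfl i₁ hI₁).symm
  intro l
  induction l with
  | zero => exact fun _ i hi => D.unique _ _ _ _ hi (by simpa using hI₀)
  | succ l ih =>
    intro hl i hi
    obtain ⟨j, hj⟩ := hidx l (by omega)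
    obtain rfl := ih (by omega) j hj
    by_contra hne
    have hstep : B + (l + 1) * s = B + l * s + s := by ring
    obtain ⟨t, ht1, ht2, hest⟩ : ∃ t, u ≤ t ∧ t ≤ v ∧
        |f.eval t| * (A : ℝ) ^ g ≤ ((C₁ + C₂ : ℕ) : ℝ) * ((A : ℝ) + (B + l * s : ℕ) + 1) ^ n := by
      rcases Nat.lt_or_gt_of_ne hne with h | h
      · refine ⟨_, (hmem l (by omega)).1, (hmem l (by omega)).2, ?_⟩
        refine (hC₁ A (B + l * s) j hA hj (by omega) fun l' h1 h2 => ?_).trans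
          (mul_le_mul_of_nonneg_right (by push_cast; linarith [(Nat.cast_nonneg C₂ : (0 : ℝ) ≤ C₂)])
            (by positivity))
        obtain rfl : l' = 1 := by omega
        exact ⟨i, by omega, by rwa [one_mul, ← hstep]⟩
      · refine ⟨_, (hmem (l + 1) hl).1, (hmem (l + 1) hl).2, ?_⟩
        rw [hstep] at hi ⊢
        exact (hC₂ A (B + l * s) j i hA hj hi (Ne.symm hne)).trans
          (mul_le_mul_of_nonneg_right (by push_cast; linarith [(Nat.cast_nonneg C₁ : (0 : ℝ) ≤ C₁)])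
            (by positivity))
    have hA1 : (1 : ℝ) ≤ A := by exact_mod_cast hA
    have hBA : ((B + l * s : ℕ) : ℝ) ≤ v * A := (div_le_iff₀ (by positivity)).1 (hmem l (by omega)).2
    have hK : ((A : ℝ) + (B + l * s : ℕ) + 1) ≤ K * A := by simp only [K]; nlinarith
    have h2 : δ * (A : ℝ) * (A : ℝ) ^ n ≤ ((C₁ + C₂ : ℕ) : ℝ) * K ^ n * (A : ℝ) ^ n := by
      calc δ * (A : ℝ) * (A : ℝ) ^ n = δ * (A : ℝ) ^ g := by rw [← hn, pow_succ]; ring
        _ ≤ |f.eval t| * (A : ℝ) ^ g := mul_le_mul_of_nonneg_right (hbd t ht1 ht2) (by positivity)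
        _ ≤ _ := hest
        _ ≤ ((C₁ + C₂ : ℕ) : ℝ) * (K * A) ^ n :=
          mul_le_mul_of_nonneg_left (pow_le_pow_left₀ (by positivity) hK n) (by positivity)
        _ = _ := by rw [mul_pow]; ring
    have h3 := le_of_mul_le_mul_right h2 (by positivity)
    have h4 : (N : ℝ) ≤ A := by
      exact_mod_cast (Nat.le_mul_of_pos_right _ (by omega)).trans
        (Nat.le_mul_of_pos_right _ (Nat.mul_pos ha₀ ha₁))
    rw [div_lt_iff₀ hδ] at hN
    nlinarith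

/-- Across a single root the index drops by at most its multiplicity. -/
theorem IndexData.le_add_rootMultiplicity (D : IndexData g s f I) (hf : f ≠ 0)
    {a₀ b₀ a₁ b₁ i₀ i₁ : ℕ} (ha₀ : 0 < a₀) (ha₁ : 0 < a₁) (h₀ : I a₀ b₀ i₀) (h₁ : I a₁ b₁ i₁) {τ : ℝ}
    (hu : (b₀ : ℝ) / a₀ < τ) (hv : τ < (b₁ : ℝ) / a₁)
    (hroot : ∀ t, (b₀ : ℝ) / a₀ ≤ t → t ≤ (b₁ : ℝ) / a₁ → f.eval t = 0 → t = τ) :
    i₀ ≤ i₁ + f.rootMultiplicity τ := by
  by_contra hlt
  set μ := f.rootMultiplicity τ with hμ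
  have hi₀ := D.le_dim _ _ _ h₀
  obtain ⟨n, hn⟩ : ∃ n, n + (μ + 1) = g := ⟨g - (μ + 1), by omega⟩
  obtain ⟨C, hC⟩ := D.drop n (μ + 1) hn
  obtain ⟨q, hq, hqτ⟩ := f.exists_eq_pow_rootMultiplicity_mul_and_not_dvd hf τ
  rw [← hμ] at hq
  set u := (b₀ : ℝ) / a₀ with hu'
  set v := (b₁ : ℝ) / a₁ with hv'
  have hfeval : ∀ t, f.eval t = (t - τ) ^ μ * q.eval t := fun t => by
    conv_lhs => rw [hq]
    simp only [eval_mul, eval_pow, eval_sub, eval_X, eval_C]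
  obtain ⟨δ, hδ, hbd⟩ := exists_pos_le_abs_eval q (hu.trans hv).le fun t h1 h2 h0 => by
    obtain rfl := hroot t h1 h2 (by rw [hfeval, h0, mul_zero])
    exact hqτ (dvd_iff_isRoot.2 h0)
  have hs := D.three_le
  have hs' : (3 : ℝ) ≤ s := by exact_mod_cast hs
  let K : ℝ := v + 2
  let W : ℝ := (s : ℝ) * (μ + 2) + 1
  obtain ⟨a, ha⟩ := exists_nat_gt (max (max (W / (τ - u)) (W / (v - τ)))
    ((C : ℝ) * K ^ n * 2 ^ μ / δ))
  rw [max_lt_iff, max_lt_iff, div_lt_iff₀ (by linarith), div_lt_iff₀ (by linarith),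
    div_lt_iff₀ hδ] at ha
  obtain ⟨⟨haW₁, haW₂⟩, haC⟩ := ha
  have hu0 : 0 ≤ u := by positivity
  have hv0 : 0 ≤ v := by positivity
  have hW : (s : ℝ) ≤ W := by simp only [W]; nlinarith [(Nat.cast_nonneg μ : (0 : ℝ) ≤ μ)]
  have hapos : (0 : ℝ) < a := by nlinarith
  have ha' : 0 < a := by exact_mod_cast hapos
  let b := ⌊τ * a - (s : ℝ) / 2⌋₊
  have hb0 : (0 : ℝ) ≤ τ * a - (s : ℝ) / 2 := by nlinarith
  have hb1 : (b : ℝ) ≤ τ * a - (s : ℝ) / 2 := Nat.floor_le hb0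
  have hb2 : τ * a - (s : ℝ) / 2 < b + 1 := Nat.lt_floor_add_one _
  have hbu : u ≤ (b : ℝ) / a := (le_div_iff₀ hapos).2 (by nlinarith)
  have hbτ : (b : ℝ) / a < τ := (div_lt_iff₀ hapos).2 (by linarith)
  obtain ⟨i, hi⟩ := D.exists_idx a b ha' fun h0 => hbτ.ne (hroot _ hbu (hbτ.trans hv).le h0)
  obtain rfl := D.eq_of_no_root ha₀ ha' h₀ hi hbu fun t h1 h2 h0 =>
    (h2.trans_lt hbτ).ne (hroot t h1 ((h2.trans_lt hbτ).trans hv).le h0)
  have hest := hC a b i₀ ha' hi (by omega) fun l hl1 hl2 => by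
    have hl1' : (1 : ℝ) ≤ l := by exact_mod_cast hl1
    have hl2' : (l : ℝ) ≤ μ + 1 := by exact_mod_cast hl2
    have e : ((b + l * s : ℕ) : ℝ) = b + l * s := by push_cast; ring
    have hlτ : τ < ((b + l * s : ℕ) : ℝ) / a := (lt_div_iff₀ hapos).2 (by rw [e]; nlinarith)
    have hlv : ((b + l * s : ℕ) : ℝ) / a ≤ v := (div_le_iff₀ hapos).2 (by
      rw [e]; simp only [W] at haW₂; nlinarith)
    obtain ⟨j, hj⟩ := D.exists_idx a (b + l * s) ha' fun h0 =>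
      hlτ.ne' (hroot _ (hu.trans hlτ).le hlv h0)
    refine ⟨j, ?_, hj⟩
    obtain rfl := D.eq_of_no_root ha' ha₁ hj h₁ hlv fun t h1 h2 h0 =>
      (hlτ.trans_le h1).ne' (hroot t ((hu.trans hlτ).le.trans h1) h2 h0)
    omega
  have hK : (a : ℝ) + b + 1 ≤ K * a := by
    have : (1 : ℝ) ≤ a := by exact_mod_cast ha'
    have : (b : ℝ) ≤ v * a := (div_le_iff₀ hapos).1 (hbτ.trans hv).le
    simp only [K]; nlinarith
  have hdist : 1 / (2 * (a : ℝ)) ≤ |(b : ℝ) / a - τ| := by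
    rw [abs_of_neg (by linarith), div_le_iff₀ (by positivity)]
    field_simp
    nlinarith
  have h2 : δ * (a : ℝ) * ((a : ℝ) ^ n) ≤ (C : ℝ) * K ^ n * 2 ^ μ * (a : ℝ) ^ n := by
    calc δ * (a : ℝ) * ((a : ℝ) ^ n)
        = (1 / (2 * (a : ℝ))) ^ μ * δ * (a : ℝ) ^ g * 2 ^ μ := by
          rw [← hn, div_pow, one_pow, mul_pow, pow_add, pow_succ]; field_simp
      _ ≤ |f.eval ((b : ℝ) / a)| * (a : ℝ) ^ g * 2 ^ μ := by
          refine mul_le_mul_of_nonneg_right (mul_le_mul_of_nonneg_right ?_ (by positivity)) (by positivity)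
          rw [hfeval, abs_mul, abs_pow]
          exact mul_le_mul (pow_le_pow_left₀ (by positivity) hdist μ)
            (hbd _ hbu (hbτ.trans hv).le) hδ.le (by positivity)
      _ ≤ (C : ℝ) * (K * a) ^ n * 2 ^ μ :=
          mul_le_mul_of_nonneg_right (hest.trans
            (mul_le_mul_of_nonneg_left (pow_le_pow_left₀ (by positivity) hK n) (by positivity)))
            (by positivity)
      _ = _ := by rw [mul_pow]; ring
  have h3 := le_of_mul_le_mul_right h2 (by positivity)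
  linarith

/-- The index drops by at most the number of roots crossed, with multiplicity. -/
theorem IndexData.le_add_sum (D : IndexData g s f I) (hf : f ≠ 0) :
    ∀ (S : Finset ℝ) {a₀ b₀ a₁ b₁ i₀ i₁ : ℕ}, 0 < a₀ → 0 < a₁ → I a₀ b₀ i₀ → I a₁ b₁ i₁ →
      f.eval ((b₀ : ℝ) / a₀) ≠ 0 → f.eval ((b₁ : ℝ) / a₁) ≠ 0 →
      (b₀ : ℝ) / a₀ ≤ (b₁ : ℝ) / a₁ →
      (∀ t, (b₀ : ℝ) / a₀ < t → t < (b₁ : ℝ) / a₁ → f.eval t = 0 → t ∈ S) →
      i₀ ≤ i₁ + ∑ t ∈ S, f.rootMultiplicity t := by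
  intro S
  induction S using Finset.strongInduction with
  | _ S ih =>
  intro a₀ b₀ a₁ b₁ i₀ i₁ ha₀ ha₁ h₀ h₁ hn₀ hn₁ hle hS
  set u := (b₀ : ℝ) / a₀ with hu'
  set v := (b₁ : ℝ) / a₁ with hv'
  by_cases hno : ∀ t, u ≤ t → t ≤ v → f.eval t ≠ 0
  · rw [D.eq_of_no_root ha₀ ha₁ h₀ h₁ hle hno]
    exact Nat.le_add_right _ _
  push Not at hno
  obtain ⟨τ, hτu, hτv, hτ⟩ := hno
  have hu : u < τ := lt_of_le_of_ne hτu fun h => hn₀ (h ▸ hτ)
  have hv : τ < v := lt_of_le_of_ne hτv fun h => hn₁ (h ▸ hτ)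
  obtain ⟨ε, hε, hiso⟩ : ∃ ε > 0, ∀ t, f.eval t = 0 → |t - τ| < ε → t = τ := by
    classical
    rcases ((f.roots.toFinset.erase τ).image fun t => |t - τ|).eq_empty_or_nonempty with h | h
    · refine ⟨1, one_pos, fun t ht _ => by_contra fun hne => ?_⟩
      have : |t - τ| ∈ (f.roots.toFinset.erase τ).image fun t => |t - τ| :=
        Finset.mem_image_of_mem _ (Finset.mem_erase.2 ⟨hne, Multiset.mem_toFinset.2 ((mem_roots hf).2 ht)⟩)
      rw [h] at this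
      exact Finset.notMem_empty _ this
    · refine ⟨Finset.min' _ h, ?_, fun t ht hlt => by_contra fun hne => ?_⟩
      · obtain ⟨t, ht, e⟩ := Finset.mem_image.1 (Finset.min'_mem _ h)
        rw [← e]
        exact abs_pos.2 (sub_ne_zero.2 (Finset.mem_erase.1 ht).1)
      · exact absurd (Finset.min'_le _ _ (Finset.mem_image_of_mem (fun t => |t - τ|)
          (Finset.mem_erase.2 ⟨hne, Multiset.mem_toFinset.2 ((mem_roots hf).2 ht)⟩))) (not_le.2 hlt)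
  have hu0 : 0 ≤ u := by positivity
  obtain ⟨p₁, q₁, hp₁, hw₁, hw₁'⟩ := exists_pair_btwn (x := max u (τ - ε))
    (le_max_of_le_left hu0) (y := τ) (max_lt hu (by linarith))
  obtain ⟨p₂, q₂, hp₂, hw₂, hw₂'⟩ := exists_pair_btwn (x := τ) (hu0.trans hu.le)
    (y := min v (τ + ε)) (lt_min hv (by linarith))
  rw [max_lt_iff] at hw₁
  rw [lt_min_iff] at hw₂'
  have hne₁ : f.eval ((q₁ : ℝ) / p₁) ≠ 0 := fun h0 =>
    hw₁'.ne (hiso _ h0 (by rw [abs_lt]; constructor <;> linarith [hw₁.2]))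
  have hne₂ : f.eval ((q₂ : ℝ) / p₂) ≠ 0 := fun h0 =>
    hw₂.ne' (hiso _ h0 (by rw [abs_lt]; constructor <;> linarith [hw₂'.2]))
  obtain ⟨j₁, hj₁⟩ := D.exists_idx p₁ q₁ hp₁ hne₁
  obtain ⟨j₂, hj₂⟩ := D.exists_idx p₂ q₂ hp₂ hne₂
  classical
  have hτS : τ ∈ S := hS τ hu hv hτ
  have e₁ := ih (S.filter (· < τ)) (Finset.filter_ssubset.2 ⟨τ, hτS, lt_irrefl τ⟩) ha₀ hp₁ h₀ hj₁ hn₀
    hne₁ hw₁.1.le fun t h1 h2 h0 =>
      Finset.mem_filter.2 ⟨hS t h1 ((h2.trans hw₁').trans hv) h0, h2.trans hw₁'⟩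
  have e₂ := D.le_add_rootMultiplicity hf hp₁ hp₂ hj₁ hj₂ hw₁' hw₂ fun t h1 h2 h0 =>
    hiso t h0 (by rw [abs_lt]; constructor <;> linarith [hw₁.2, hw₂'.2])
  have e₃ := ih (S.filter (τ < ·)) (Finset.filter_ssubset.2 ⟨τ, hτS, lt_irrefl τ⟩) hp₂ ha₁ hj₂ h₁ hne₂
    hn₁ hw₂'.1.le fun t h1 h2 h0 =>
      Finset.mem_filter.2 ⟨hS t ((hu.trans hw₂).trans h1) h2 h0, hw₂.trans h1⟩
  have e₄ : (∑ t ∈ S.filter (· < τ), f.rootMultiplicity t) + f.rootMultiplicity τ +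
      (∑ t ∈ S.filter (τ < ·), f.rootMultiplicity t) = ∑ t ∈ S, f.rootMultiplicity t := by
    rw [← Finset.sum_filter_add_sum_filter_not S (· < τ), add_assoc]
    congr 1
    have : S.filter (fun t => ¬ t < τ) = insert τ (S.filter (τ < ·)) := by
      ext t
      simp only [Finset.mem_filter, Finset.mem_insert, not_lt]
      constructor
      · rintro ⟨ht, hle⟩
        rcases hle.lt_or_eq with h | h
        · exact Or.inr ⟨ht, h⟩
        · exact Or.inl h.symm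
      · rintro (rfl | ⟨ht, h⟩)
        · exact ⟨hτS, le_rfl⟩
        · exact ⟨ht, h.le⟩
    rw [this, Finset.sum_insert (by simp)]
  omega

end Groth.AbvarAmple
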