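import Groth.Agent.AbvarAmple.IndexEstimate
import Groth.Agent.AbvarAmple.IndexRoots
import Groth.Agent.AbvarAmple.AmpleVanish
import Groth.Agent.Chow.AmpleTwist
import Groth.Agent.RelVA.PnData

/-!
# The index along the ray to an ample class
-/

universe u

open CategoryTheory Limits MonoidalCategory CartesianMonoidalCategory MonObj GrpObj AlgebraicGeometry
open Groth.PropsBasic.Ample (gloc)

namespace Groth.AbvarAmple

open Groth.Abvar Groth.Abvar.PicCalc

section AlgClosed

variable {k : Type u} [Field k] [IsAlgClosed k] {X : Over (Spec (CommRingCat.of k))} [GrpObj X]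
  [IsProper X.hom] [GeometricallyIntegral X.hom] {g : ℕ}

/-- The index along `c^a h^b` has the properties used to count roots. -/
theorem exists_indexData_of_isAlgClosed (hg : topologicalKrullDim X.left = g)
    (c : PicLoc.PicSet X.left) {H : X.left.Modules} (hH : CohB1.IsAmple H) {Φ : Polynomial ℚ}
    (hΦ : ∀ n : ℕ, Φ.eval (n : ℚ) = (chi (c * cls hH.1 ^ n) : ℚ)) :
    ∃ s : ℕ, IndexData g s (Φ.map (algebraMap ℚ ℝ))
      (fun a b i => 0 < a ∧ IsIdx (c ^ a * cls hH.1 ^ b) i) := by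
  obtain ⟨i₀, hi₀⟩ := Groth.Chow.exists_isRelVeryAmplePn X.hom hH
  obtain ⟨m, σ, hσ⟩ := RelVA.hasPnData_of_pn (hi₀ (i₀ + 3) (Nat.le_add_right _ _))
  have hsec : ∀ x : X.left, ∃ t : Γ(CohB1.tensorPow H (i₀ + 3), (⊤ : X.left.Opens)), x ∈ gloc t :=
    fun x => by
      obtain ⟨j, hj, -⟩ := hσ x
      exact ⟨σ j, hj⟩
  have hval : ∀ a b : ℕ, 0 < a →
      |(Φ.map (algebraMap ℚ ℝ)).eval ((b : ℝ) / a)| * (a : ℝ) ^ g =
        ((chi (c ^ a * cls hH.1 ^ b)).natAbs : ℝ) := fun a b ha => by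
    have h := congrArg (algebraMap ℚ ℝ) (chi_pow_mul_pow hg c (cls hH.1) hΦ ha b)
    rw [map_intCast, map_mul, map_pow, map_natCast, ← Polynomial.eval_map_apply, map_div₀,
      map_natCast, map_natCast] at h
    rw [Nat.cast_natAbs, Int.cast_abs, h, abs_mul, abs_pow, Nat.abs_cast, _root_.mul_comm]
  refine ⟨i₀ + 3, ⟨fun a b ha hne => ?_, fun a b i h => (h.2.inv hg).1,
    fun a b i i' h h' => h.2.eq h'.2, fun a b i n hn h => ⟨Nat.mul_pos hn h.1, ?_⟩,
    fun n r hnr => ?_, fun n hn => ?_, Nat.le_add_left _ _⟩⟩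
  · have hc : chi (c ^ a * cls hH.1 ^ b) ≠ 0 := fun h0 => by
      have h := hval a b ha
      rw [h0, Int.natAbs_zero, Nat.cast_zero] at h
      exact (mul_pos (abs_pos.2 hne) (pow_pos (Nat.cast_pos.2 ha) g)).ne' h
    obtain ⟨i, -, hi⟩ := exists_isIdx_of_chi_ne_zero hg hc
    exact ⟨i, ha, hi⟩
  · have h' := h.2.pow' hn
    rwa [mul_pow, ← pow_mul, ← pow_mul, _root_.mul_comm a, _root_.mul_comm b] at h'
  · obtain ⟨C, hC⟩ := exists_drop_estimate (c := c) hH.1 hsec hg hnr
    refine ⟨C, fun a b i ha hi hr hv => ?_⟩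
    rw [hval a b ha]
    exact_mod_cast hC a b i hi.2 hr fun l h1 h2 =>
      (hv l h1 h2).imp fun i'' h => ⟨h.1, h.2.2⟩
  · obtain ⟨C, hC⟩ := exists_rise_estimate (c := c) hH.1 hsec hg hn
    refine ⟨C, fun a b i i' ha hi hi' hne => ?_⟩
    rw [hval a (b + (i₀ + 3)) ha]
    exact_mod_cast hC a b i i' hi.2 hi'.2 hne

/-- Ample classes have index `0`. -/
theorem isIdx_zero_of_isAmple_of_isAlgClosed {H : X.left.Modules} (hH : CohB1.IsAmple H) :
    IsIdx (cls hH.1) 0 :=
  (isIdx_cls_iff X.hom hH.1 0).2 ⟨fun _ hj => subsingleton_HH_pos_of_isAmple hH (Nat.pos_of_ne_zero hj),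
    nontrivial_HH_zero_of_isAmple hH⟩

end AlgClosed

variable {k : Type u} [Field k] {X : Over (Spec (CommRingCat.of k))} [GrpObj X]
  [IsProper X.hom] [GeometricallyIntegral X.hom] {g : ℕ}

set_option backward.isDefEq.respectTransparency false in
/-- The index along `c^a h^b` has the properties used to count roots, over any field. -/
theorem exists_indexData (hg : topologicalKrullDim X.left = g)
    (c : PicLoc.PicSet X.left) {H : X.left.Modules} (hH : CohB1.IsAmple H) {Φ : Polynomial ℚ}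
    (hΦ : ∀ n : ℕ, Φ.eval (n : ℚ) = (chi (c * cls hH.1 ^ n) : ℚ)) :
    ∃ s : ℕ, IndexData g s (Φ.map (algebraMap ℚ ℝ))
      (fun a b i => 0 < a ∧ IsIdx (c ^ a * cls hH.1 ^ b) i) := by
  let K := AlgebraicClosure k
  let t : Spec (CommRingCat.of K) ⟶ Spec (CommRingCat.of k) :=
    Spec.map (CommRingCat.ofHom (algebraMap k K))
  let F := Over.pullback t
  let : GrpObj (F.obj X) := Functor.grpObjObj
  have : IsProper (F.obj X).hom := inferInstanceAs (IsProper (Limits.pullback.snd X.hom _))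
  have : GeometricallyIntegral (F.obj X).hom :=
    inferInstanceAs (GeometricallyIntegral (Limits.pullback.snd X.hom _))
  have hgK : topologicalKrullDim (F.obj X).left = g := (topologicalKrullDim_baseChange (X := X) K).trans hg
  let p : (F.obj X).left ⟶ X.left := Limits.pullback.fst X.hom t
  have : IsAffineHom p := MorphismProperty.pullback_fst _ _ inferInstance
  have hHK : CohB1.IsAmple ((Scheme.Modules.pullback p).obj H) :=
    Groth.Chow.isAmple_pullback_of_isAffineHom _ hH
  have hc : cls hHK.1 = pull p (cls hH.1) := (pull_cls p hH.1).symm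
  obtain ⟨s, hs⟩ := exists_indexData_of_isAlgClosed hgK (pull p c) hHK (Φ := Φ) fun n => by
    rw [hc, ← map_pow, ← map_mul]
    exact (hΦ n).trans (congrArg _ (chi_bc (X := X) K _).symm)
  refine ⟨s, ?_⟩
  convert hs using 4 with a b i
  rw [hc, ← map_pow, ← map_pow, ← map_mul]
  exact and_congr_right fun _ => (isIdx_bc_iff (X := X) K _ i).symm

set_option backward.isDefEq.respectTransparency false in
/-- Ample classes have index `0`. -/
theorem isIdx_zero_of_isAmple {H : X.left.Modules} (hH : CohB1.IsAmple H) :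
    IsIdx (cls hH.1) 0 := by
  let K := AlgebraicClosure k
  let t : Spec (CommRingCat.of K) ⟶ Spec (CommRingCat.of k) :=
    Spec.map (CommRingCat.ofHom (algebraMap k K))
  let F := Over.pullback t
  let : GrpObj (F.obj X) := Functor.grpObjObj
  have : IsProper (F.obj X).hom := inferInstanceAs (IsProper (Limits.pullback.snd X.hom _))
  have : GeometricallyIntegral (F.obj X).hom :=
    inferInstanceAs (GeometricallyIntegral (Limits.pullback.snd X.hom _))
  let p : (F.obj X).left ⟶ X.left := Limits.pullback.fst X.hom t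
  have : IsAffineHom p := MorphismProperty.pullback_fst _ _ inferInstance
  have hHK : CohB1.IsAmple ((Scheme.Modules.pullback p).obj H) :=
    Groth.Chow.isAmple_pullback_of_isAffineHom _ hH
  have h : IsIdx (cls hHK.1) 0 := isIdx_zero_of_isAmple_of_isAlgClosed hHK
  rw [show cls hHK.1 = pull p (cls hH.1) from (pull_cls p hH.1).symm] at h
  exact (isIdx_bc_iff (X := X) K _ 0).1 h

set_option backward.isDefEq.respectTransparency false in
/-- The inverse of an ample class has index `g`. -/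
theorem isIdx_inv_isAmple (hg : topologicalKrullDim X.left = g) {H : X.left.Modules}
    (hH : CohB1.IsAmple H) : IsIdx (cls hH.1)⁻¹ g := by
  obtain ⟨L', hL', hLL'⟩ := PicGrp.exists_eq_cls (cls hH.1)⁻¹
  obtain ⟨h1, h2⟩ := (isIdx_cls_iff X.hom hH.1 0).1 (isIdx_zero_of_isAmple hH)
  have e : Nonempty (CohB1.tensorMod H L' ≅ Coh.structureModule X.left) :=
    (nonempty_iso_structure_iff (isInvertible_tensorMod hH.1 hL')).2 (by
      rw [cls_tensorMod hH.1 hL', show cls hL' = _ from hLL'.symm, mul_inv_cancel])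
  obtain ⟨-, h3, h4⟩ := index_inverse hg hH.1 e 0 h1 h2
  rw [hLL']
  exact (isIdx_cls_iff X.hom hL' g).2 ⟨h3, h4⟩

/-- A high twist of any class is ample. -/
theorem exists_twist_isAmple_cls (c : PicLoc.PicSet X.left) {H : X.left.Modules}
    (hH : CohB1.IsAmple H) : ∃ n₀ : ℕ, 0 < n₀ ∧ ∀ n, n₀ ≤ n →
      ∃ (Q : X.left.Modules) (hQ : CohB1.IsAmple Q), cls hQ.1 = c * cls hH.1 ^ n := by
  obtain ⟨M, hM, rfl⟩ := PicGrp.exists_eq_cls c
  have : CompactSpace X.left := hH.2.1
  obtain ⟨n₀, h0, hn⟩ := Groth.Chow.exists_twist_isAmple hH hM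
  refine ⟨n₀, h0, fun n hle => ⟨_, (hn n hle).1, ?_⟩⟩
  rw [cls_tensorMod (isInvertible_tensorPow hH.1 n) hM, cls_tensorPow hH.1, _root_.mul_comm]

end Groth.AbvarAmple
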