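import Groth.Agent.AbvarAmple.HilbertIndex

/-!
# The roots of the Hilbert polynomial and the index
-/

universe u

open CategoryTheory Limits MonoidalCategory CartesianMonoidalCategory MonObj GrpObj AlgebraicGeometry

namespace Groth.AbvarAmple

open Groth.Abvar Groth.Abvar.PicCalc

variable {k : Type u} [Field k] {X : Over (Spec (CommRingCat.of k))} [GrpObj X]
  [IsProper X.hom] [GeometricallyIntegral X.hom]

omit [GrpObj X] [GeometricallyIntegral X.hom] in
/-- The Hilbert polynomial in terms of classes. -/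
theorem hilbert_hyp {L H : X.left.Modules} (hL : PicF.IsInvertible L) (hH : CohB1.IsAmple H)
    {Φ : Polynomial ℚ} (hΦ : ∀ n : ℕ, Φ.eval (n : ℚ) =
      (@Curv2.euler k _ X.left ⟨X.hom⟩ (CohB1.tensorMod L (CohB1.tensorPow H n)) : ℚ)) (n : ℕ) :
    Φ.eval (n : ℚ) = (chi (cls hL * cls hH.1 ^ n) : ℚ) := by
  rw [hΦ n, ← cls_tensorPow hH.1, ← cls_tensorMod hL (isInvertible_tensorPow hH.1 n), chi_cls]

/-- The value at `0`. -/
theorem eval_zero_ne_zero {c h : PicLoc.PicSet X.left} {Φ : Polynomial ℚ}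
    (hΦ : ∀ n : ℕ, Φ.eval (n : ℚ) = (chi (c * h ^ n) : ℚ)) {i : ℕ} (hi : IsIdx c i) :
    (Φ.map (algebraMap ℚ ℝ)).eval 0 ≠ 0 := by
  have h0 := hΦ 0
  rw [_root_.pow_zero, _root_.mul_one, Nat.cast_zero] at h0
  rw [← map_zero (algebraMap ℚ ℝ), Polynomial.eval_map_apply, h0, map_intCast, map_zero, Int.cast_ne_zero]
  exact hi.chi_ne_zero

/-- **A change of the index forces a root.** -/
theorem exists_root_of_index_ne {c : PicLoc.PicSet X.left} {H : X.left.Modules} (hH : CohB1.IsAmple H)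
    {Φ : Polynomial ℚ} (hΦ : ∀ n : ℕ, Φ.eval (n : ℚ) = (chi (c * cls hH.1 ^ n) : ℚ))
    {i i' : ℕ} (hi : IsIdx c i) (hi' : IsIdx (c * cls hH.1) i') (hne : i ≠ i') :
    ∃ t : ℝ, 0 ≤ t ∧ t ≤ 1 ∧ (Φ.map (algebraMap ℚ ℝ)).eval t = 0 := by
  obtain ⟨g, hg⟩ := Groth.FibreDim.exists_dim_eq_nat X
  obtain ⟨s, D⟩ := exists_indexData hg c hH hΦ
  by_contra hno
  push Not at hno
  refine hne (D.eq_of_no_root (a₀ := 1) (b₀ := 0) (a₁ := 1) (b₁ := 1) one_pos one_pos
    ⟨one_pos, by rwa [_root_.pow_one, _root_.pow_zero, _root_.mul_one]⟩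
    ⟨one_pos, by rwa [_root_.pow_one, _root_.pow_one]⟩ (by norm_num) fun t h1 h2 => ?_)
  norm_num at h1 h2
  exact hno t h1 h2

/-- **The index drops by at most the multiplicity of the root.** -/
theorem index_le_add_rootMultiplicity {c : PicLoc.PicSet X.left} {H : X.left.Modules}
    (hH : CohB1.IsAmple H) {Φ : Polynomial ℚ}
    (hΦ : ∀ n : ℕ, Φ.eval (n : ℚ) = (chi (c * cls hH.1 ^ n) : ℚ))
    {i i' : ℕ} (hi : IsIdx c i) (hi' : IsIdx (c * cls hH.1) i') {τ : ℝ} (hτ0 : 0 ≤ τ) (hτ1 : τ < 1)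
    (hτ : (Φ.map (algebraMap ℚ ℝ)).eval τ = 0)
    (huniq : ∀ t : ℝ, 0 ≤ t → t ≤ 1 → (Φ.map (algebraMap ℚ ℝ)).eval t = 0 → t = τ) :
    i ≤ i' + (Φ.map (algebraMap ℚ ℝ)).rootMultiplicity τ := by
  obtain ⟨g, hg⟩ := Groth.FibreDim.exists_dim_eq_nat X
  obtain ⟨s, D⟩ := exists_indexData hg c hH hΦ
  have h0 := eval_zero_ne_zero hΦ hi
  have hτpos : 0 < τ := lt_of_le_of_ne hτ0 fun h => h0 (by subst h; exact hτ)
  have hf : Φ.map (algebraMap ℚ ℝ) ≠ 0 := fun h => h0 (by rw [h, Polynomial.eval_zero])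
  refine D.le_add_rootMultiplicity hf (a₀ := 1) (b₀ := 0) (a₁ := 1) (b₁ := 1) one_pos one_pos
    ⟨one_pos, by rwa [_root_.pow_one, _root_.pow_zero, _root_.mul_one]⟩
    ⟨one_pos, by rwa [_root_.pow_one, _root_.pow_one]⟩ (by norm_num; exact hτpos)
    (by norm_num; exact hτ1) fun t h1 h2 => ?_
  norm_num at h1 h2
  exact huniq t h1 h2

open Polynomial in
/-- **All roots are real and the index counts the positive ones.** -/
theorem card_roots_and_index {g : ℕ} (hg : topologicalKrullDim X.left = g)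
    {c : PicLoc.PicSet X.left} {H : X.left.Modules}
    (hH : CohB1.IsAmple H) {Φ : Polynomial ℚ}
    (hΦ : ∀ n : ℕ, Φ.eval (n : ℚ) = (chi (c * cls hH.1 ^ n) : ℚ)) {i : ℕ} (hi : IsIdx c i) :
    Multiset.card (Φ.map (algebraMap ℚ ℝ)).roots = Φ.natDegree ∧ Φ.natDegree = g ∧
      i = Multiset.card ((Φ.map (algebraMap ℚ ℝ)).roots.filter (fun t => 0 < t)) := by
  classical
  obtain ⟨n₁, hn₁, htw₁⟩ := exists_twist_isAmple_cls c hH
  obtain ⟨n₂, -, htw₂⟩ := exists_twist_isAmple_cls c⁻¹ hH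
  let N := max n₁ n₂
  obtain ⟨Q₁, hQ₁, hQ₁c⟩ := htw₁ N (le_max_left _ _)
  obtain ⟨Q₂, hQ₂, hQ₂c⟩ := htw₂ N (le_max_right _ _)
  set h := cls hH.1
  let c' := c * (h ^ N)⁻¹
  have hc'0 : IsIdx c' g := by
    have := isIdx_inv_isAmple hg hQ₂
    rwa [hQ₂c, _root_.mul_inv, _root_.inv_inv] at this
  have hc'N : IsIdx (c' * h ^ N) i := by rwa [inv_mul_cancel_right]
  have hc'2 : IsIdx (c' * h ^ (N + N)) 0 := by
    have := isIdx_zero_of_isAmple hQ₁
    rwa [pow_add, ← _root_.mul_assoc, inv_mul_cancel_right, ← hQ₁c]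
  let Φ' := Φ.comp (Polynomial.X + Polynomial.C (-(N : ℚ)))
  have hΦ' : ∀ n : ℕ, Φ'.eval (n : ℚ) = (chi (c' * h ^ n) : ℚ) := by
    obtain ⟨p, -, hp⟩ := exists_poly_chi hg c' h
    suffices hp' : Φ' = p by intro n; rw [hp', hp]
    refine Polynomial.eq_of_infinite_eval_eq _ _ ((Set.infinite_range_of_injective
      (f := fun n : ℕ => ((N + n : ℕ) : ℚ)) fun a b e => by simpa using e).mono ?_)
    rintro _ ⟨n, rfl⟩
    show Φ'.eval _ = p.eval _
    rw [hp, pow_add, ← _root_.mul_assoc, inv_mul_cancel_right, ← hΦ]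
    simp [Φ']
  obtain ⟨s, D⟩ := exists_indexData hg c' hH hΦ'
  set f := Φ.map (algebraMap ℚ ℝ)
  set f' := Φ'.map (algebraMap ℚ ℝ)
  have hf' : f' = f.comp (Polynomial.C 1 * Polynomial.X + Polynomial.C (-(N : ℝ))) := by
    simp [f', f, Φ', Polynomial.map_comp]
  have hne : ∀ n : ℕ, ∀ j, IsIdx (c' * h ^ n) j → f'.eval (n : ℝ) ≠ 0 := fun n j hj => by
    rw [← map_natCast (algebraMap ℚ ℝ), Polynomial.eval_map_apply, hΦ' n, map_intCast, Int.cast_ne_zero]
    exact hj.chi_ne_zero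
  have hf0 : f' ≠ 0 := fun e => hne N i hc'N (by rw [e, Polynomial.eval_zero])
  let S := f'.roots.toFinset
  have hmem : ∀ t, f'.eval t = 0 → t ∈ S := fun t ht =>
    Multiset.mem_toFinset.2 ((Polynomial.mem_roots hf0).2 ht)
  have hsum : ∀ (p : ℝ → Prop) [DecidablePred p],
      ∑ t ∈ S.filter p, f'.rootMultiplicity t = Multiset.card (f'.roots.filter p) := fun p _ => by
    rw [← Multiset.toFinset_sum_count_eq, Multiset.toFinset_filter]
    refine Finset.sum_congr rfl fun t ht => ?_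
    rw [Multiset.count_filter_of_pos (Finset.mem_filter.1 ht).2, Polynomial.count_roots]
  have e₁ := D.le_add_sum hf0 (S.filter (· < (N : ℝ))) (a₀ := 1) (b₀ := 0) (a₁ := 1) (b₁ := N)
    one_pos one_pos ⟨one_pos, by rwa [_root_.pow_one, _root_.pow_zero, _root_.mul_one]⟩
    ⟨one_pos, by rwa [_root_.pow_one]⟩
    (by simpa using hne 0 g (by rwa [_root_.pow_zero, _root_.mul_one]))
    (by simpa using hne N i hc'N) (by simp) fun t h1 h2 h0 =>
      Finset.mem_filter.2 ⟨hmem t h0, by simpa using h2⟩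
  have e₂ := D.le_add_sum hf0 (S.filter ((N : ℝ) < ·)) (a₀ := 1) (b₀ := N) (a₁ := 1) (b₁ := N + N)
    one_pos one_pos ⟨one_pos, by rwa [_root_.pow_one]⟩ ⟨one_pos, by rwa [_root_.pow_one]⟩
    (by simpa using hne N i hc'N) (by simpa using hne (N + N) 0 hc'2)
    (by simp) fun t h1 h2 h0 => Finset.mem_filter.2 ⟨hmem t h0, by simpa using h1⟩
  rw [hsum, Nat.zero_add] at e₂
  rw [hsum] at e₁
  have e₃ : Multiset.card (f'.roots.filter (· < (N : ℝ))) +
      Multiset.card (f'.roots.filter ((N : ℝ) < ·)) ≤ Multiset.card f'.roots := by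
    refine le_trans (Nat.add_le_add_left (Multiset.card_le_card (t := f'.roots.filter
      fun t => ¬ t < (N : ℝ)) (Multiset.monotone_filter_right _ fun t ht => not_lt.2 ht.le)) _) ?_
    rw [← Multiset.card_add, Multiset.filter_add_not]
  have e₄ : Multiset.card f'.roots ≤ Φ.natDegree := by
    refine (Polynomial.card_roots' f').trans ?_
    rw [hf', Polynomial.natDegree_comp, Polynomial.natDegree_map]
    calc Φ.natDegree * _ ≤ Φ.natDegree * 1 := Nat.mul_le_mul_left _ (Polynomial.natDegree_linear_le)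
      _ = Φ.natDegree := Nat.mul_one _
  have e₅ := natDegree_hilbert_le hg c h hΦ
  have hroots : f.roots = f'.roots.map fun t => t - (N : ℝ) := by
    rw [hf']
    refine ((f.map_roots_comp_C_mul_X_add_C 1 (-(N : ℝ)) isUnit_one).symm).trans ?_
    simp [sub_eq_add_neg]
  refine ⟨?_, by omega, ?_⟩
  · rw [hroots, Multiset.card_map]
    omega
  · rw [hroots, Multiset.filter_map, Multiset.card_map]
    have : f'.roots.filter ((fun t : ℝ => 0 < t) ∘ fun t => t - (N : ℝ)) =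
        f'.roots.filter ((N : ℝ) < ·) := Multiset.filter_congr fun t _ => sub_pos
    rw [this]
    omega

end Groth.AbvarAmple
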