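import Groth.Agent.AbvarAmple.IndexExists
import Groth.Agent.AbVarMul.Consequences

/-!
# Families of classes on abelian varieties and their indices
-/

universe u

open CategoryTheory Limits MonoidalCategory CartesianMonoidalCategory MonObj GrpObj AlgebraicGeometry
open scoped TensorProduct
open TopologicalSpace

namespace Groth.AbvarAmple

section Below

open Groth.CohBase Groth.CohBase.CxRank
open CategoryTheory.Abelian (Ext)

section Space

variable {X : TopCat.{u}} {F : AbSheaf X} {U V : Opens X}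

theorem hVanish_sup_zero (hU : HVanish F 0 U) (hV : HVanish F 0 V) : HVanish F 0 (U ⊔ V) := by
  have hS := (Opens.mayerVietorisSquare U V).shortComplex_shortExact
  have hb : Subsingleton (Ext (Opens.mayerVietorisSquare U V).shortComplex.X₂ F 0) := by
    have : Subsingleton (Ext (freeOpen U) F 0) := hU
    have : Subsingleton (Ext (freeOpen V) F 0) := hV
    exact (Ext.biprodAddEquiv (X₁ := freeOpen U) (X₂ := freeOpen V)).toEquiv.subsingleton
  refine subsingleton_of_forall_eq 0
    fun (x : Ext (Opens.mayerVietorisSquare U V).shortComplex.X₃ F 0) => ?_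
  obtain ⟨φ, rfl⟩ := Ext.addEquiv₀.symm.surjective x
  have h0 : (Ext.mk₀ (Opens.mayerVietorisSquare U V).shortComplex.g).comp (Ext.mk₀ φ)
      (zero_add 0) = 0 := hb.elim _ _
  rw [Ext.mk₀_comp_mk₀] at h0
  have hφ : φ = 0 := by
    have := hS.epi_g
    rw [← cancel_epi (Opens.mayerVietorisSquare U V).shortComplex.g, Limits.comp_zero]
    exact (Ext.mk₀_bijective _ _).1 (h0.trans (Ext.mk₀_zero _ _).symm)
  rw [hφ, map_zero]
  rfl

end Space

variable {X S : Scheme.{u}} (f : X ⟶ S) [IsProper f] [LocallyOfFinitePresentation f]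
  [HasInjectiveResolutions X.Modules] {M : X.Modules} [M.IsQuasicoherent] (hM : CohB1.IsFP M)
  (hfl : FlatMod.IsFlatOver f M)

include hM hfl in
/-- A family whose fibres are acyclic below degree `r` has no cohomology below degree `r`. -/
theorem subsingleton_HH_of_fibres_below [CompactSpace S] [QuasiSeparatedSpace S] (r : ℕ)
    (h : ∀ p, p < r → ∀ y : S, Subsingleton (CohIII.fiberH f M y p)) (n : ℕ) (hn : n < r) :
    Subsingleton (Coh.HH X M n) := by
  have key : ∀ n, n < r → HVanish (X := X.toTopCat) (abSheaf M) n (f ⁻¹ᵁ (⊤ : S.Opens)) := by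
    refine qcqs_induction (fun W => ∀ n, n < r → HVanish (X := X.toTopCat) (abSheaf M) n (f ⁻¹ᵁ W))
      (fun V hV n hn => ?_) (fun U V _ _ hU hV hUV n hn => ?_) (⊤ : S.Opens) isCompact_univ
    · obtain ⟨L, hL⟩ := exists_isModel_fp f M hM hfl hV
      exact hVanish_preimage_of_Hk f hM hfl hV hL n (hL.subsingleton_Hk hV n fun y _ => h n hn y)
    · rw [Scheme.Hom.preimage_sup]
      cases n with
      | zero => exact hVanish_sup_zero (X := X.toTopCat) (U := f ⁻¹ᵁ U) (V := f ⁻¹ᵁ V) (hU 0 hn) (hV 0 hn)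
      | succ n =>
        have h' := hUV n (Nat.lt_of_succ_lt hn)
        rw [Scheme.Hom.preimage_inf] at h'
        exact hVanish_sup (X := X.toTopCat) (U := f ⁻¹ᵁ U) (V := f ⁻¹ᵁ V) h' (hU _ hn) (hV _ hn)
  exact @Equiv.subsingleton _ _ (equivHTop (abSheaf M) n).toEquiv (key n hn)

end Below

open Groth.Abvar Groth.Abvar.PicCalc

/-- The classes whose cohomology vanishes in one degree. -/
def CHV {X : Scheme.{u}} (c : PicLoc.PicSet X) (n : ℕ) : Prop :=
  ∀ (L : X.Modules) (hL : PicF.IsInvertible L), cls hL = c → Subsingleton (Coh.HH X L n)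

/-- Cohomology in one degree only. -/
def IsIdx {X : Scheme.{u}} (c : PicLoc.PicSet X) (i : ℕ) : Prop :=
  (∀ j, j ≠ i → CHV c j) ∧ ¬ CHV c i

theorem IsIdx.eq {X : Scheme.{u}} {c : PicLoc.PicSet X} {i i' : ℕ} (h : IsIdx c i)
    (h' : IsIdx c i') : i = i' :=
  by_contra fun hne => h.2 (h'.1 i hne)

theorem chv_cls_iff {A : Type u} [CommRing A] {X : Scheme.{u}} (q : X ⟶ Spec (CommRingCat.of A))
    {L : X.Modules} (hL : PicF.IsInvertible L) (n : ℕ) :
    CHV (cls hL) n ↔ Subsingleton (Coh.HH X L n) := by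
  refine ⟨fun h => h L hL rfl, fun h M hM hMc => ?_⟩
  obtain ⟨e⟩ := (nonempty_iso_iff hM hL).2 hMc
  exact PnCoh.subsingleton_HH_of_iso q e.symm h

theorem chv_pull_iff {A : Type u} [CommRing A] {X Y : Scheme.{u}} (f : X ⟶ Y) [IsIso f]
    (q : X ⟶ Spec (CommRingCat.of A)) (c : PicLoc.PicSet Y) (n : ℕ) :
    CHV (pull f c) n ↔ CHV c n := by
  obtain ⟨L, hL, rfl⟩ := PicGrp.exists_eq_cls c
  rw [pull_cls f hL, chv_cls_iff q, chv_cls_iff (inv f ≫ q)]
  exact subsingleton_HH_pullback_iff f q L n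

variable {k : Type u} [Field k] {A B : Over (Spec (CommRingCat.of k))}

/-- The cohomology of a product class vanishes in a degree exactly when it does factorwise. -/
theorem chv_box_iff [IsProper A.hom] [IsProper B.hom] (b : PicLoc.PicSet A.left)
    (a : PicLoc.PicSet B.left) (n : ℕ) :
    CHV (opull (fst A B) b * opull (snd A B) a) n ↔ ∀ p q, p + q = n → CHV b p ∨ CHV a q := by
  obtain ⟨L, hL, rfl⟩ := PicGrp.exists_eq_cls b
  obtain ⟨M, hM, rfl⟩ := PicGrp.exists_eq_cls a
  let : A.left.Over (Spec (CommRingCat.of k)) := ⟨A.hom⟩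
  let : B.left.Over (Spec (CommRingCat.of k)) := ⟨B.hom⟩
  have : L.IsQuasicoherent := (EulerDeg.isCoh_of_isInvertible hL).1
  have : M.IsQuasicoherent := (EulerDeg.isCoh_of_isInvertible hM).1
  have : CompactSpace A.left := CohFin.compactSpace_of_proper A.hom
  have : A.left.IsSeparated := CohFin.isSeparated_of_proper A.hom
  have : CompactSpace B.left := CohFin.compactSpace_of_proper B.hom
  have : B.left.IsSeparated := CohFin.isSeparated_of_proper B.hom
  obtain ⟨C⟩ := CohBase.exists_goodCover A.left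
  obtain ⟨D⟩ := CohBase.exists_goodCover B.left
  obtain ⟨e⟩ := CohBase.Kunneth.nonempty_kunneth C D _ _
    (show IsPullback (fst A B).left (snd A B).left (A.left ↘ Spec (CommRingCat.of k))
      (B.left ↘ Spec (CommRingCat.of k)) from IsPullback.of_hasPullback A.hom B.hom) L M
    (Inter.isFlatOver_field k (A.left ↘ Spec (CommRingCat.of k)) L) (fun _ => inferInstance) n
  have h1 := PicLoc.isInvertible_pullback (fst A B).left hL
  have h2 := PicLoc.isInvertible_pullback (snd A B).left hM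
  rw [show opull (fst A B) (PicGrp.cls L hL) * opull (snd A B) (PicGrp.cls M hM) =
    cls (isInvertible_tensorMod h1 h2) by rw [cls_tensorMod h1 h2, ← pull_cls _ hL, ← pull_cls _ hM],
    chv_cls_iff (A ⊗ B).hom]
  refine Iff.trans ?_ (forall_congr' fun p => forall_congr' fun q => imp_congr_right fun _ =>
    Iff.or (chv_cls_iff A.hom hL p).symm (chv_cls_iff B.hom hM q).symm)
  constructor
  · intro hs p q hpq
    have hsum := @Equiv.subsingleton _ _ e.symm.toEquiv hs
    have ht : Subsingleton (Coh.HH A.left L p ⊗[k] Coh.HH B.left M q) :=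
      (DirectSum.of_injective (β := fun pq : Finset.HasAntidiagonal.antidiagonal n =>
        Coh.HH A.left L pq.1.1 ⊗[k] Coh.HH B.left M pq.1.2)
        ⟨(p, q), Finset.HasAntidiagonal.mem_antidiagonal.2 hpq⟩).subsingleton
    rcases subsingleton_or_nontrivial (Coh.HH B.left M q) with hb | hb
    · exact Or.inr hb
    · exact Or.inl (Module.FaithfullyFlat.rTensor_reflects_triviality k (Coh.HH B.left M q) _)
  · intro h
    have : ∀ pq : Finset.HasAntidiagonal.antidiagonal n,
        Subsingleton (Coh.HH A.left L pq.1.1 ⊗[k] Coh.HH B.left M pq.1.2) := fun pq => by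
      rcases h pq.1.1 pq.1.2 (Finset.HasAntidiagonal.mem_antidiagonal.1 pq.2) with h | h
      · have := h
        infer_instance
      · have := h
        infer_instance
    exact e.toEquiv.subsingleton

variable [IsAlgClosed k] [GrpObj B] [IsProper A.hom] [IsProper B.hom]
  [GeometricallyIntegral A.hom] [GeometricallyIntegral B.hom]

/-- If a family of classes is acyclic below degree `r` then so is the product of the classes it is
built from. -/
theorem chv_or_of_family (f : A ⟶ B) (a : PicLoc.PicSet B.left) (b : PicLoc.PicSet A.left) (r : ℕ)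
    (h : ∀ (y : 𝟙_ (Over (Spec (CommRingCat.of k))) ⟶ B) (j : ℕ), j < r →
      CHV (b * opull (f * (toUnit A ≫ y)) a) j)
    {p q : ℕ} (hpq : p + q < r) : CHV b p ∨ CHV a q := by
  have := Groth.GrpschAbsch.isCommMonObj_of_isProper B
  let σ : A ⊗ B ⟶ A ⊗ B := lift (fst A B) ((fst A B ≫ f) * snd A B)
  let τ : A ⊗ B ⟶ A ⊗ B := lift (fst A B) ((fst A B ≫ f)⁻¹ * snd A B)
  have hστ : σ ≫ τ = 𝟙 _ := by
    apply CartesianMonoidalCategory.hom_ext <;>
      simp [σ, τ, MonObj.comp_mul, GrpObj.comp_inv]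
  have hτσ : τ ≫ σ = 𝟙 _ := by
    apply CartesianMonoidalCategory.hom_ext <;>
      simp [σ, τ, MonObj.comp_mul]
  have : IsIso σ := ⟨τ, hστ, hτσ⟩
  have : IsIso σ.left := (inferInstance : IsIso ((Over.forget _).map σ))
  obtain ⟨G, hG, hGc⟩ := PicGrp.exists_eq_cls (opull σ (opull (fst A B) b * opull (snd A B) a))
  have hGc' : cls hG = opull σ (opull (fst A B) b * opull (snd A B) a) := hGc.symm
  have hq : IsPullback (fst A B).left (snd A B).left A.hom B.hom := IsPullback.of_hasPullback _ _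
  have : IsProper (snd A B).left := MorphismProperty.of_isPullback hq ‹IsProper A.hom›
  have : Flat (snd A B).left := MorphismProperty.of_isPullback hq (inferInstance : Flat A.hom)
  have : IsLocallyNoetherian B.left := LocallyOfFiniteType.isLocallyNoetherian B.hom
  have : CompactSpace B.left := CohFin.compactSpace_of_proper B.hom
  have : IsNoetherian B.left := {}
  have : IsLocallyNoetherian (A ⊗ B).left :=
    LocallyOfFiniteType.isLocallyNoetherian (snd A B).left
  have := Seesaw.locallyOfFinitePresentation_of_isNoetherian (snd A B).left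
  have hcoh := EulerDeg.isCoh_of_isInvertible hG
  have : G.IsQuasicoherent := hcoh.1
  have hFP := Groth.FlatStrata.isFP_of_isCoh hcoh
  have hflat := Seesaw.isFlatOver_of_isInvertible (snd A B).left hG
  have hfib : ∀ j, j < r → ∀ y : B.left, Subsingleton (CohIII.fiberH (snd A B).left G y j) := by
    intro j hj y
    by_contra hy
    have := LocallyOfFiniteType.jacobsonSpace B.hom
    obtain ⟨z, hz, hzc⟩ := nonempty_inter_closedPoints (Z := {y : B.left |
      Subsingleton (CohIII.fiberH (snd A B).left G y j)}ᶜ) ⟨y, hy⟩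
      (CohBase.isOpen_subsingleton_fiberH (snd A B).left hFP hflat j).isClosed_compl.isLocallyClosed
    obtain ⟨s, rfl⟩ := exists_rationalPoint B hzc
    have Hs : IsPullback (lift (𝟙 A) (toUnit A ≫ s)).left A.hom (snd A B).left s.left := by
      refine IsPullback.of_right (t := hq) (p := ?_) (s := ?_)
      rotate_left
      · refine (congrArg Over.Hom.left (lift_snd (𝟙 A) (toUnit A ≫ s))).trans ?_
        rw [Over.comp_left, Over.toUnit_left]
      · rw [show (lift (𝟙 A) (toUnit A ≫ s)).left ≫ (fst A B).left = 𝟙 _ from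
          congrArg Over.Hom.left (lift_fst (𝟙 A) (toUnit A ≫ s)),
          show s.left ≫ B.hom = 𝟙 _ from Over.w s]
        exact IsPullback.of_id_fst
    refine hz ((subsingleton_fiberH_iff_of_isPullback s Hs G j).2 ?_)
    have he : lift (𝟙 A) (toUnit A ≫ s) ≫ σ = lift (𝟙 A) (f * (toUnit A ≫ s)) := by
      apply CartesianMonoidalCategory.hom_ext <;> simp [σ, MonObj.comp_mul]
    refine (chv_cls_iff A.hom (PicLoc.isInvertible_pullback _ hG) j).1 ?_
    rw [← pull_cls _ hG, hGc']
    change CHV (opull (lift (𝟙 A) (toUnit A ≫ s)) (opull σ _)) j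
    rw [← opull_comp, he, map_mul, ← opull_comp, ← opull_comp, lift_fst, lift_snd, opull_id]
    exact h s j hj
  have hs := subsingleton_HH_of_fibres_below (snd A B).left hFP hflat r hfib (p + q) hpq
  rw [← chv_cls_iff (A ⊗ B).hom hG, hGc'] at hs
  exact (chv_box_iff b a (p + q)).1 ((chv_pull_iff σ.left (A ⊗ B).hom _ _).1 hs) p q rfl

/-- Vanishing below a degree descends along a surjective map commuting with translations. -/
theorem chv_of_pullback [GrpObj A] (f : A ⟶ B) (a : PicLoc.PicSet B.left)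
    (htr : ∀ y : 𝟙_ (Over (Spec (CommRingCat.of k))) ⟶ B, ∃ x : 𝟙_ (Over (Spec (CommRingCat.of k))) ⟶ A,
      (𝟙 A * (toUnit A ≫ x)) ≫ f = f * (toUnit A ≫ y))
    (r : ℕ) (h : ∀ j, j < r → CHV (opull f a) j) {q : ℕ} (hq : q < r) : CHV a q := by
  have := Groth.GrpschAbsch.isCommMonObj_of_isProper A
  refine (chv_or_of_family f a 1 r (fun y j hj => ?_) (p := 0) (q := q) (by simpa using hq)).resolve_left
    fun h0 => ?_
  · obtain ⟨x, hx⟩ := htr y
    have := Groth.AbVarMul.isIso_translate_left (A := A) x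
    rw [_root_.one_mul, ← hx, opull_comp]
    exact (chv_pull_iff (𝟙 A * (toUnit A ≫ x)).left A.hom _ _).2 (h j hj)
  · exact not_subsingleton_iff_nontrivial.2 nontrivial_HH_structure
      (h0 _ (PicLoc.isInvertible_structureModule A.left) PicGrp.cls_structureModule_eq_one)

omit [GeometricallyIntegral A.hom] [GeometricallyIntegral B.hom] in
/-- Every translation downstairs lifts along a surjective homomorphism. -/
theorem exists_translate_lift [GrpObj A] (f : A ⟶ B) [IsMonHom f] [Surjective f.left]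
    (y : 𝟙_ (Over (Spec (CommRingCat.of k))) ⟶ B) : ∃ x : 𝟙_ (Over (Spec (CommRingCat.of k))) ⟶ A,
      (𝟙 A * (toUnit A ≫ x)) ≫ f = f * (toUnit A ≫ y) := by
  have := LocallyOfFiniteType.jacobsonSpace A.hom
  have hc : IsClosed ({pt y} : Set B.left) := by
    have : IsClosedImmersion y.left := isClosedImmersion_of_comp_eq_id B.hom y.left (Over.w y)
    rw [← range_eq y]
    exact y.left.isClosedEmbedding.isClosed_range
  obtain ⟨a, ha⟩ := f.left.surjective (pt y)
  obtain ⟨z, hz, hzc⟩ := nonempty_inter_closedPoints (Z := f.left.base ⁻¹' {pt y}) ⟨a, ha⟩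
    (hc.preimage f.left.continuous).isLocallyClosed
  obtain ⟨x, rfl⟩ := exists_rationalPoint A hzc
  refine ⟨x, ?_⟩
  have hxy : x ≫ f = y := Over.OverMorphism.ext (ext_of_apply_closedPoint_eq B.hom (f := (x ≫ f).left) (g := y.left)
    (Over.w _) (Over.w _) (by simpa [pt] using hz))
  rw [MonObj.mul_comp, Category.id_comp, Category.assoc, hxy]

/-- Concentrated cohomology forces finite stabiliser. -/
theorem IsIdx.finite_fixed [GrpObj A] {c : PicLoc.PicSet A.left} {i : ℕ} (h : IsIdx c i) :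
    {a : 𝟙_ (Over (Spec (CommRingCat.of k))) ⟶ A | opull (𝟙 A * (toUnit A ≫ a)) c = c}.Finite := by
  obtain ⟨L, hL, rfl⟩ := PicGrp.exists_eq_cls c
  exact finite_fixed_of_concentrated hL i (fun j hj => (chv_cls_iff A.hom hL j).1 (h.1 j hj))
    (not_subsingleton_iff_nontrivial.1 fun hs => h.2 ((chv_cls_iff A.hom hL i).2 hs))

/-- The index of a nondegenerate class and of its inverse. -/
theorem exists_isIdx [GrpObj A] {g : ℕ} (hg : topologicalKrullDim A.left = g)
    {c : PicLoc.PicSet A.left}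
    (hfix : {a : 𝟙_ (Over (Spec (CommRingCat.of k))) ⟶ A | opull (𝟙 A * (toUnit A ≫ a)) c = c}.Finite) :
    ∃ i, i ≤ g ∧ IsIdx c i ∧ IsIdx c⁻¹ (g - i) := by
  obtain ⟨L, hL, rfl⟩ := PicGrp.exists_eq_cls c
  obtain ⟨L', hL', hLL'⟩ := PicGrp.exists_eq_cls (PicGrp.cls L hL)⁻¹
  obtain ⟨i, h1, h2, h3, h4, h5⟩ := exists_index hg hL hL' hLL'.symm hfix
  refine ⟨i, h1, ⟨fun j hj => (chv_cls_iff A.hom hL j).2 (h2 j hj), fun h => ?_⟩, hLL' ▸ ⟨fun j hj =>
    (chv_cls_iff A.hom hL' j).2 (h4 j hj), fun h => ?_⟩⟩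
  · exact not_subsingleton_iff_nontrivial.2 h3 ((chv_cls_iff A.hom hL i).1 h)
  · exact not_subsingleton_iff_nontrivial.2 h5 ((chv_cls_iff A.hom hL' _).1 h)

/-- The index of the inverse. -/
theorem IsIdx.inv [GrpObj A] {g : ℕ} (hg : topologicalKrullDim A.left = g)
    {c : PicLoc.PicSet A.left} {i : ℕ} (h : IsIdx c i) : i ≤ g ∧ IsIdx c⁻¹ (g - i) := by
  obtain ⟨i', h1, h2, h3⟩ := exists_isIdx hg h.finite_fixed
  obtain rfl := h.eq h2
  exact ⟨h1, h3⟩

/-- Comparison of indices along a surjective map commuting with translations. -/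
theorem eq_of_isIdx_pullback [GrpObj A] (f : A ⟶ B) (a : PicLoc.PicSet B.left)
    (htr : ∀ y : 𝟙_ (Over (Spec (CommRingCat.of k))) ⟶ B, ∃ x : 𝟙_ (Over (Spec (CommRingCat.of k))) ⟶ A,
      (𝟙 A * (toUnit A ≫ x)) ≫ f = f * (toUnit A ≫ y))
    {g i i' : ℕ} (hi : IsIdx a i) (hj : IsIdx a⁻¹ (g - i)) (hi' : IsIdx (opull f a) i')
    (hj' : IsIdx (opull f a)⁻¹ (g - i')) (hle : i ≤ g) (hle' : i' ≤ g) : i' = i := by
  rcases lt_trichotomy i i' with h | h | h
  · exact absurd (chv_of_pullback f a htr i' (fun j hj => hi'.1 j hj.ne) h) hi.2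
  · exact h.symm
  · refine absurd (chv_of_pullback f a⁻¹ htr (g - i') (fun j hj => ?_) (q := g - i) (by omega)) hj.2
    rw [map_inv]
    exact hj'.1 j hj.ne

/-- The kernel of pullback along an isogeny on translation differences is finite. -/
theorem finite_fixed_pullback [GrpObj A] (f : A ⟶ B) [IsMonHom f] [IsFinite f.left] [Surjective f.left]
    {a : PicLoc.PicSet B.left}
    (hfix : {y : 𝟙_ (Over (Spec (CommRingCat.of k))) ⟶ B | opull (𝟙 B * (toUnit B ≫ y)) a = a}.Finite) :
    {x : 𝟙_ (Over (Spec (CommRingCat.of k))) ⟶ A |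
      opull (𝟙 A * (toUnit A ≫ x)) (opull f a) = opull f a}.Finite := by
  have := Groth.GrpschAbsch.isCommMonObj_of_isProper B
  have := Groth.GrpschAbsch.isCommMonObj_of_isProper A
  obtain ⟨H, hH⟩ := Groth.AbVarMul.exists_isAmple (A := B)
  have hK := finite_fixed (Groth.Chow.isAmple_pullback_of_isAffineHom f.left hH)
  rw [show cls (Groth.Chow.isAmple_pullback_of_isAffineHom f.left hH).1 = opull f (cls hH.1) from
    (pull_cls _ hH.1).symm] at hK
  have hcomm : ∀ x, (𝟙 A * (toUnit A ≫ x)) ≫ f = f ≫ (𝟙 B * (toUnit B ≫ (x ≫ f))) := fun x => by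
    rw [comp_mul_const, MonObj.mul_comp, Category.id_comp, Category.assoc]
  have hinj : ∀ x x' : 𝟙_ (Over (Spec (CommRingCat.of k))) ⟶ A, x ≫ f = x' ≫ f → ∃ z, z ≫ f = 1 ∧ x = x' * z := fun x x' hxx => by
    refine ⟨x'⁻¹ * x, ?_, by rw [mul_inv_cancel_left]⟩
    rw [MonObj.mul_comp, GrpObj.inv_comp, hxx, inv_mul_cancel]
  -- invariant classes killed by `f`
  let C : Set (PicLoc.PicSet B.left) :=
    (fun x => opull (𝟙 B * (toUnit B ≫ (x ≫ f))) (cls hH.1) / cls hH.1) '' {x | opull (𝟙 A * (toUnit A ≫ x)) (opull f (cls hH.1)) = opull f (cls hH.1)}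
  have hC : C.Finite := hK.image _
  have hker : ∀ y, opull f (opull (𝟙 B * (toUnit B ≫ y)) a / a) = 1 →
      opull (𝟙 B * (toUnit B ≫ y)) a / a ∈ C := by
    intro y hy
    obtain ⟨z, hz⟩ := exists_translate_eq_mul (cls hH.1) (finite_fixed hH)
      (opull (𝟙 B * (toUnit B ≫ y)) a / a) (fun b => translate_div_invariant a y b)
    obtain ⟨x, hx⟩ := exists_translate_lift f z
    have hxz : x ≫ f = z := by
      have h := congrArg ((1 : 𝟙_ (Over (Spec (CommRingCat.of k))) ⟶ A) ≫ ·) (hx.symm.trans (hcomm x))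
      simp only [MonObj.comp_mul, MonObj.one_comp, _root_.one_mul, Category.comp_id,
        ← Category.assoc, toUnit_unique ((1 : 𝟙_ (Over (Spec (CommRingCat.of k))) ⟶ A) ≫ toUnit A) (𝟙 _),
        Category.id_comp, toUnit_unique ((1 : 𝟙_ (Over (Spec (CommRingCat.of k))) ⟶ B) ≫ toUnit B) (𝟙 _)] at h
      exact h.symm
    refine ⟨x, ?_, ?_⟩
    · show opull (𝟙 A * (toUnit A ≫ x)) (opull f (cls hH.1)) = opull f (cls hH.1)
      rw [← opull_comp, hcomm, hxz, opull_comp, hz, map_mul, hy, _root_.mul_one]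
    · show opull (𝟙 B * (toUnit B ≫ (x ≫ f))) (cls hH.1) / cls hH.1 = _
      rw [hxz, hz, mul_div_cancel_left]
  -- points with translation difference in `C`
  let D : Set (𝟙_ (Over (Spec (CommRingCat.of k))) ⟶ B) :=
    {y | opull (𝟙 B * (toUnit B ≫ y)) a / a ∈ C}
  have hD : D.Finite := by
    refine Set.Finite.of_finite_fibers (fun y => opull (𝟙 B * (toUnit B ≫ y)) a / a)
      (hC.subset (Set.image_subset_iff.2 fun y hy => hy)) fun c _ => ?_
    rcases Set.eq_empty_or_nonempty (D ∩ (fun y => opull (𝟙 B * (toUnit B ≫ y)) a / a) ⁻¹' {c}) with h | ⟨y₀, -, hy₀⟩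
    · rw [h]; exact Set.finite_empty
    · refine (hfix.image (fun w => w * y₀)).subset ?_
      rintro y ⟨-, hy⟩
      refine ⟨y * y₀⁻¹, ?_, inv_mul_cancel_right _ _⟩
      show opull (𝟙 B * (toUnit B ≫ (y * y₀⁻¹))) a = a
      have he : opull (𝟙 B * (toUnit B ≫ y)) a = opull (𝟙 B * (toUnit B ≫ y₀)) a :=
        div_left_inj.1 (hy.trans hy₀.symm)
      rw [_root_.mul_comm y y₀⁻¹, ← translate_comp, opull_comp, he, ← opull_comp, translate_comp, inv_mul_cancel, translate_one,
        opull_id]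
  have hker' : {z : 𝟙_ (Over (Spec (CommRingCat.of k))) ⟶ A | z ≫ f = 1}.Finite :=
    Groth.AbVarMul.finite_ker_of_isFinite f
  refine Set.Finite.of_finite_fibers (fun x => x ≫ f) (hD.subset ?_) fun y _ => ?_
  · rintro _ ⟨x, hx, rfl⟩
    apply hker
    rw [map_div, ← opull_comp, ← hcomm, opull_comp, div_eq_one]
    exact hx
  · rcases Set.eq_empty_or_nonempty ({x : 𝟙_ (Over (Spec (CommRingCat.of k))) ⟶ A |
        opull (𝟙 A * (toUnit A ≫ x)) (opull f a) = opull f a} ∩ (fun x => x ≫ f) ⁻¹' {y}) with h | ⟨x₀, -, hx₀⟩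
    · rw [h]; exact Set.finite_empty
    · refine (hker'.image (fun w => x₀ * w)).subset ?_
      rintro x ⟨-, hx⟩
      obtain ⟨z, hz, hzx⟩ := hinj x x₀ (hx.trans hx₀.symm)
      exact ⟨z, hz, hzx.symm⟩

/-- An isogeny preserves the index. -/
theorem IsIdx.pullback [GrpObj A] (f : A ⟶ B) [IsMonHom f] [IsFinite f.left] [Surjective f.left]
    {g : ℕ} (hgA : topologicalKrullDim A.left = g) {a : PicLoc.PicSet B.left} {i : ℕ}
    (h : IsIdx a i) : IsIdx (opull f a) i := by
  have hgB : topologicalKrullDim B.left = g := by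
    rw [← Groth.AbVarMul.topologicalKrullDim_eq_of_finite_surjective f.left, hgA]
  obtain ⟨h1, h2⟩ := h.inv hgB
  obtain ⟨i', h1', h2', h3'⟩ := exists_isIdx hgA (finite_fixed_pullback f h.finite_fixed)
  obtain rfl := eq_of_isIdx_pullback f a (exists_translate_lift f) h h2 h2' h3' h1 h1'
  exact h2'

end Groth.AbvarAmple
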