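import Groth.Agent.AbvarAmple.ChiClass
import Groth.Agent.AbvarAmple.DropBound

/-!
# Mumford's estimates for `χ` next to a change of the index
-/

universe u

open CategoryTheory Limits MonoidalCategory CartesianMonoidalCategory MonObj GrpObj AlgebraicGeometry
open Groth.PropsBasic.Ample (gloc)

namespace Groth.AbvarAmple

open Groth.Abvar Groth.Abvar.PicCalc

variable {k : Type u} [Field k] [IsAlgClosed k] {X : Over (Spec (CommRingCat.of k))} [GrpObj X]
  [IsProper X.hom] [GeometricallyIntegral X.hom] {g : ℕ}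

omit [GrpObj X] [GeometricallyIntegral X.hom] in
/-- The twists of the structure module represent the products of powers. -/
theorem finrank_twPow_structure {L H : X.left.Modules} (hL : PicF.IsInvertible L)
    (hH : PicF.IsInvertible H) (a b : ℕ) {i : ℕ} (h : IsIdx (cls hL ^ a * cls hH ^ b) i) :
    letI : X.left.Over (Spec (CommRingCat.of k)) := ⟨X.hom⟩
    (chi (cls hL ^ a * cls hH ^ b)).natAbs =
        Module.finrank k (Coh.HH X.left (twPow L H (Coh.structureModule X.left) a b) i) ∧
      ∀ j, j ≠ i →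
        Module.finrank k (Coh.HH X.left (twPow L H (Coh.structureModule X.left) a b) j) = 0 := by
  letI : X.left.Over (Spec (CommRingCat.of k)) := ⟨X.hom⟩
  have hI : PicF.IsInvertible (twPow L H (Coh.structureModule X.left) a b) :=
    isInvertible_tensorMod (PicLoc.isInvertible_structureModule _)
      (isInvertible_tensorMod (isInvertible_tensorPow hL a) (isInvertible_tensorPow hH b))
  have hc : cls hI = cls hL ^ a * cls hH ^ b := by
    rw [cls_tensorMod (PicLoc.isInvertible_structureModule _)
        (isInvertible_tensorMod (isInvertible_tensorPow hL a) (isInvertible_tensorPow hH b)),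
      show cls (PicLoc.isInvertible_structureModule X.left) = 1 from PicGrp.cls_structureModule_eq_one,
      _root_.one_mul, cls_tensorMod (isInvertible_tensorPow hL a) (isInvertible_tensorPow hH b),
      cls_tensorPow hL, cls_tensorPow hH]
  rw [← hc] at h ⊢
  obtain ⟨h1, -, h3⟩ := h.natAbs_chi hI
  exact ⟨h1, h3⟩

variable {c : PicLoc.PicSet X.left} {H : X.left.Modules} (hH : PicF.IsInvertible H) {s : ℕ}
  (hsec : ∀ x : X.left, ∃ t : Γ(CohB1.tensorPow H s, (⊤ : X.left.Opens)), x ∈ gloc t)
  (hg : topologicalKrullDim X.left = g)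
include hsec hg

/-- Just before the index drops by `r`, `χ` grows at most like the `(g - r)`-th power. -/
theorem exists_drop_estimate {n r : ℕ} (hnr : n + r = g) :
    ∃ C : ℕ, ∀ a b i : ℕ, IsIdx (c ^ a * cls hH ^ b) i → r ≤ i →
      (∀ l, 1 ≤ l → l ≤ r → ∃ i'', i'' + r ≤ i ∧ IsIdx (c ^ a * cls hH ^ (b + l * s)) i'') →
      (chi (c ^ a * cls hH ^ b)).natAbs ≤ C * (a + b + 1) ^ n := by
  obtain ⟨L, hL, rfl⟩ := PicGrp.exists_eq_cls c
  let : X.left.Over (Spec (CommRingCat.of k)) := ⟨X.hom⟩
  have : IsProper (X.left ↘ Spec (CommRingCat.of k)) := ‹IsProper X.hom›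
  have : Infinite k := IsAlgClosed.instInfinite
  have hd : topologicalKrullDim (CohB1.support (Coh.structureModule X.left)) ≤ ((n + r : ℕ) : WithBot ℕ∞) := by
    refine (LocCohTransform.topologicalKrullDim_mono (Set.subset_univ _)).trans ?_
    rw [(Homeomorph.Set.univ X.left).isHomeomorph.topologicalKrullDim_eq, hg, hnr]
  choose C hC using fun i' : ℕ => exists_drop_bound k hL hH hsec r n
    (Inter.isCoh_of_isInvertible (PicLoc.isInvertible_structureModule _)) hd i'
  refine ⟨∑ i' ∈ Finset.range (g + 1), C i', fun a b i hi hr hv => ?_⟩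
  obtain ⟨hig, -⟩ := hi.inv hg
  have h := hC (i - r) a b fun l hl hlr p hp => by
    obtain ⟨i'', hle, hidx⟩ := hv l hl hlr
    exact (finrank_twPow_structure hL hH a (b + l * s) hidx).2 p (by omega)
  rw [Nat.sub_add_cancel hr] at h
  rw [(finrank_twPow_structure hL hH a b hi).1]
  exact h.trans (Nat.mul_le_mul_right _ (Finset.single_le_sum (f := C) (fun _ _ => Nat.zero_le _)
    (Finset.mem_range.2 (by omega))))

/-- Just after a change of the index `χ` grows at most like the `(g - 1)`-th power. -/
theorem exists_rise_estimate {n : ℕ} (hn : n + 1 = g) :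
    ∃ C : ℕ, ∀ a b i i' : ℕ, IsIdx (c ^ a * cls hH ^ b) i →
      IsIdx (c ^ a * cls hH ^ (b + s)) i' → i ≠ i' →
      (chi (c ^ a * cls hH ^ (b + s))).natAbs ≤ C * (a + b + 1) ^ n := by
  obtain ⟨L, hL, rfl⟩ := PicGrp.exists_eq_cls c
  let : X.left.Over (Spec (CommRingCat.of k)) := ⟨X.hom⟩
  have : IsProper (X.left ↘ Spec (CommRingCat.of k)) := ‹IsProper X.hom›
  have : Infinite k := IsAlgClosed.instInfinite
  have hd : topologicalKrullDim (CohB1.support (Coh.structureModule X.left)) ≤ ((n + 1 : ℕ) : WithBot ℕ∞) := by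
    refine (LocCohTransform.topologicalKrullDim_mono (Set.subset_univ _)).trans ?_
    rw [(Homeomorph.Set.univ X.left).isHomeomorph.topologicalKrullDim_eq, hg, hn]
  choose C hC using fun q : ℕ => exists_rise_bound k hL hH hsec
    (Inter.isCoh_of_isInvertible (PicLoc.isInvertible_structureModule _)) hd q
  refine ⟨∑ q ∈ Finset.range (g + 1), C q, fun a b i i' hi hi' hne => ?_⟩
  obtain ⟨hig, -⟩ := hi'.inv hg
  rw [(finrank_twPow_structure hL hH a (b + s) hi').1]
  exact (hC i' a b ((finrank_twPow_structure hL hH a b hi).2 i' hne.symm)).trans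
    (Nat.mul_le_mul_right _ (Finset.single_le_sum (f := C) (fun _ _ => Nat.zero_le _)
      (Finset.mem_range.2 (by omega))))

end Groth.AbvarAmple
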