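import Groth.Agent.AbvarAmple.IndexPow

/-!
# Indices over an arbitrary field
-/

universe u

open CategoryTheory Limits MonoidalCategory CartesianMonoidalCategory MonObj GrpObj AlgebraicGeometry

namespace Groth.AbvarAmple

open Groth.Abvar Groth.Abvar.PicCalc

variable {k : Type u} [Field k]

/-- The index of a class in terms of a module representing it. -/
theorem isIdx_cls_iff {X : Scheme.{u}} (q : X ⟶ Spec (CommRingCat.of k)) {L : X.Modules}
    (hL : PicF.IsInvertible L) (i : ℕ) : IsIdx (cls hL) i ↔
      (∀ j : ℕ, j ≠ i → Subsingleton (Coh.HH X L j)) ∧ Nontrivial (Coh.HH X L i) := by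
  simp only [IsIdx, chv_cls_iff q, not_subsingleton_iff_nontrivial]

/-- Vanishing does not depend on the field. -/
theorem chv_bc_iff (K : Type u) [Field K] [Algebra k K] {X : Over (Spec (CommRingCat.of k))}
    [IsProper X.hom] (c : PicLoc.PicSet X.left) (n : ℕ) :
    CHV (pull (Limits.pullback.fst X.hom (Spec.map (CommRingCat.ofHom (algebraMap k K)))) c) n ↔
      CHV c n := by
  obtain ⟨L, hL, rfl⟩ := PicGrp.exists_eq_cls c
  let : X.left.Over (Spec (CommRingCat.of k)) := ⟨X.hom⟩
  have : IsProper (X.left ↘ Spec (CommRingCat.of k)) := ‹IsProper X.hom›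
  have : L.IsQuasicoherent := (EulerDeg.isCoh_of_isInvertible hL).1
  rw [pull_cls _ hL, chv_cls_iff X.hom, chv_cls_iff (Limits.pullback.snd X.hom _)]
  exact HilbStab.BC.subsingleton_HH_bc_iff k X.left K L n

/-- The index does not depend on the field. -/
theorem isIdx_bc_iff (K : Type u) [Field K] [Algebra k K] {X : Over (Spec (CommRingCat.of k))}
    [IsProper X.hom] (c : PicLoc.PicSet X.left) (i : ℕ) :
    IsIdx (pull (Limits.pullback.fst X.hom (Spec.map (CommRingCat.ofHom (algebraMap k K)))) c) i ↔
      IsIdx c i := by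
  simp only [IsIdx, chv_bc_iff]

variable {X Y : Over (Spec (CommRingCat.of k))} [GrpObj X] [IsProper X.hom] [GeometricallyIntegral X.hom]

set_option backward.isDefEq.respectTransparency false in
/-- Positive powers have the same index. -/
theorem IsIdx.pow' {c : PicLoc.PicSet X.left} {i : ℕ} (h : IsIdx c i) {n : ℕ} (hn : 0 < n) :
    IsIdx (c ^ n) i := by
  let K := AlgebraicClosure k
  let F := Over.pullback (Spec.map (CommRingCat.ofHom (algebraMap k K)))
  let : GrpObj (F.obj X) := Functor.grpObjObj
  have : IsProper (F.obj X).hom := inferInstanceAs (IsProper (Limits.pullback.snd X.hom _))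
  have : GeometricallyIntegral (F.obj X).hom :=
    inferInstanceAs (GeometricallyIntegral (Limits.pullback.snd X.hom _))
  obtain ⟨g, hg⟩ := Groth.FibreDim.exists_dim_eq_nat (F.obj X)
  rw [← isIdx_bc_iff K] at h ⊢
  rw [map_pow]
  exact IsIdx.pow hg n hn h

set_option backward.isDefEq.respectTransparency false in
/-- The index is subadditive. -/
theorem IsIdx.le_add' {c₁ c₂ : PicLoc.PicSet X.left} {i₁ i₂ i : ℕ}
    (h₁ : IsIdx c₁ i₁) (h₂ : IsIdx c₂ i₂) (h : IsIdx (c₁ * c₂) i) : i ≤ i₁ + i₂ := by
  let K := AlgebraicClosure k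
  let F := Over.pullback (Spec.map (CommRingCat.ofHom (algebraMap k K)))
  let : GrpObj (F.obj X) := Functor.grpObjObj
  have : IsProper (F.obj X).hom := inferInstanceAs (IsProper (Limits.pullback.snd X.hom _))
  have : GeometricallyIntegral (F.obj X).hom :=
    inferInstanceAs (GeometricallyIntegral (Limits.pullback.snd X.hom _))
  rw [← isIdx_bc_iff K] at h₁ h₂ h
  rw [map_mul] at h
  exact IsIdx.le_add (X := F.obj X) h₁ h₂ h

variable [GrpObj Y] [IsProper Y.hom] [GeometricallyIntegral Y.hom]

set_option backward.isDefEq.respectTransparency false in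
/-- An isogeny preserves the index over any field. -/
theorem IsIdx.pullback' (f : X ⟶ Y) [IsMonHom f] [IsFinite f.left] [Surjective f.left]
    {c : PicLoc.PicSet Y.left} {i : ℕ} (h : IsIdx c i) : IsIdx (opull f c) i := by
  let K := AlgebraicClosure k
  let t : Spec (CommRingCat.of K) ⟶ Spec (CommRingCat.of k) :=
    Spec.map (CommRingCat.ofHom (algebraMap k K))
  let F := Over.pullback t
  let : GrpObj (F.obj X) := Functor.grpObjObj
  let : GrpObj (F.obj Y) := Functor.grpObjObj
  have : IsProper (F.obj X).hom := inferInstanceAs (IsProper (Limits.pullback.snd X.hom _))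
  have : GeometricallyIntegral (F.obj X).hom :=
    inferInstanceAs (GeometricallyIntegral (Limits.pullback.snd X.hom _))
  have : IsProper (F.obj Y).hom := inferInstanceAs (IsProper (Limits.pullback.snd Y.hom _))
  have : GeometricallyIntegral (F.obj Y).hom :=
    inferInstanceAs (GeometricallyIntegral (Limits.pullback.snd Y.hom _))
  let pX : (F.obj X).left ⟶ X.left := Limits.pullback.fst X.hom t
  let pY : (F.obj Y).left ⟶ Y.left := Limits.pullback.fst Y.hom t
  have hcomm : (F.map f).left ≫ pY = pX ≫ f.left := Limits.pullback.lift_fst _ _ _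
  have hsq : IsPullback pX (F.map f).left f.left pY := by
    refine IsPullback.of_bot ?_ hcomm.symm (IsPullback.of_hasPullback Y.hom t)
    rw [show (F.map f).left ≫ Limits.pullback.snd Y.hom t = Limits.pullback.snd X.hom t from Over.w _,
      Over.w f]
    exact IsPullback.of_hasPullback X.hom t
  have : IsFinite (F.map f).left := MorphismProperty.of_isPullback hsq ‹IsFinite f.left›
  have : Surjective (F.map f).left := MorphismProperty.of_isPullback hsq ‹Surjective f.left›
  obtain ⟨g, hg⟩ := Groth.FibreDim.exists_dim_eq_nat (F.obj X)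
  rw [← isIdx_bc_iff K] at h ⊢
  have hcl : pull pX (opull f c) = opull (F.map f) (pull pY c) := by
    change pull pX (pull f.left c) = pull (F.map f).left (pull pY c)
    rw [← pull_comp, ← pull_comp, hcomm]
  show IsIdx (pull pX (opull f c)) i
  rw [hcl]
  exact IsIdx.pullback (F.map f) hg h

end Groth.AbvarAmple
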