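import Groth.Agent.AbvarAmple.IndexBound

/-!
# The index of powers, pullbacks and products of classes
-/

universe u

open CategoryTheory Limits MonoidalCategory CartesianMonoidalCategory MonObj GrpObj AlgebraicGeometry

namespace Groth.AbvarAmple

open Groth.Abvar Groth.Abvar.PicCalc

/-- An isomorphism preserves the index. -/
theorem isIdx_pull_iff {A : Type u} [CommRing A] {X Y : Scheme.{u}} (f : X ⟶ Y) [IsIso f]
    (q : X ⟶ Spec (CommRingCat.of A)) (c : PicLoc.PicSet Y) (i : ℕ) :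
    IsIdx (pull f c) i ↔ IsIdx c i := by
  simp only [IsIdx, chv_pull_iff f q]

variable {k : Type u} [Field k]

/-- The index of a product class is the sum. -/
theorem IsIdx.box {A B : Over (Spec (CommRingCat.of k))} [IsProper A.hom] [IsProper B.hom]
    {b : PicLoc.PicSet A.left} {a : PicLoc.PicSet B.left} {p q : ℕ} (hb : IsIdx b p) (ha : IsIdx a q) :
    IsIdx (opull (fst A B) b * opull (snd A B) a) (p + q) := by
  refine ⟨fun n hn => (chv_box_iff b a n).2 fun p' q' h => ?_, fun h => ?_⟩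
  · by_cases hp : p' = p
    · exact Or.inr (ha.1 q' (by omega))
    · exact Or.inl (hb.1 p' hp)
  · exact ((chv_box_iff b a (p + q)).1 h p q rfl).elim hb.2 ha.2

variable [IsAlgClosed k] {X : Over (Spec (CommRingCat.of k))} [GrpObj X] [IsProper X.hom]
  [GeometricallyIntegral X.hom]

theorem translate_div_mul (c : PicLoc.PicSet X.left)
    (a b : 𝟙_ (Over (Spec (CommRingCat.of k))) ⟶ X) :
    opull (𝟙 X * (toUnit X ≫ (a * b))) c / c =
      (opull (𝟙 X * (toUnit X ≫ a)) c / c) * (opull (𝟙 X * (toUnit X ≫ b)) c / c) := by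
  have h := Cube.opull_square c (𝟙 X) a b
  rw [opull_id] at h
  rw [div_mul_div_comm, div_eq_div_iff_mul_eq_mul, ← h]
  ac_rfl

theorem translate_div_pow (c : PicLoc.PicSet X.left)
    (a : 𝟙_ (Over (Spec (CommRingCat.of k))) ⟶ X) : ∀ n : ℕ,
    opull (𝟙 X * (toUnit X ≫ (a ^ n))) c / c = (opull (𝟙 X * (toUnit X ≫ a)) c / c) ^ n
  | 0 => by rw [_root_.pow_zero, _root_.pow_zero, translate_one, opull_id, div_self']
  | n + 1 => by rw [_root_.pow_succ, translate_div_mul, translate_div_pow c a n, _root_.pow_succ]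

/-- A power of a class with finite stabiliser has finite stabiliser. -/
theorem finite_fixed_pow {c : PicLoc.PicSet X.left} {m : ℕ} (hm : 0 < m)
    (hfix : {a : 𝟙_ (Over (Spec (CommRingCat.of k))) ⟶ X | opull (𝟙 X * (toUnit X ≫ a)) c = c}.Finite) :
    {a : 𝟙_ (Over (Spec (CommRingCat.of k))) ⟶ X |
      opull (𝟙 X * (toUnit X ≫ a)) (c ^ m) = c ^ m}.Finite := by
  have := Groth.GrpschAbsch.isCommMonObj_of_isProper X
  obtain ⟨_, _, _⟩ := Groth.AbVarMul.isogeny_zpow (A := X) (d := (m : ℤ)) (by omega)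
  have hker := Groth.AbVarMul.finite_ker_of_isFinite (𝟙 X ^ (m : ℤ) : X ⟶ X)
  have hpow : ∀ a : 𝟙_ (Over (Spec (CommRingCat.of k))) ⟶ X, a ≫ (𝟙 X ^ (m : ℤ) : X ⟶ X) = a ^ m := fun a => by
    rw [zpow_natCast, MonObj.comp_pow, Category.comp_id]
  refine Set.Finite.of_finite_fibers (fun a => a ^ m) (hfix.subset ?_) fun y _ => ?_
  · rintro _ ⟨a, ha, rfl⟩
    show opull (𝟙 X * (toUnit X ≫ (a ^ m))) c = c
    rw [← div_eq_one, translate_div_pow, div_pow, ← map_pow, div_eq_one]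
    exact ha
  · rcases Set.eq_empty_or_nonempty ({a : 𝟙_ (Over (Spec (CommRingCat.of k))) ⟶ X |
        opull (𝟙 X * (toUnit X ≫ a)) (c ^ m) = c ^ m} ∩ (fun a => a ^ m) ⁻¹' {y}) with h | ⟨x₀, -, hx₀⟩
    · rw [h]; exact Set.finite_empty
    · refine (hker.image (fun w => x₀ * w)).subset ?_
      rintro x ⟨-, hx⟩
      refine ⟨x₀⁻¹ * x, ?_, mul_inv_cancel_left _ _⟩
      show (x₀⁻¹ * x) ≫ (𝟙 X ^ (m : ℤ) : X ⟶ X) = 1
      rw [hpow, mul_pow, inv_pow, show x ^ m = x₀ ^ m from hx.trans hx₀.symm, inv_mul_cancel]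

/-- The cross term of a class. -/
noncomputable def crossHom (c : PicLoc.PicSet X.left) {T : Over (Spec (CommRingCat.of k))} (u : T ⟶ X) :
    (T ⟶ X) →* PicLoc.PicSet T.left :=
  MonoidHom.mk' (fun v => opull (u * v) c / (opull u c * opull v c)) fun v w => by
    have h := Cube.opull_cube c u v w
    show opull (u * (v * w)) c / (opull u c * opull (v * w) c) =
      opull (u * v) c / (opull u c * opull v c) * (opull (u * w) c / (opull u c * opull w c))
    rw [div_mul_div_comm, div_eq_div_iff_mul_eq_mul, ← _root_.mul_assoc u]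
    calc opull (u * v * w) c * (opull u c * opull v c * (opull u c * opull w c))
        = (opull (u * v * w) c * opull u c * opull v c * opull w c) * opull u c := by ac_rfl
      _ = opull (u * v) c * opull (u * w) c * (opull u c * opull (v * w) c) := by rw [h]; ac_rfl

theorem opull_mul_eq_cross (c : PicLoc.PicSet X.left) {T : Over (Spec (CommRingCat.of k))}
    (u v : T ⟶ X) : opull (u * v) c = opull u c * opull v c * crossHom c u v :=
  (mul_div_cancel _ _).symm

theorem opull_zpow_symm' {c : PicLoc.PicSet X.left} (hc : opull (𝟙 X)⁻¹ c = c)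
    {T : Over (Spec (CommRingCat.of k))} (v : T ⟶ X) (d : ℤ) :
    opull (v ^ d) c = opull v c ^ (d.natAbs ^ 2) := by
  rw [show v ^ d = v ≫ (𝟙 X ^ d : X ⟶ X) by rw [GrpObj.comp_zpow, Category.comp_id], opull_comp,
    Groth.AbVarMul.opull_zpow_symm _ hc, map_pow]

/-- The map `(x, y) ↦ (x y, x y⁻ⁿ)`. -/
noncomputable def pairMap (X : Over (Spec (CommRingCat.of k))) [GrpObj X] (n : ℕ) : X ⊗ X ⟶ X ⊗ X :=
  lift (fst X X * snd X X) (fst X X * (snd X X) ^ (-(n : ℤ)))

theorem opull_pairMap {c : PicLoc.PicSet X.left} (hc : opull (𝟙 X)⁻¹ c = c) (n : ℕ) :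
    opull (pairMap X n) (opull (fst X X) (c ^ n) * opull (snd X X) c) =
      opull (fst X X) (c ^ (n + 1)) * opull (snd X X) (c ^ (n * (n + 1))) := by
  rw [map_mul, ← opull_comp, ← opull_comp, pairMap, lift_fst, lift_snd, map_pow, opull_mul_eq_cross,
    opull_mul_eq_cross c (fst X X) ((snd X X) ^ (-(n : ℤ))), map_zpow, opull_zpow_symm' hc,
    Int.natAbs_neg, Int.natAbs_natCast, map_pow, map_pow, zpow_neg, zpow_natCast, mul_pow, mul_pow]
  generalize opull (fst X X) c = a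
  generalize opull (snd X X) c = b
  generalize crossHom c (fst X X) (snd X X) = B
  rw [show n * (n + 1) = n + n ^ 2 by ring, pow_add b, _root_.pow_succ a n]
  calc a ^ n * b ^ n * B ^ n * (a * b ^ (n ^ 2) * (B ^ n)⁻¹)
      = (a ^ n * a) * (b ^ n * b ^ (n ^ 2)) * (B ^ n * (B ^ n)⁻¹) := by ac_rfl
    _ = (a ^ n * a) * (b ^ n * b ^ (n ^ 2)) := by rw [mul_inv_cancel, _root_.mul_one]

theorem exists_translate_pairMap (n : ℕ) (y : 𝟙_ (Over (Spec (CommRingCat.of k))) ⟶ X ⊗ X) :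
    ∃ x : 𝟙_ (Over (Spec (CommRingCat.of k))) ⟶ X ⊗ X,
      (𝟙 (X ⊗ X) * (toUnit (X ⊗ X) ≫ x)) ≫ pairMap X n = pairMap X n * (toUnit (X ⊗ X) ≫ y) := by
  have := Groth.GrpschAbsch.isCommMonObj_of_isProper X
  obtain ⟨t, ht⟩ := exists_pow_eq ((y ≫ fst X X) * (y ≫ snd X X)⁻¹) (M := n + 1) (Nat.succ_ne_zero n)
  refine ⟨lift ((y ≫ fst X X) * t⁻¹) t, ?_⟩
  have k1 : (𝟙 (X ⊗ X) * (toUnit (X ⊗ X) ≫ lift ((y ≫ fst X X) * t⁻¹) t)) ≫ fst X X =
      fst X X * (toUnit (X ⊗ X) ≫ ((y ≫ fst X X) * t⁻¹)) := by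
    rw [MonObj.mul_comp, Category.id_comp, Category.assoc, lift_fst]
  have k2 : (𝟙 (X ⊗ X) * (toUnit (X ⊗ X) ≫ lift ((y ≫ fst X X) * t⁻¹) t)) ≫ snd X X =
      snd X X * (toUnit (X ⊗ X) ≫ t) := by
    rw [MonObj.mul_comp, Category.id_comp, Category.assoc, lift_snd]
  apply CartesianMonoidalCategory.hom_ext
  · rw [Category.assoc, pairMap, lift_fst, MonObj.comp_mul, k1, k2, MonObj.mul_comp (g := fst X X), lift_fst, Category.assoc,
      _root_.mul_mul_mul_comm, ← MonObj.comp_mul (toUnit (X ⊗ X)), inv_mul_cancel_right]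
  · rw [Category.assoc, pairMap, lift_snd, MonObj.comp_mul, MonObj.mul_comp (g := snd X X), lift_snd, Category.assoc,
      GrpObj.comp_zpow, k1, k2, mul_zpow, _root_.mul_mul_mul_comm, ← GrpObj.comp_zpow (toUnit (X ⊗ X)),
      ← MonObj.comp_mul (toUnit (X ⊗ X))]
    rw [_root_.mul_assoc (y ≫ fst X X)]
    simp only [zpow_neg, zpow_natCast]
    rw [← _root_.mul_inv, ← _root_.pow_succ', ht, _root_.mul_inv,
      _root_.inv_inv, mul_inv_cancel_left]

/-- The powers of a class have its index. -/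
theorem IsIdx.pow {g : ℕ} (hg : topologicalKrullDim X.left = g) : ∀ (n : ℕ), 0 < n →
    ∀ {c : PicLoc.PicSet X.left} {i : ℕ}, IsIdx c i → IsIdx (c ^ n) i := by
  have := Groth.GrpschAbsch.isCommMonObj_of_isProper X
  intro n hn
  induction n, hn using Nat.le_induction with
  | base => intro c i h; rwa [_root_.pow_one]
  | succ n hn ih =>
    intro c i h
    obtain ⟨y, hy⟩ := exists_symmetric_translate c h.finite_fixed
    have := Groth.AbVarMul.isIso_translate_left (A := X) y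
    rw [← isIdx_pull_iff (𝟙 X * (toUnit X ≫ y)).left X.hom] at h ⊢
    rw [map_pow]
    generalize hc₀ : pull (𝟙 X * (toUnit X ≫ y)).left c = c₀ at h ⊢
    have hsym : opull (𝟙 X)⁻¹ c₀ = c₀ := by rw [← hc₀]; exact hy
    obtain ⟨hi, hinv⟩ := h.inv hg
    obtain ⟨i', hi', hm, hm'⟩ := exists_isIdx hg (finite_fixed_pow n.succ_pos h.finite_fixed)
    have hmn : IsIdx (c₀ ^ (n * (n + 1))) i' := by
      rw [_root_.mul_comm, pow_mul]
      exact ih hm
    obtain ⟨-, hmn'⟩ := hmn.inv hg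
    obtain ⟨-, hn'⟩ := (ih h).inv hg
    have hb := (ih h).box h
    have hb' := hn'.box hinv
    have hq := hm.box hmn
    have hq' := hm'.box hmn'
    simp only [map_inv] at hb' hq'
    rw [← _root_.mul_inv] at hb' hq'
    rw [← opull_pairMap hsym n] at hq hq'
    have := Groth.Abvar.Cube.geometricallyIntegral_tensor X X
    have := Groth.Abvar.Cube.isProper_tensor X X
    have he := eq_of_isIdx_pullback (pairMap X n) _ (exists_translate_pairMap n) (g := g + g) hb
      (by convert hb' using 2; omega) hq (by convert hq' using 2; omega) (by omega) (by omega)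
    obtain rfl : i' = i := by omega
    exact hm

/-- Subadditivity of the index. -/
theorem IsIdx.le_add {c₁ c₂ : PicLoc.PicSet X.left} {i₁ i₂ i : ℕ}
    (h₁ : IsIdx c₁ i₁) (h₂ : IsIdx c₂ i₂) (h : IsIdx (c₁ * c₂) i) : i ≤ i₁ + i₂ := by
  have := Groth.GrpschAbsch.isCommMonObj_of_isProper X
  by_contra hlt
  refine (chv_or_of_family (𝟙 X) c₁ c₂ i (fun y j hj => ?_) (p := i₂) (q := i₁) (by omega)).elim h₂.2 h₁.2
  obtain ⟨z, hz⟩ := exists_translate_eq_mul (c₁ * c₂) h.finite_fixed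
    (opull (𝟙 X * (toUnit X ≫ y)) c₁ / c₁) (fun a => translate_div_invariant c₁ y a)
  have := Groth.AbVarMul.isIso_translate_left (A := X) z
  rw [show c₂ * opull (𝟙 X * (toUnit X ≫ y)) c₁ = opull (𝟙 X * (toUnit X ≫ z)) (c₁ * c₂) by
    rw [hz, _root_.mul_comm c₁ c₂, _root_.mul_assoc, mul_div_cancel]]
  exact (chv_pull_iff (𝟙 X * (toUnit X ≫ z)).left X.hom _ _).2 (h.1 j hj.ne)

end Groth.AbvarAmple
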