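import Groth.Agent.AbvarAmple.Simple
import Groth.Agent.AbvarAmple.FibreAcyclic
import Groth.Agent.CohBase.Kunneth.Formula
import Groth.Agent.Inter.EulerFamily
import Groth.Agent.EulerDeg.LineBundle
import Mathlib.RingTheory.Flat.FaithfullyFlat.Basic

/-!
# The cohomology of a nontrivial translation invariant class vanishes
-/

universe u

open CategoryTheory Limits MonoidalCategory CartesianMonoidalCategory MonObj GrpObj AlgebraicGeometry
open scoped TensorProduct

namespace Groth.AbvarAmple

open Groth.Abvar Groth.Abvar.PicCalc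

variable {k : Type u} [Field k] {X : Over (Spec (CommRingCat.of k))} [GrpObj X]
  [IsProper X.hom] [GeometricallyIntegral X.hom]

open Groth.PropsBasic.Ample in
/-- An additive class with a nonzero section is trivial, over any field. -/
theorem trivial_of_additive {G : X.left.Modules} (hG : PicF.IsInvertible G) (s : Γ(G, ⊤))
    (hs : s ≠ 0)
    (hadd : opull (fst X X * snd X X) (cls hG) = opull (fst X X) (cls hG) * opull (snd X X) (cls hG)) :
    cls hG = 1 := by
  have := Groth.Abvar.isIntegral_left X
  have := isIso_inv_left (A := X)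
  have h := congrArg (opull (lift (𝟙 X) (𝟙 X)⁻¹)) hadd
  rw [map_mul, ← opull_comp, ← opull_comp, ← opull_comp, MonObj.comp_mul, lift_fst, lift_snd,
    mul_inv_cancel, opull_one, opull_id] at h
  have hG' := PicLoc.isInvertible_pullback ((𝟙 X)⁻¹).left hG
  have hM : cls (PicCalc.isInvertible_tensorMod hG hG') = 1 := by
    rw [cls_tensorMod hG hG', ← pull_cls _ hG]
    exact h.symm
  have hU : (gloc s : Set X.left).Nonempty := by
    have h := Seesaw.genLocus_nonempty hG hs
    rwa [genLocus_eq_gloc, PicAux.gsec_homOfSection] at h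
  have hne : (gloc (PicAux.tmulSec s (PicAux.pullSec ((𝟙 X)⁻¹).left G s)) : Set X.left).Nonempty := by
    rw [gloc_tmulSec hG hG', gloc_pullSec _ hG]
    exact nonempty_preirreducible_inter (gloc s).2 (((𝟙 X)⁻¹).left ⁻¹ᵁ gloc s).2 hU
      (hU.preimage ((𝟙 X)⁻¹).left.homeomorph.surjective)
  have htop : gloc (PicAux.tmulSec s (PicAux.pullSec ((𝟙 X)⁻¹).left G s)) = ⊤ := by
    obtain ⟨ψ⟩ := (nonempty_iso_structure_iff (PicCalc.isInvertible_tensorMod hG hG')).2 hM
    let t := PicAux.tmulSec s (PicAux.pullSec ((𝟙 X)⁻¹).left G s)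
    have h1 : gloc t = X.left.basicOpen (PicAux.toFun (ψ.hom.app ⊤ t)) := by
      rw [← Groth.Ega2Proj.gloc_structure, gloc_map]
    rcases eq_or_ne (PicAux.toFun (ψ.hom.app ⊤ t)) 0 with h0 | h0
    · exfalso
      rw [h1, h0, Scheme.basicOpen_zero] at hne
      obtain ⟨x, hx⟩ := hne
      exact hx.elim
    · obtain ⟨d, hd⟩ := (isField_of_universallyClosed k X.hom).mul_inv_cancel h0
      rw [h1, Scheme.basicOpen_of_isUnit _ (IsUnit.of_mul_eq_one _ hd)]
  rw [gloc_tmulSec hG hG'] at htop
  have hs' : gloc s = ⊤ := top_le_iff.1 (htop.ge.trans inf_le_left)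
  rw [← nonempty_iso_structure_iff, PicAux.nonempty_iso_structure_iff]
  have hgen := gen_gloc s (V := ⊤) hs'.ge
  rw [PicAux.res_self] at hgen
  exact ⟨_, hgen⟩

/-- The functions on an abelian variety are nonzero. -/
theorem nontrivial_HH_structure : Nontrivial (Coh.HH X.left (Coh.structureModule X.left) 0) := by
  have := Groth.Abvar.isIntegral_left X
  have : Nontrivial Γ(Coh.structureModule X.left, ⊤) := inferInstanceAs (Nontrivial Γ(X.left, ⊤))
  exact @Equiv.nontrivial _ Γ(Coh.structureModule X.left, ⊤)
    (Sheaf.H.equiv₀ (Coh.toAb (Coh.structureModule X.left))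
      (Preorder.isTerminalTop X.left.Opens)).toEquiv this

theorem subsingleton_HH_zero_of_additive {G : X.left.Modules} (hG : PicF.IsInvertible G)
    (hadd : opull (fst X X * snd X X) (cls hG) = opull (fst X X) (cls hG) * opull (snd X X) (cls hG))
    (hne : cls hG ≠ 1) : Subsingleton (Coh.HH X.left G 0) := by
  let e : Coh.HH X.left G 0 ≃+ Γ(G, ⊤) :=
    Sheaf.H.equiv₀ (Coh.toAb G) (Preorder.isTerminalTop X.left.Opens)
  refine subsingleton_of_forall_eq 0 fun x => by_contra fun hx => hne ?_
  exact trivial_of_additive hG (e x) (fun h => hx (e.injective (h.trans (map_zero e).symm))) hadd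

/-- All cohomology of a nontrivial additive class vanishes, over any field. -/
theorem subsingleton_HH_of_additive {G : X.left.Modules} (hG : PicF.IsInvertible G)
    (hadd : opull (fst X X * snd X X) (cls hG) = opull (fst X X) (cls hG) * opull (snd X X) (cls hG))
    (hne : cls hG ≠ 1) (n : ℕ) : Subsingleton (Coh.HH X.left G n) := by
  have h00 := subsingleton_HH_zero_of_additive hG hadd hne
  induction n using Nat.strong_induction_on with
  | _ n ih =>
    rcases n with _ | n
    · exact h00
    let O := Coh.structureModule X.left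
    have hO : PicF.IsInvertible O := PicLoc.isInvertible_structureModule _
    let : X.left.Over (Spec (CommRingCat.of k)) := ⟨X.hom⟩
    have : IsLocallyNoetherian X.left := LocallyOfFiniteType.isLocallyNoetherian X.hom
    have : G.IsQuasicoherent := (EulerDeg.isCoh_of_isInvertible hG).1
    have : O.IsQuasicoherent := (EulerDeg.isCoh_of_isInvertible hO).1
    have : CompactSpace X.left := CohFin.compactSpace_of_proper X.hom
    have : X.left.IsSeparated := CohFin.isSeparated_of_proper X.hom
    obtain ⟨C⟩ := CohBase.exists_goodCover X.left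
    have hsq : IsPullback (fst X X).left (snd X X).left (X.left ↘ Spec (CommRingCat.of k))
        (X.left ↘ Spec (CommRingCat.of k)) := IsPullback.of_hasPullback X.hom X.hom
    have hfl := Inter.isFlatOver_field k (X.left ↘ Spec (CommRingCat.of k)) G
    obtain ⟨e₁⟩ := CohBase.Kunneth.nonempty_kunneth C C _ _ hsq G G hfl (fun _ => inferInstance) (n + 1)
    obtain ⟨e₂⟩ := CohBase.Kunneth.nonempty_kunneth C C _ _ hsq G O hfl (fun _ => inferInstance) (n + 1)
    have hs : ∀ pq : Finset.HasAntidiagonal.antidiagonal (n + 1),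
        Subsingleton (Coh.HH X.left G pq.1.1 ⊗[k] Coh.HH X.left G pq.1.2) := fun pq => by
      have hpq := Finset.HasAntidiagonal.mem_antidiagonal.1 pq.2
      rcases Nat.lt_or_ge pq.1.1 (n + 1) with h | h
      · have := ih _ h
        infer_instance
      · have h2 : pq.1.2 = 0 := by omega
        have : Subsingleton (Coh.HH X.left G pq.1.2) := by rw [h2]; exact h00
        infer_instance
    have h1 := PicLoc.isInvertible_pullback (fst X X).left hG
    have h2 := PicLoc.isInvertible_pullback (snd X X).left hG
    have h3 := PicLoc.isInvertible_pullback (snd X X).left hO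
    have hGG : Subsingleton (Coh.HH (X ⊗ X).left (CohB1.tensorMod
        ((Scheme.Modules.pullback (fst X X).left).obj G)
        ((Scheme.Modules.pullback (snd X X).left).obj G)) (n + 1)) :=
      e₁.toEquiv.subsingleton
    let σ : X ⊗ X ⟶ X ⊗ X := lift (fst X X * snd X X) (snd X X)
    let τ : X ⊗ X ⟶ X ⊗ X := lift (fst X X * (snd X X)⁻¹) (snd X X)
    have hστ : σ ≫ τ = 𝟙 _ := by
      apply CartesianMonoidalCategory.hom_ext <;>
        simp [σ, τ, MonObj.comp_mul, GrpObj.comp_inv, _root_.mul_assoc]
    have hτσ : τ ≫ σ = 𝟙 _ := by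
      apply CartesianMonoidalCategory.hom_ext <;>
        simp [σ, τ, MonObj.comp_mul, _root_.mul_assoc]
    have : IsIso σ := ⟨τ, hστ, hτσ⟩
    have : IsIso σ.left := (inferInstance : IsIso ((Over.forget _).map σ))
    have hiso : Nonempty ((Scheme.Modules.pullback σ.left).obj (CohB1.tensorMod
        ((Scheme.Modules.pullback (fst X X).left).obj G)
        ((Scheme.Modules.pullback (snd X X).left).obj O)) ≅ CohB1.tensorMod
        ((Scheme.Modules.pullback (fst X X).left).obj G)
        ((Scheme.Modules.pullback (snd X X).left).obj G)) := by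
      rw [nonempty_iso_iff (PicLoc.isInvertible_pullback _ (isInvertible_tensorMod h1 h3))
        (isInvertible_tensorMod h1 h2), ← pull_cls _ (isInvertible_tensorMod h1 h3),
        cls_tensorMod h1 h3, cls_tensorMod h1 h2, ← pull_cls _ hG, ← pull_cls _ hG, ← pull_cls _ hO,
        show cls hO = 1 from PicGrp.cls_structureModule_eq_one, map_one, _root_.mul_one]
      show opull σ (opull (fst X X) (cls hG)) = _
      rw [← opull_comp, lift_fst, hadd]
    have hGO : Subsingleton (Coh.HH (X ⊗ X).left (CohB1.tensorMod
        ((Scheme.Modules.pullback (fst X X).left).obj G)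
        ((Scheme.Modules.pullback (snd X X).left).obj O)) (n + 1)) :=
      (subsingleton_HH_pullback_iff σ.left (X ⊗ X).hom _ _).1
        (PnCoh.subsingleton_HH_of_iso (X ⊗ X).hom hiso.some.symm hGG)
    have hsum := @Equiv.subsingleton _ _ e₂.symm.toEquiv hGO
    have htop : Subsingleton (Coh.HH X.left G (n + 1) ⊗[k] Coh.HH X.left O 0) :=
      (DirectSum.of_injective (β := fun pq : Finset.HasAntidiagonal.antidiagonal (n + 1) =>
        Coh.HH X.left G pq.1.1 ⊗[k] Coh.HH X.left O pq.1.2)
        ⟨(n + 1, 0), Finset.HasAntidiagonal.mem_antidiagonal.2 (Nat.add_zero _)⟩).subsingleton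
    have : Nontrivial (Coh.HH X.left O 0) := nontrivial_HH_structure
    exact Module.FaithfullyFlat.rTensor_reflects_triviality k (Coh.HH X.left O 0) _

/-- All cohomology of a nontrivial invariant class vanishes. -/
theorem subsingleton_HH_of_invariant [IsAlgClosed k] {G : X.left.Modules} (hG : PicF.IsInvertible G)
    (hinv : ∀ a : 𝟙_ (Over (Spec (CommRingCat.of k))) ⟶ X,
      opull (𝟙 X * (toUnit X ≫ a)) (cls hG) = cls hG) (hne : cls hG ≠ 1) (n : ℕ) :
    Subsingleton (Coh.HH X.left G n) :=
  subsingleton_HH_of_additive hG (Cube.opull_mul_of_invariant (cls hG) hinv) hne n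

end Groth.AbvarAmple
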