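import Groth.Agent.AbvarAmple.NondegAmple
import Groth.Agent.AbvarAmple.KerFinite
import Groth.Agent.AlgGrp1.AffineCrit
import Groth.Agent.GrpschAbsch.NeutralSet
import Groth.Agent.AlgGrp1.Geom
import Groth.Agent.Abvar.Mumford
import Groth.Agent.ThetaRep.KExists

/-!
# Effective classes on simple abelian varieties
-/

universe u

open CategoryTheory MonoidalCategory CartesianMonoidalCategory MonObj GrpObj AlgebraicGeometry
open TopologicalSpace

namespace Groth.AbvarAmple

open Groth.Abvar Groth.Abvar.PicCalc Groth.PropsBasic.Ample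

variable {k : Type u} [Field k] {X : Over (Spec (CommRingCat.of k))} [GrpObj X]

/-- A rational point fixes a class iff the class is additive along it. -/
theorem fixed_iff_additive' (c : PicLoc.PicSet X.left) (a : 𝟙_ (Over (Spec (CommRingCat.of k))) ⟶ X) :
    opull (𝟙 X * (toUnit X ≫ a)) c = c ↔ Mumford.Additive' c a := by
  have hu : (snd X (𝟙_ (Over (Spec (CommRingCat.of k)))) : _ ⟶ _) = toUnit _ := toUnit_unique _ _
  have h1 : opull (snd X (𝟙_ (Over (Spec (CommRingCat.of k)))) ≫ a) c = 1 := by
    rw [hu]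
    exact opull_toUnit_comp a c
  rw [Mumford.Additive', h1, _root_.mul_one]
  constructor
  · intro h
    rw [hu, show fst X (𝟙_ (Over (Spec (CommRingCat.of k)))) * (toUnit _ ≫ a) =
      fst X _ ≫ (𝟙 X * (toUnit X ≫ a)) from (comp_mul_const _ a).symm, opull_comp, h]
  · intro h
    have h2 := congrArg (opull (lift (𝟙 X) (toUnit X))) h
    rwa [← opull_comp, ← opull_comp, MonObj.comp_mul, lift_fst, lift_snd_assoc, opull_id] at h2

/-- An invariant class with a nonzero section is trivial. -/
theorem trivial_of_invariant [IsAlgClosed k] [IsProper X.hom] [GeometricallyIntegral X.hom]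
    {G : X.left.Modules} (hG : PicF.IsInvertible G) (s : Γ(G, ⊤)) (hs : s ≠ 0)
    (hinv : ∀ a : 𝟙_ (Over (Spec (CommRingCat.of k))) ⟶ X,
      opull (𝟙 X * (toUnit X ≫ a)) (cls hG) = cls hG) : cls hG = 1 := by
  have := Groth.Abvar.isIntegral_left X
  have := isIso_inv_left (A := X)
  have h := Groth.Abvar.Cube.opull_add_of_invariant (cls hG) hinv (𝟙 X) (𝟙 X)⁻¹
  rw [mul_inv_cancel, opull_one, opull_id] at h
  have hG' := PicLoc.isInvertible_pullback ((𝟙 X)⁻¹).left hG
  have hM : cls (PicCalc.isInvertible_tensorMod hG hG') = 1 := by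
    rw [cls_tensorMod hG hG', ← pull_cls _ hG]
    exact h.symm
  have hU : (gloc s : Set X.left).Nonempty := by
    have h := Seesaw.genLocus_nonempty hG hs
    rwa [genLocus_eq_gloc, PicAux.gsec_homOfSection] at h
  have hne : (gloc (PicAux.tmulSec s (PicAux.pullSec ((𝟙 X)⁻¹).left G s)) : Set X.left).Nonempty := by
    rw [gloc_tmulSec hG hG', gloc_pullSec _ hG]
    exact nonempty_preirreducible_inter (gloc s).2 (((𝟙 X)⁻¹).left ⁻¹ᵁ gloc s).2 hU
      (hU.preimage ((𝟙 X)⁻¹).left.homeomorph.surjective)
  have htop := gloc_eq_top_of_trivial X.hom (PicCalc.isInvertible_tensorMod hG hG') hM _ hne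
  rw [gloc_tmulSec hG hG'] at htop
  have hs' : gloc s = ⊤ := top_le_iff.1 (htop.ge.trans inf_le_left)
  rw [← nonempty_iso_structure_iff, PicAux.nonempty_iso_structure_iff]
  have hgen := gen_gloc s (V := ⊤) hs'.ge
  rw [PicAux.res_self] at hgen
  exact ⟨_, hgen⟩

set_option backward.isDefEq.respectTransparency.types false in
/-- On a simple abelian variety a nontrivial effective class is ample. -/
theorem isAmple_of_simple [IsAlgClosed k] [IsProper X.hom] [GeometricallyIntegral X.hom]
    (hsimple : ∀ (B : Over (Spec (CommRingCat.of k))) [GrpObj B] [GeometricallyIntegral B.hom]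
      (i : B ⟶ X) [IsMonHom i] [IsClosedImmersion i.left], Subsingleton ↥B.left ∨ IsIso i)
    {G : X.left.Modules} (hG : PicF.IsInvertible G) (s : Γ(G, ⊤)) (hs : s ≠ 0)
    (hne : cls hG ≠ 1) : CohB1.IsAmple G := by
  obtain ⟨K, i, hK⟩ := Groth.ThetaRep.exists_isKL (A := X) hG
  have : IsClosedImmersion i.left := hK.1
  have : Mono i := Over.mono_of_mono_left i
  have hiff := fun {T : Over (Spec (CommRingCat.of k))} (z : T ⟶ X) =>
    Mumford.additive'_iff G hG hK z
  have hi : Mumford.Additive' (cls hG) i := (hiff i).1 ⟨𝟙 K, Category.id_comp i⟩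
  obtain ⟨instK, hiK⟩ := Groth.GrpschAbsch.NeutralSet.exists_grpObj_of_mono X i
    ((hiff η[X]).2 (by rw [MonObj.one_eq_one]; exact Mumford.Additive'.one))
    ((hiff _).2 (((hiff (fst K K ≫ i)).1 ⟨_, rfl⟩).mul ((hiff (snd K K ≫ i)).1 ⟨_, rfl⟩)))
    ((hiff i⁻¹).2 hi.inv)
  have : IsProper K.hom := by
    rw [← Over.w i]
    infer_instance
  obtain ⟨Z, instZ, c, hc, hci, hcs, hZs, hZr⟩ := Groth.AlgGrp1.exists_reduced_subgroup_lft K
  have : IsProper Z.hom := by
    rw [← Over.w c]
    infer_instance
  obtain ⟨B, instB, b, hb, hbo, hbr, hBc⟩ := Groth.GrpschAbsch.NeutralSet.exists_neutral_openSubgroup Z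
  have : IsClosedImmersion b.left :=
    IsClosedImmersion.of_isPreimmersion b.left (hbr ▸ isClosed_connectedComponent)
  have : Smooth B.hom := by
    rw [← Over.w b]
    infer_instance
  have : QuasiCompact B.hom := by
    rw [← Over.w b]
    infer_instance
  have : GeometricallyIntegral B.hom := Groth.AlgGrp1.geometricallyIntegral_of_smooth B
  have : IsClosedImmersion (b ≫ c ≫ i).left :=
    inferInstanceAs (IsClosedImmersion (b.left ≫ c.left ≫ i.left))
  rcases hsimple B (b ≫ c ≫ i) with hB | hB
  · refine isAmple_of_finite_fixed hG s hs ?_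
    let e := η[Z].left.base (IsLocalRing.closedPoint k)
    have he : IsOpen ({e} : Set Z.left) := by
      have h1 : connectedComponent e = {e} := by
        refine Set.Subsingleton.eq_singleton_of_mem ?_ mem_connectedComponent
        rw [← hbr]
        exact Set.subsingleton_range _
      exact h1 ▸ Groth.GrpschAbsch.NeutralSet.isOpen_component Z e
    have hop : ∀ z : 𝟙_ (Over (Spec (CommRingCat.of k))) ⟶ Z, IsOpen ({pt z} : Set Z.left) := by
      intro z
      have h : ({pt z} : Set Z.left) = (𝟙 Z * (toUnit Z ≫ z⁻¹)).left.base ⁻¹' {e} := by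
        ext w
        have hee : (𝟙 Z * (toUnit Z ≫ z⁻¹)).left.base (pt z) = e := by
          rw [← pt_translate, mul_inv_cancel]
          simp only [e, pt, MonObj.one_eq_one]
        refine ⟨?_, fun hw => ?_⟩
        · rintro rfl
          exact hee
        · have h2 : ∀ v, (𝟙 Z * (toUnit Z ≫ z)).left.base ((𝟙 Z * (toUnit Z ≫ z⁻¹)).left.base v) = v := by
            intro v
            rw [← Scheme.Hom.comp_apply, ← Over.comp_left, translate_comp, inv_mul_cancel, translate_one]
            rfl
          rw [Set.mem_singleton_iff, ← h2 w, Set.mem_singleton_iff.1 hw, ← hee, h2]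
      exact h ▸ he.preimage (𝟙 Z * (toUnit Z ≫ z⁻¹)).left.continuous
    have : CompactSpace Z.left := QuasiCompact.compactSpace_of_compactSpace Z.hom
    have : DiscreteTopology Z.left := discreteTopology_iff_isOpen_singleton.2 fun w => by
      obtain ⟨v, hwv, hv⟩ := exists_isClosed_specializes w
      obtain ⟨z, rfl⟩ := exists_rationalPoint Z hv
      have : w = pt z := hwv.mem_open (hop z) rfl
      exact this ▸ hop z
    have : Finite Z.left := finite_of_compact_of_discrete
    refine ((Set.finite_range fun w => i.left.base (c.left.base w)).preimage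
      pt_injective.injOn).subset fun a ha => ?_
    obtain ⟨y, rfl⟩ := (hiff a).2 ((fixed_iff_additive' _ a).1 ha)
    obtain ⟨w, hw⟩ := c.left.surjective (pt y)
    exact ⟨w, by rw [pt_comp, ← hw]⟩
  · refine absurd (trivial_of_invariant hG s hs fun a => (fixed_iff_additive' _ a).2 ((hiff a).1
      ⟨a ≫ inv (b ≫ c ≫ i) ≫ b ≫ c, ?_⟩)) hne
    rw [Category.assoc, Category.assoc, Category.assoc, IsIso.inv_hom_id, Category.comp_id]

end Groth.AbvarAmple
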