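import Groth.Agent.AbvarAmple.Basic
import Groth.Agent.AbvarAmple.Simple
import Groth.Agent.AbvarAmple.IndexExists
import Groth.Agent.Reductive.MultGa
import Groth.Agent.Abvar.Mumford

/-!
# The dimension of `K(L)` through the points over an algebraic closure
-/

universe u

open CategoryTheory Limits MonoidalCategory CartesianMonoidalCategory MonObj GrpObj AlgebraicGeometry
open TopologicalSpace (IrreducibleCloseds)

namespace Groth.AbvarAmple

open Groth.Abvar Groth.Abvar.PicCalc

/-- A space covered by finitely many closed subsets has at most the largest of their dimensions. -/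
theorem topologicalKrullDim_le_of_finite_cover {T : Type*} [TopologicalSpace T] {I : Type*} [Finite I]
    (C : I → Set T) (hC : ∀ i, IsClosed (C i)) (hcov : ∀ x, ∃ i, x ∈ C i) {d : WithBot ℕ∞}
    (hd : ∀ i, topologicalKrullDim (C i) ≤ d) : topologicalKrullDim T ≤ d := by
  refine iSup_le fun p => ?_
  have hirr : IsIrreducible (p.last : Set T) := p.last.isIrreducible'
  obtain ⟨_, ⟨i, rfl⟩, hsub⟩ : ∃ s ∈ Set.range C, (p.last : Set T) ⊆ s := by
    classical
    have h := isIrreducible_iff_sUnion_isClosed.1 hirr (Set.finite_range C).toFinset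
      (fun z hz => by obtain ⟨i, rfl⟩ := (Set.Finite.mem_toFinset _).1 hz; exact hC i)
      (fun x _ => by
        obtain ⟨i, hi⟩ := hcov x
        rw [Set.Finite.coe_toFinset]
        exact Set.mem_sUnion.2 ⟨C i, ⟨i, rfl⟩, hi⟩)
    obtain ⟨z, hz, hz'⟩ := h
    exact ⟨z, (Set.Finite.mem_toFinset _).1 hz, hz'⟩
  have hle : ∀ m, (p m : Set T) ⊆ C i := fun m =>
    (show (p m : Set T) ⊆ p.last from p.strictMono.monotone (Fin.le_last m)).trans hsub
  let q : LTSeries (IrreducibleCloseds (C i)) :=
    { length := p.length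
      toFun := fun m => ⟨Subtype.val ⁻¹' (p m : Set T), by
        obtain ⟨⟨x, hx⟩, hpre⟩ := (p m).isIrreducible'
        refine ⟨⟨⟨x, hle m hx⟩, hx⟩, ?_⟩
        rintro _ _ ⟨U, hU, rfl⟩ ⟨V, hV, rfl⟩ ⟨a, ha, haU⟩ ⟨b, hb, hbV⟩
        obtain ⟨y, hy, hyUV⟩ := hpre U V hU hV ⟨a, ha, haU⟩ ⟨b, hb, hbV⟩
        exact ⟨⟨y, hle m hy⟩, hy, hyUV⟩,
        (p m).isClosed'.preimage continuous_subtype_val⟩
      step := fun m => by
        have h : (p m.castSucc : Set T) ⊂ p m.succ := p.step m
        exact show (Subtype.val ⁻¹' (p m.castSucc : Set T) : Set (C i)) ⊂ Subtype.val ⁻¹' (p m.succ : Set T)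
          from ⟨fun x hx => h.1 hx, fun he => h.2 fun x hx => @he ⟨x, hle _ hx⟩ hx⟩ }
  exact (Order.LTSeries.length_le_krullDim q).trans (hd i)

section Points

variable {k : Type u} [Field k] [IsAlgClosed k] {X K B : Over (Spec (CommRingCat.of k))}
  [GrpObj X] [IsCommMonObj X] [LocallyOfFiniteType K.hom] [LocallyOfFiniteType B.hom]

/-- A closed subscheme whose points are finitely many translates of a subvariety has its dimension. -/
theorem topologicalKrullDim_eq_of_points (i : K ⟶ X) [IsClosedImmersion i.left] (j : B ⟶ X)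
    [IsClosedImmersion j.left]
    (h₁ : ∀ w : 𝟙_ (Over (Spec (CommRingCat.of k))) ⟶ B, ∃ v, v ≫ i = w ≫ j)
    {F : Set (𝟙_ (Over (Spec (CommRingCat.of k))) ⟶ X)} (hF : F.Finite)
    (h₂ : ∀ v : 𝟙_ (Over (Spec (CommRingCat.of k))) ⟶ K, ∃ f ∈ F, ∃ w, v ≫ i = f * (w ≫ j)) :
    topologicalKrullDim K.left = topologicalKrullDim B.left := by
  have := LocallyOfFiniteType.jacobsonSpace K.hom
  have := LocallyOfFiniteType.jacobsonSpace B.hom
  have hdense : ∀ {Y : Over (Spec (CommRingCat.of k))} [LocallyOfFiniteType Y.hom] {Z : Set Y.left},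
      IsClosed Z → (∀ s : 𝟙_ (Over (Spec (CommRingCat.of k))) ⟶ Y, pt s ∈ Z) → Z = Set.univ := by
    intro Y _ Z hZ h
    have := LocallyOfFiniteType.jacobsonSpace Y.hom
    refine Set.eq_univ_of_univ_subset ((closure_closedPoints (X := Y.left)).symm.subset.trans
      (closure_minimal (fun x hx => ?_) hZ))
    obtain ⟨s, hs⟩ := Groth.Abvar.exists_rationalPoint Y hx
    exact hs ▸ h s
  apply le_antisymm
  · have : Finite F := hF
    let τ : F → (B ⟶ X) := fun f => j ≫ (𝟙 X * (toUnit X ≫ f.1))
    have hτ : ∀ f : F, Topology.IsClosedEmbedding (τ f).left.base := fun f => by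
      have : IsIso (𝟙 X * (toUnit X ≫ f.1)) :=
        ⟨_, (translate_comp f.1 f.1⁻¹).trans (by rw [mul_inv_cancel, translate_one]),
          (translate_comp f.1⁻¹ f.1).trans (by rw [inv_mul_cancel, translate_one])⟩
      have : IsIso (𝟙 X * (toUnit X ≫ f.1)).left :=
        inferInstanceAs (IsIso ((Over.forget _).map (𝟙 X * (toUnit X ≫ f.1))))
      have : IsClosedImmersion (τ f).left :=
        inferInstanceAs (IsClosedImmersion (j.left ≫ (𝟙 X * (toUnit X ≫ f.1)).left))
      exact (τ f).left.isClosedEmbedding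
    let C : F → Set K.left := fun f => i.left.base ⁻¹' Set.range (τ f).left.base
    have hC : ∀ f, IsClosed (C f) := fun f =>
      (hτ f).isClosed_range.preimage i.left.continuous
    refine topologicalKrullDim_le_of_finite_cover C hC (fun x => Set.mem_iUnion.1 ?_) fun f => ?_
    · rw [hdense (isClosed_iUnion_of_finite hC) fun v => ?_]
      · trivial
      obtain ⟨f, hf, w, hw⟩ := h₂ v
      refine Set.mem_iUnion.2 ⟨⟨f, hf⟩, pt w, ?_⟩
      rw [← pt_comp, ← pt_comp, hw]
      show pt (w ≫ j ≫ _) = _
      rw [← Category.assoc, comp_mul_const, toUnit_unique (toUnit _) (𝟙 _), Category.id_comp,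
        _root_.mul_comm]
    · have h1 : Topology.IsInducing (Set.restrictPreimage (Set.range (τ f).left.base) i.left.base) :=
        (Set.restrictPreimage_isInducing _ i.left.isClosedEmbedding.isInducing)
      refine h1.topologicalKrullDim_le.trans ?_
      exact (hτ f).toIsEmbedding.toHomeomorph.symm.isHomeomorph.topologicalKrullDim_eq.le
  · have hr : Set.range j.left.base ⊆ Set.range i.left.base := by
      rintro _ ⟨b, rfl⟩
      have hu : j.left.base ⁻¹' Set.range i.left.base = Set.univ :=
        hdense (i.left.isClosedEmbedding.isClosed_range.preimage j.left.continuous) fun w => by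
          obtain ⟨v, hv⟩ := h₁ w
          exact ⟨pt v, by rw [← pt_comp, ← pt_comp, hv]⟩
      exact hu.symm.subset (Set.mem_univ b)
    rw [j.left.isClosedEmbedding.toIsEmbedding.toHomeomorph.isHomeomorph.topologicalKrullDim_eq,
      i.left.isClosedEmbedding.toIsEmbedding.toHomeomorph.isHomeomorph.topologicalKrullDim_eq]
    exact (Topology.IsEmbedding.inclusion hr).isInducing.topologicalKrullDim_le

end Points

section BaseChange

variable {k : Type u} [Field k] {X : Over (Spec (CommRingCat.of k))} [GrpObj X]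
  (K : Type u) [Field K] [Algebra k K]

/-- A point of the base change fixes the base change of a class iff it is additive for the class. -/
theorem fixed_bc_iff (l : PicLoc.PicSet X.left)
    (y : 𝟙_ (Over (Spec (CommRingCat.of K))) ⟶ Red.bc (Spec.map (CommRingCat.ofHom (algebraMap k K))) X) :
    opull (𝟙 _ * (toUnit _ ≫ y)) (pull (pullback.fst X.hom (Spec.map (CommRingCat.ofHom (algebraMap k K)))) l) =
        pull (pullback.fst X.hom (Spec.map (CommRingCat.ofHom (algebraMap k K)))) l ↔
      Mumford.Additive' l (Groth.Reductive.bcPointEquiv _ X _ y) := by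
  let t := Spec.map (CommRingCat.ofHom (algebraMap k K))
  let T := (Over.map t).obj (𝟙_ (Over (Spec (CommRingCat.of K))))
  let z : T ⟶ X := Groth.Reductive.bcPointEquiv t X _ y
  let P := (Over.map t).obj (Red.bc t X)
  let pA : P ⟶ X := Groth.Reductive.bcPointEquiv t X _ (𝟙 (Red.bc t X))
  let pT : P ⟶ T := (Over.map t).map (toUnit (Red.bc t X))
  let c : P ⟶ X ⊗ T := lift pA pT
  have hA : pA.left = pullback.fst X.hom t := by
    simp [pA, Groth.Reductive.bcPointEquiv, Adjunction.homEquiv_counit]
  have hleft : ∀ (w : Red.bc t X ⟶ Red.bc t X), opull w (pull (pullback.fst X.hom t) l) =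
      pull (Groth.Reductive.bcPointEquiv t X _ w).left l := fun w => by
    rw [show (Groth.Reductive.bcPointEquiv t X _ w).left = w.left ≫ pullback.fst X.hom t by
      simp [Groth.Reductive.bcPointEquiv, Adjunction.homEquiv_counit], pull_comp]
  have hm : Groth.Reductive.bcPointEquiv t X _ (𝟙 (Red.bc t X) * (toUnit _ ≫ y)) =
      c ≫ (fst X T * (snd X T ≫ z)) := by
    rw [_root_.map_mul, Groth.Reductive.bcPointEquiv_comp, MonObj.comp_mul, lift_fst, lift_snd_assoc]
  let r : (X ⊗ T).left ⟶ P.left := pullback.lift (fst X T).left (snd X T).left (by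
    refine (pullback.condition (f := X.hom) (g := T.hom)).trans ?_
    exact congrArg ((snd X T).left ≫ ·) (Category.id_comp t))
  have hrc : r ≫ c.left = 𝟙 _ := by
    refine pullback.hom_ext ?_ ?_
    · rw [Category.assoc, show c.left ≫ pullback.fst X.hom T.hom = pA.left from
        congrArg Over.Hom.left (lift_fst pA pT), hA]
      exact (pullback.lift_fst _ _ _).trans (Category.id_comp _).symm
    · rw [Category.assoc, show c.left ≫ pullback.snd X.hom T.hom = pT.left from
        congrArg Over.Hom.left (lift_snd pA pT)]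
      exact (pullback.lift_snd _ _ _).trans (Category.id_comp _).symm
  have hinj : Function.Injective (pull c.left) := fun a b h => by
    have h' := congrArg (pull r) h
    rwa [← pull_comp, ← pull_comp, hrc, pull_id, pull_id] at h'
  have : Subsingleton ↥T.left := inferInstanceAs (Subsingleton (PrimeSpectrum K))
  have h1 : opull (snd X T ≫ z) l = 1 := by
    rw [opull_comp, eq_one_of_subsingleton (opull z l), map_one]
  rw [Mumford.Additive', h1, _root_.mul_one, hleft, hm, Over.comp_left, pull_comp,
    show pull (pullback.fst X.hom t) l = pull c.left (opull (fst X T) l) by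
      rw [← hA, ← pull_comp, ← Over.comp_left, lift_fst]]
  exact hinj.eq_iff

/-- The points of the base change of `K(L)` are the points fixing the class. -/
theorem exists_lift_bc_iff {L : X.left.Modules} (hL : PicF.IsInvertible L)
    {Y : Over (Spec (CommRingCat.of k))} {i : Y ⟶ X} (hK : ThetaGrp.IsKL X L i)
    (y : 𝟙_ (Over (Spec (CommRingCat.of K))) ⟶ Red.bc (Spec.map (CommRingCat.ofHom (algebraMap k K))) X) :
    (∃ v, v ≫ (Over.pullback (Spec.map (CommRingCat.ofHom (algebraMap k K)))).map i = y) ↔
      opull (𝟙 _ * (toUnit _ ≫ y))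
          (pull (pullback.fst X.hom (Spec.map (CommRingCat.ofHom (algebraMap k K)))) (cls hL)) =
        pull (pullback.fst X.hom (Spec.map (CommRingCat.ofHom (algebraMap k K)))) (cls hL) := by
  let adj := Over.mapPullbackAdj (Spec.map (CommRingCat.ofHom (algebraMap k K)))
  rw [fixed_bc_iff, ← Mumford.additive'_iff L hL hK]
  constructor
  · rintro ⟨v, rfl⟩
    exact ⟨(adj.homEquiv _ _).symm v, (adj.homEquiv_naturality_right_symm v i).symm⟩
  · rintro ⟨v, hv⟩
    refine ⟨adj.homEquiv _ _ v, ?_⟩
    rw [← adj.homEquiv_naturality_right, hv]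
    exact (adj.homEquiv _ _).apply_symm_apply y

end BaseChange

end Groth.AbvarAmple
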