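import Groth.Agent.AbvarAmple.KLBaseChange
import Groth.Agent.AbvarAmple.DropSplit
import Groth.Agent.AbvarAmple.FixedComponent
import Groth.Agent.AbvarAmple.Complement

/-!
# The dimension of `K(L)` and the multiplicity of the root `0`
-/

universe u

open CategoryTheory Limits MonoidalCategory CartesianMonoidalCategory MonObj GrpObj AlgebraicGeometry

namespace Groth.AbvarAmple

open Groth.Abvar Groth.Abvar.PicCalc

set_option backward.isDefEq.respectTransparency false in
/-- **The dimension of `K(L)` is the multiplicity of the root `0` of the Hilbert polynomial.** -/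
theorem topologicalKrullDim_KL_eq {k : Type u} [Field k] {X : Over (Spec (CommRingCat.of k))} [GrpObj X] [IsProper X.hom] [GeometricallyIntegral X.hom]
    {L : X.left.Modules} (hL : PicF.IsInvertible L) {K : Over (Spec (CommRingCat.of k))} {i : K ⟶ X}
    (hK : ThetaGrp.IsKL X L i) {H : X.left.Modules} (hH : CohB1.IsAmple H) {Φ : Polynomial ℚ}
    (hΦ : ∀ n : ℕ, Φ.eval (n : ℚ) = (chi (cls hL * cls hH.1 ^ n) : ℚ)) :
    topologicalKrullDim ↥K.left = ((Φ.rootMultiplicity 0 : ℕ) : WithBot ℕ∞) := by
  obtain ⟨g, hg⟩ := Groth.FibreDim.exists_dim_eq_nat X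
  let k' := AlgebraicClosure k
  let t : Spec (CommRingCat.of k') ⟶ Spec (CommRingCat.of k) :=
    Spec.map (CommRingCat.ofHom (algebraMap k k'))
  let F := Over.pullback t
  let p : (Red.bc t X).left ⟶ X.left := Limits.pullback.fst X.hom t
  have : IsProper (Red.bc t X).hom := inferInstanceAs (IsProper (Limits.pullback.snd X.hom t))
  have : GeometricallyIntegral (Red.bc t X).hom :=
    inferInstanceAs (GeometricallyIntegral (Limits.pullback.snd X.hom t))
  have := Groth.GrpschAbsch.isCommMonObj_of_isProper (Red.bc t X)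
  have hgK : topologicalKrullDim (Red.bc t X).left = g :=
    (topologicalKrullDim_baseChange (X := X) k').trans hg
  have : IsAffineHom p := MorphismProperty.pullback_fst _ _ inferInstance
  have hHK : CohB1.IsAmple ((Scheme.Modules.pullback p).obj H) :=
    Groth.Chow.isAmple_pullback_of_isAffineHom _ hH
  have hc : cls hHK.1 = pull p (cls hH.1) := (pull_cls p hH.1).symm
  have hcl : cls (PicLoc.isInvertible_pullback p hL) = pull p (cls hL) := (pull_cls p hL).symm
  obtain ⟨B, _, j, _, _, _, _, hadd, S, hS, hFix⟩ :=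
    exists_additive_subvariety (X := Red.bc t X) (PicLoc.isInvertible_pullback p hL)
  obtain ⟨Z, _, jZ, _, _, _, _, _⟩ := exists_complement (X := Red.bc t X) j
  obtain ⟨d, hd⟩ := Groth.FibreDim.exists_dim_eq_nat B
  rw [hcl] at hadd hFix
  rw [rootMultiplicity_zero_eq_dim j jZ hgK hd hHK hadd hS hFix (Φ := Φ) fun n => by
    rw [hc, ← map_pow, ← map_mul]
    exact (hΦ n).trans (congrArg _ (chi_bc (X := X) k' _).symm), ← hd]
  have : IsClosedImmersion i.left := hK.1
  have : IsProper K.hom := by
    rw [← Over.w i]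
    infer_instance
  have : IsProper (F.obj K).hom := inferInstanceAs (IsProper (Limits.pullback.snd K.hom t))
  have : IsClosedImmersion (F.map i).left :=
    MorphismProperty.overPullbackMap (P := @IsClosedImmersion) t i hK.1
  rw [← topologicalKrullDim_baseChange (X := K) k']
  refine topologicalKrullDim_eq_of_points (K := F.obj K) (B := B) (F.map i) j (fun w => ?_) hS fun v => ?_
  · refine (exists_lift_bc_iff k' hL hK (w ≫ j)).2 ((fixed_iff_additive' _ _).2 ?_)
    have e := congrArg (opull (Red.bc t X ◁ w)) hadd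
    simp only [map_mul, ← opull_comp, MonObj.comp_mul, whiskerLeft_fst, whiskerLeft_snd_assoc] at e
    exact e
  · obtain ⟨f, hf, w, hw⟩ := hFix (v ≫ F.map i) ((exists_lift_bc_iff k' hL hK _).1 ⟨v, rfl⟩)
    exact ⟨f, hf, w, hw⟩

end Groth.AbvarAmple
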