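import Groth.Agent.Abvar.Dual.PicZero
import Groth.Agent.Abvar.Mumford
import Groth.Agent.AbvarAmple.ClosedCover

/-!
# `K(L)` is the kernel of `φ_L`
-/

universe u

open CategoryTheory Limits MonoidalCategory CartesianMonoidalCategory MonObj GrpObj AlgebraicGeometry

namespace Groth.AbvarAmple

open Groth.Abvar Groth.Abvar.PicCalc

variable {k : Type u} [Field k] {X T : Over (Spec (CommRingCat.of k))} [GrpObj X]

/-- The Mumford class of `c` along the point `z`. -/
noncomputable def mum (c : PicLoc.PicSet X.left) (z : T ⟶ X) :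
    PicLoc.PicSet ((Over.pullback T.hom).obj X).left :=
  opull (fst X T * (snd X T ≫ z)) c / (opull (fst X T) c * opull (snd X T ≫ z) c)

theorem mum_eq_one_iff (c : PicLoc.PicSet X.left) (z : T ⟶ X) :
    mum c z = 1 ↔ Mumford.Additive' c z := div_eq_one

theorem pull_XTmap_mum {T' : Over (Spec (CommRingCat.of k))} (c : PicLoc.PicSet X.left) (g : T' ⟶ T)
    (z : T ⟶ X) : pull (PicF.XTmap X.hom g) (mum c z) = mum c (g ≫ z) := by
  have hg : PicF.XTmap X.hom g = (X ◁ g).left := by
    refine pullback.hom_ext ?_ ?_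
    · rw [show (X ◁ g).left ≫ pullback.fst X.hom T.hom = (fst X T').left from
        congrArg Over.Hom.left (whiskerLeft_fst X g)]
      exact (pullback.lift_fst _ _ _).trans (Category.comp_id _)
    · rw [show (X ◁ g).left ≫ pullback.snd X.hom T.hom = (snd X T' ≫ g).left from
        congrArg Over.Hom.left (whiskerLeft_snd X g)]
      exact pullback.lift_snd _ _ _
  rw [hg]
  show opull (X ◁ g) (mum c z) = _
  simp only [mum, map_div, map_mul, ← opull_comp, MonObj.comp_mul, whiskerLeft_fst,
    whiskerLeft_snd_assoc]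

set_option backward.isDefEq.respectTransparency.types false in
/-- The Mumford class lies in `Pic⁰`. -/
theorem p0_mum [IsProper X.hom] [GeometricallyIntegral X.hom] (c : PicLoc.PicSet X.left) (z : T ⟶ X) :
    Dual.P0 X T (mum c z) := by
  obtain ⟨N, hN, hNc⟩ := PicGrp.exists_eq_cls (mum c (𝟙 X))
  have hz : mum c z = cls (PicLoc.isInvertible_pullback (PicF.XTmap X.hom z) hN) := by
    rw [← pull_cls _ hN, ← Category.comp_id z]
    conv_lhs => rw [← pull_XTmap_mum c z (𝟙 X)]
    rw [hNc, Category.comp_id]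
  rw [hz, Dual.p0_iff]
  intro t Ω _ _ σ hσ
  let π : pullback X.hom T.hom ⟶ T.left := pullback.snd X.hom T.hom
  let q : pullback π σ ⟶ Spec (CommRingCat.of Ω) := pullback.snd π σ
  let F : pullback π σ ⟶ pullback X.hom T.hom := pullback.fst π σ
  let x : pullback π σ ⟶ X.left := F ≫ pullback.fst X.hom T.hom
  have hx : x ≫ X.hom = q ≫ σ ≫ T.hom := by
    simp only [x, q, F, π, Category.assoc]
    rw [pullback.condition, ← Category.assoc, ← Category.assoc]
    exact congrArg (· ≫ T.hom) pullback.condition |>.trans (Category.assoc _ _ _)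
  have hF : F ≫ π = q ≫ σ := pullback.condition
  let G : @Pic13.prodK Ω _ (pullback π σ) ⟨q⟩ _ q ⟶ pullback X.hom X.hom :=
    pullback.lift (pullback.fst q q ≫ x) (pullback.snd q q ≫ x)
      ((Category.assoc _ _ _).trans ((congrArg (pullback.fst q q ≫ ·) hx).trans
        ((pullback.condition_assoc _).trans ((congrArg (pullback.snd q q ≫ ·) hx).symm.trans
          (Category.assoc _ _ _).symm))))
  have hzT : z.left ≫ X.hom = T.hom := Over.w z
  have hzo : η[X].left ≫ X.hom = 𝟙 _ := Over.w η[X]
  let a : Spec (CommRingCat.of Ω) ⟶ pullback π σ :=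
    pullback.lift (pullback.lift (σ ≫ z.left) σ (by rw [Category.assoc, hzT])) (𝟙 _)
      (by rw [pullback.lift_snd, Category.id_comp])
  let b : Spec (CommRingCat.of Ω) ⟶ pullback π σ :=
    pullback.lift (pullback.lift (σ ≫ T.hom ≫ η[X].left) σ
      (by rw [Category.assoc, Category.assoc, hzo]; exact congrArg (σ ≫ ·) (Category.comp_id _))) (𝟙 _)
      (by rw [pullback.lift_snd, Category.id_comp])
  have ha : a ≫ q = 𝟙 _ := pullback.lift_snd _ _ _
  have hb : b ≫ q = 𝟙 _ := pullback.lift_snd _ _ _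
  have hax : a ≫ x = σ ≫ z.left := by
    simp only [a, x, F]
    rw [← Category.assoc, pullback.lift_fst, pullback.lift_fst]
  have hbx : b ≫ x = σ ≫ T.hom ≫ η[X].left := by
    simp only [b, x, F]
    rw [← Category.assoc, pullback.lift_fst, pullback.lift_fst]
  have : IsProper π := inferInstanceAs (IsProper (pullback.snd _ _))
  have : GeometricallyIntegral π := inferInstanceAs (GeometricallyIntegral (pullback.snd _ _))
  have : IsProper q := inferInstanceAs (IsProper (pullback.snd _ _))
  have : GeometricallyIntegral q := inferInstanceAs (GeometricallyIntegral (pullback.snd _ _))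
  have : Subsingleton ↥(Spec (CommRingCat.of Ω)) := inferInstanceAs (Subsingleton (PrimeSpectrum Ω))
  have := GeometricallyIntegral.isIntegral_of_subsingleton q
  refine ⟨pullback π σ, q, inferInstance, inferInstance, inferInstance,
    (Scheme.Modules.pullback G).obj N, PicLoc.isInvertible_pullback _ hN, a, b, ha, hb, ?_, ?_⟩
  · refine ⟨(Scheme.Modules.pullbackComp _ G).app N ≪≫
      (Scheme.Modules.pullbackCongr ?_).app N ≪≫
      ((Scheme.Modules.pullbackComp F (PicF.XTmap X.hom z)).app N).symm⟩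
    refine pullback.hom_ext ?_ ?_
    · simp only [G, Pic13.sliceAt, Category.assoc, PicF.XTmap]
      rw [pullback.lift_fst]
      erw [pullback.lift_fst_assoc, pullback.lift_fst]
      rw [Category.id_comp, Category.comp_id]
    · simp only [G, Pic13.sliceAt, Category.assoc, PicF.XTmap]
      rw [pullback.lift_snd]
      erw [pullback.lift_snd_assoc, pullback.lift_snd]
      rw [Category.assoc, hax, ← Category.assoc, ← Category.assoc]
      exact congrArg (· ≫ z.left) hF.symm
  · let S₀ : X.left ⟶ pullback X.hom X.hom := (lift (𝟙 X) (1 : X ⟶ X)).left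
    have h0 : pull S₀ (cls hN) = 1 := by
      show pull S₀ (PicGrp.cls N hN) = 1
      rw [← hNc]
      show opull (lift (𝟙 X) (1 : X ⟶ X)) (mum c (𝟙 X)) = 1
      simp only [mum, map_div, map_mul, ← opull_comp, MonObj.comp_mul, lift_fst, lift_snd, lift_snd_assoc,
        Category.comp_id, _root_.mul_one, opull_one, opull_id, div_self']
    obtain ⟨e0⟩ : Nonempty ((Scheme.Modules.pullback S₀).obj N ≅ Coh.structureModule X.left) :=
      (nonempty_iso_structure_iff (PicLoc.isInvertible_pullback _ hN)).2 (by rw [← pull_cls _ hN, h0])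
    obtain ⟨e1⟩ := PicAux.pullback_structure_iso x
    refine ⟨(Scheme.Modules.pullbackComp _ G).app N ≪≫
      (Scheme.Modules.pullbackCongr ?_).app N ≪≫
      ((Scheme.Modules.pullbackComp x S₀).app N).symm ≪≫ (Scheme.Modules.pullback x).mapIso e0 ≪≫ e1⟩
    have hS1 : S₀ ≫ pullback.fst X.hom X.hom = 𝟙 _ :=
      congrArg Over.Hom.left (lift_fst (𝟙 X) (1 : X ⟶ X))
    have hS2 : S₀ ≫ pullback.snd X.hom X.hom = X.hom ≫ η[X].left := by
      rw [show S₀ ≫ pullback.snd X.hom X.hom = (1 : X ⟶ X).left from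
        congrArg Over.Hom.left (lift_snd (𝟙 X) (1 : X ⟶ X)), Hom.one_def, Over.comp_left, Over.toUnit_left]
    refine pullback.hom_ext ?_ ?_
    · simp only [G, Pic13.sliceAt, Category.assoc]
      rw [pullback.lift_fst, hS1]
      erw [pullback.lift_fst_assoc]
      rw [Category.id_comp, Category.comp_id]
    · simp only [G, Pic13.sliceAt, Category.assoc]
      rw [pullback.lift_snd, hS2]
      erw [pullback.lift_snd_assoc]
      rw [Category.assoc, hbx, ← Category.assoc x X.hom, hx]
      simp only [Category.assoc]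
      rfl

variable {Xt : Over (Spec (CommRingCat.of k))} [GrpObj Xt]
  {φ : ∀ T : Over (Spec (CommRingCat.of k)), PicF.Cl (PicF.XT X.hom T) → (T ⟶ Xt)}
  (hφ : AbDual.IsDualAV Scheme.fppfPrecoverage X Xt φ) {L : X.left.Modules} (hL : PicF.IsInvertible L)
  {lam : X ⟶ Xt} (hlam : AgPol.IsLambda X Xt φ L lam)

include hlam hL in
theorem phi_mum_id : φ X (mum (cls hL) (𝟙 X)).1 = lam := by
  obtain ⟨N, hN, hNL, rfl⟩ := hlam
  have e : mum (cls hL) (𝟙 X) = cls hN := by
    obtain ⟨i⟩ := hNL
    have hp := PicLoc.isInvertible_pullback (fst X X).left hL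
    have hq := PicLoc.isInvertible_pullback (snd X X).left hL
    have h := (nonempty_iso_iff (isInvertible_tensorMod (isInvertible_tensorMod hN hp) hq)
      (PicLoc.isInvertible_pullback _ hL)).mp ⟨i⟩
    rw [cls_tensorMod (isInvertible_tensorMod hN hp) hq, cls_tensorMod hN hp, ← pull_cls _ hL,
      ← pull_cls _ hL, ← pull_cls _ hL] at h
    rw [mum, Category.comp_id, div_eq_iff_eq_mul, ← _root_.mul_assoc,
      show fst X X * snd X X = μ[X] by rw [Hom.mul_def, lift_fst_snd, Category.id_comp]]
    exact h.symm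
  rw [e]
  rfl

include hφ hL hlam in
theorem phi_mum [IsProper X.hom] [GeometricallyIntegral X.hom] (z : T ⟶ X) :
    φ T (mum (cls hL) z).1 = z ≫ lam := by
  conv_lhs => rw [← Category.comp_id z, ← pull_XTmap_mum (cls hL) z (𝟙 X)]
  rw [Dual.phi_natural hφ z (p0_mum _ _), phi_mum_id hL hlam]

include hφ hL hlam in
theorem isKernel_KL [IsProper X.hom] [GeometricallyIntegral X.hom]
    {K : Over (Spec (CommRingCat.of k))} {i : K ⟶ X} (hK : ThetaGrp.IsKL X L i) :
    AlgGrp.IsKernel i lam := by
  have : IsClosedImmersion i.left := hK.1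
  have : Mono i := Over.mono_of_mono_left i
  have hiff := fun {T : Over (Spec (CommRingCat.of k))} (z : T ⟶ X) =>
    Mumford.additive'_iff L hL hK z
  have hw : i ≫ lam = toUnit K ≫ η[Xt] := by
    rw [← phi_mum hφ hL hlam i, (mum_eq_one_iff _ _).2 ((hiff i).1 ⟨𝟙 K, Category.id_comp i⟩),
      Dual.phi_one hφ, Hom.one_def]
  have key : ∀ {T : Over (Spec (CommRingCat.of k))} (z : T ⟶ X), z ≫ lam = toUnit T ≫ η[Xt] →
      ∃ y : T ⟶ K, y ≫ i = z := by
    intro T z hz
    obtain ⟨R, hR, hR'⟩ := hφ.relPic.locallyInjective T (mum (cls hL) z).1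
      (1 : PicLoc.PicSet ((Over.pullback T.hom).obj X).left).1 (p0_mum _ z) Dual.p0_one
      (by rw [phi_mum hφ hL hlam z, hz, Dual.phi_one hφ, Hom.one_def])
    have hfac : ∀ t : T.left, ∃ (U : Scheme.{u}) (u : U ⟶ T.left) (a : U),
        Flat u ∧ u a = t ∧ ∃ y : AbDual.ovr T u ⟶ K, y ≫ i = AbDual.ovrHom T u ≫ z := by
      intro t
      obtain ⟨_, _, @⟨U, u, hu⟩, w, rfl⟩ := (Types.mem_jointlySurjectivePrecoverage_iff.1 hR.1) t
      refine ⟨U, u, w, (hR.2 hu).1, rfl, (hiff _).2 ((mum_eq_one_iff _ _).1 ?_)⟩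
      have h1 : pull (PicF.XTmap X.hom (AbDual.ovrHom T u)) (mum (cls hL) z) =
          pull (PicF.XTmap X.hom (AbDual.ovrHom T u)) 1 := Subtype.ext (hR' u hu)
      rwa [map_one, pull_XTmap_mum] at h1
    have : IsIso (pullback.snd i.left z.left) := by
      refine isIso_of_flat_cover _ fun t => ?_
      obtain ⟨U, u, a, hf, ha, y, hy⟩ := hfac t
      exact ⟨U, u, pullback.lift y.left u (congrArg Over.Hom.left hy), a, hf, pullback.lift_snd _ _ _, ha⟩
    have h : (inv (pullback.snd i.left z.left) ≫ pullback.fst i.left z.left) ≫ i.left = z.left := by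
      rw [Category.assoc, pullback.condition, IsIso.inv_hom_id_assoc]
    refine ⟨Over.homMk (inv (pullback.snd i.left z.left) ≫ pullback.fst i.left z.left) ?_,
      Over.OverMorphism.ext h⟩
    rw [← Over.w i, ← Category.assoc, h, Over.w z]
  refine ⟨⟨hw⟩, ⟨PullbackCone.IsLimit.mk _ (fun s => (key s.fst (s.condition.trans
    (congrArg (· ≫ η[Xt]) (toUnit_unique _ _)))).choose) (fun s => ?_)
    (fun s => toUnit_unique _ _) (fun s m h1 _ => ?_)⟩⟩
  · exact (key s.fst (s.condition.trans
      (congrArg (· ≫ η[Xt]) (toUnit_unique _ _)))).choose_spec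
  · rw [← cancel_mono i]
    exact h1.trans (key s.fst (s.condition.trans
      (congrArg (· ≫ η[Xt]) (toUnit_unique _ _)))).choose_spec.symm

end Groth.AbvarAmple
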