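import Groth.Agent.QCohMod.ClosedImm
import Groth.Agent.PicAux.Sections
import Mathlib.RingTheory.Length

/-!
# Modules of length one at a rational point
-/

universe u

open CategoryTheory Limits AlgebraicGeometry TopologicalSpace Opposite

namespace Groth.AbvarAmple

open Groth.QCohMod

variable {k : Type u} [Field k] {S : Scheme.{u}} (j : Spec (CommRingCat.of k) ⟶ S) [IsClosedImmersion j]
  (G : S.Modules) [G.IsQuasicoherent]

/-- A quasi-coherent module of length one at a rational point is the skyscraper there. -/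
theorem nonempty_iso_push_of_length
    (h0 : ∀ W : S.Opens, IsAffineOpen W → j (IsLocalRing.closedPoint k) ∉ W → Subsingleton Γ(G, W))
    (h1 : ∀ W : S.Opens, IsAffineOpen W → j (IsLocalRing.closedPoint k) ∈ W →
      Module.length Γ(S, W) Γ(G, W) = 1) :
    Nonempty (G ≅ (Coh.push j).obj (Coh.structureModule (Spec (CommRingCat.of k)))) := by
  have hsimple : ∀ W : S.Opens, IsAffineOpen W → j (IsLocalRing.closedPoint k) ∈ W →
      IsSimpleModule Γ(S, W) Γ(G, W) := fun W hW hz => Module.length_eq_one_iff.1 (h1 W hW hz)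
  have hpt : ∀ p : ↥(Spec (CommRingCat.of k)), p = IsLocalRing.closedPoint k := fun p =>
    Subsingleton.elim (α := PrimeSpectrum k) _ _
  have hkill : ∀ (U : S.affineOpens) (a : Γ(S, U.1)), a ∈ j.ker.ideal U → ∀ s : Γ(G, U.1), a • s = 0 := by
    rintro ⟨U, hU⟩ a ha s
    by_cases hz : j (IsLocalRing.closedPoint k) ∈ U
    swap
    · exact @Subsingleton.elim _ (h0 U hU hz) _ _
    have := hsimple U hU hz
    have hz' : j (IsLocalRing.closedPoint k) ∉ S.basicOpen a := fun h => by
      have h' : IsLocalRing.closedPoint k ∈ (Spec (CommRingCat.of k)).basicOpen (j.app U a) := by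
        rw [← Scheme.preimage_basicOpen]; exact h
      rw [Scheme.Hom.ker_apply j ⟨U, hU⟩] at ha
      rw [show j.app U a = 0 from ha, Scheme.basicOpen_zero] at h'
      exact h'.elim
    obtain ⟨n, hn⟩ := exists_pow_smul_eq_zero G hU a s
      (@Subsingleton.elim _ (h0 _ (hU.basicOpen a) hz') _ _)
    by_contra hne
    have hker : LinearMap.ker (LinearMap.lsmul Γ(S, U) Γ(G, U) a) = ⊥ :=
      (IsSimpleOrder.eq_bot_or_eq_top _).resolve_right fun h => hne (LinearMap.mem_ker.1 (h.ge (Submodule.mem_top (x := s))))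
    have hs : ∀ m : ℕ, a ^ m • s = 0 → s = 0 := by
      intro m hm
      induction m with
      | zero => rwa [pow_zero, one_smul] at hm
      | succ m ih =>
        refine ih ((LinearMap.ker_eq_bot'.1 hker) _ ?_)
        rwa [LinearMap.lsmul_apply, smul_smul, ← pow_succ']
    exact hne (by rw [hs n hn, smul_zero])
  let unit := (Scheme.Modules.pullbackPushforwardAdjunction j).unit.app G
  have hiso : IsIso unit := (isIso_unit_closedImmersion_iff j G).2 hkill
  let N := (Scheme.Modules.pullback j).obj G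
  suffices Nonempty (N ≅ Coh.structureModule (Spec (CommRingCat.of k))) from
    this.map fun e => (@asIso _ _ _ _ unit hiso) ≪≫ (Coh.push j).mapIso e
  obtain ⟨_, ⟨V, hV, rfl⟩, hzV, -⟩ := S.isBasis_affineOpens.exists_subset_of_mem_open
    (Set.mem_univ (j (IsLocalRing.closedPoint k))) isOpen_univ
  have hpre : j ⁻¹ᵁ V = ⊤ := top_le_iff.1 fun p _ => by rw [hpt p]; exact hzV
  have hb : Function.Bijective (unit.app V) := ConcreteCategory.bijective_of_isIso (unit.app V)
  have := hsimple V hV hzV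
  have : Nontrivial Γ(G, V) := IsSimpleModule.nontrivial Γ(S, V) _
  obtain ⟨m₀, hm₀⟩ := exists_ne (0 : Γ(G, V))
  have key : ∀ W₀ : (Spec (CommRingCat.of k)).Opens, W₀ = ⊤ → (∃ s : Γ(N, W₀), PicAux.Gen N W₀ s) →
      Nonempty (N ≅ Coh.structureModule (Spec (CommRingCat.of k))) := by
    rintro _ rfl h
    exact PicAux.nonempty_iso_structure_iff.2 h
  let s₀ : Γ(N, j ⁻¹ᵁ V) := unit.app V m₀
  refine key _ hpre ⟨s₀, fun W hW => ?_⟩
  rcases eq_or_ne W ⊥ with hbot | hbot
  · haveI : Subsingleton Γ(N, W) := ⟨fun _ _ => Groth.PicAux.res_ext (fun i : PEmpty.{1} => i.elim)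
      (fun i => i.elim) (fun x hx => (hbot.le hx).elim) fun i => i.elim⟩
    haveI : Subsingleton Γ(Spec (CommRingCat.of k), W) :=
      ⟨fun _ _ => (Spec (CommRingCat.of k)).sheaf.eq_of_locally_eq' (fun i : PEmpty.{1} => i.elim) W
        (fun i => i.elim) (fun x hx => (hbot.le hx).elim) _ _ fun i => i.elim⟩
    exact ⟨fun _ _ _ => Subsingleton.elim _ _, fun t => ⟨0, Subsingleton.elim _ _⟩⟩
  have hW' : W = j ⁻¹ᵁ V := by
    refine le_antisymm hW fun p _ => ?_
    obtain ⟨q, hq⟩ : (W : Set ↥(Spec (CommRingCat.of k))).Nonempty :=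
      Set.nonempty_iff_ne_empty.2 fun h => hbot (SetLike.coe_injective h)
    rw [hpt p, ← hpt q]
    exact hq
  subst hW'
  have hres : PicAux.res N hW s₀ = s₀ := PicAux.res_self _ _
  simp only [hres]
  have hsmul : ∀ (a : Γ(S, V)) (m : Γ(G, V)), (show Γ(N, j ⁻¹ᵁ V) from unit.app V (a • m)) =
      j.app V a • (show Γ(N, j ⁻¹ᵁ V) from unit.app V m) := fun a m => PicAux.pullSec_smul j G a m
  have hfld : IsField Γ(Spec (CommRingCat.of k), j ⁻¹ᵁ V) := by
    rw [hpre]
    exact MulEquiv.isField (Field.toIsField k) (Scheme.ΓSpecIso (CommRingCat.of k)).commRingCatIsoToRingEquiv.toMulEquiv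
  refine ⟨(injective_iff_map_eq_zero (LinearMap.toSpanSingleton _ _ s₀)).2 fun r hr => ?_, fun t => ?_⟩
  · by_contra hr0
    obtain ⟨r', hr'⟩ := hfld.mul_inv_cancel hr0
    refine hm₀ (hb.1 ((?_ : s₀ = 0).trans (map_zero _).symm))
    rw [← one_smul Γ(Spec (CommRingCat.of k), j ⁻¹ᵁ V) s₀, ← hr', mul_comm, ← smul_smul,
      show r • s₀ = 0 from hr, smul_zero]
  · obtain ⟨m, rfl⟩ := hb.2 t
    obtain ⟨a, rfl⟩ := IsSimpleModule.toSpanSingleton_surjective Γ(S, V) hm₀ m
    exact ⟨j.app V a, (hsmul a m₀).symm⟩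

end Groth.AbvarAmple
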