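import Groth.Agent.AbvarAmple.PoincareModel
import Groth.Agent.AbvarAmple.PunctualPush
import Groth.Agent.S1525
import Groth.Agent.Inter.Push
import Groth.Agent.EulerDeg.Basic

/-!
# The cohomology of the Poincaré class
-/

universe u

open CategoryTheory Limits MonoidalCategory CartesianMonoidalCategory MonObj GrpObj AlgebraicGeometry

namespace Groth.AbvarAmple.Poincare

open Groth.Abvar Groth.Abvar.PicCalc Groth.CohBase Groth.CohBase.CxRank

variable {k : Type u} [Field k] {A At : Over (Spec (CommRingCat.of k))} [GrpObj A] [IsProper A.hom]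
  [GeometricallyIntegral A.hom] [LocallyOfFinitePresentation A.hom] [GrpObj At] [IsProper At.hom]
  [GeometricallyIntegral At.hom] [IsLocallyNoetherian At.left]
  {φ : ∀ T : Over (Spec (CommRingCat.of k)), PicF.Cl (PicF.XT A.hom T) → (T ⟶ At)}
  (hφ : AbDual.IsDualAV Scheme.fppfPrecoverage A At φ)
  {P : (pullback A.hom At.hom).Modules} (hP : PicF.IsInvertible P)
  (hξ : AbDual.IsPoincareCl A At φ (PicF.cl P))
  [HasInjectiveResolutions (pullback A.hom At.hom).Modules]

omit [IsLocallyNoetherian At.left] in
/-- A module with no sections over affine opens vanishes. -/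
theorem isZero_of_affine {G : At.left.Modules}
    (h : ∀ W : At.left.Opens, IsAffineOpen W → Subsingleton Γ(G, W)) : IsZero G := by
  have : IsIso (0 : G ⟶ G) := QCohMod.isIso_of_affine_bijective _ fun W hW => by
    have := h W hW
    exact ⟨fun _ _ _ => Subsingleton.elim _ _, fun t => ⟨0, Subsingleton.elim _ _⟩⟩
  rw [IsZero.iff_id_eq_zero, ← IsIso.hom_inv_id (0 : G ⟶ G), Limits.zero_comp]

set_option backward.isDefEq.respectTransparency false in
include hφ hP hξ in
/-- The cohomology and higher direct images of the Poincaré class. -/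
theorem cohomology {g : ℕ} (hg : topologicalKrullDim A.left = g) :
    topologicalKrullDim At.left = g ∧
    (∀ n : ℕ, n ≤ g → CohIII.fiberRank (pullback.snd A.hom At.hom) P n (pt η[At]) = g.choose n) ∧
    (∀ i : ℕ, i ≠ g → Subsingleton (Coh.HH (pullback A.hom At.hom) P i)) ∧
    @Module.finrank k (Coh.HH (pullback A.hom At.hom) P g) _ _
      (@Coh.moduleOver k _ (pullback A.hom At.hom) ⟨pullback.fst A.hom At.hom ≫ A.hom⟩ P g) = 1 ∧
    @Curv2.euler k _ (pullback A.hom At.hom) ⟨pullback.fst A.hom At.hom ≫ A.hom⟩ P = (-1) ^ g ∧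
    (∀ i : ℕ, i ≠ g → IsZero ((Coh.Rpush (pullback.snd A.hom At.hom) i).obj P)) ∧
    Nonempty ((Coh.Rpush (pullback.snd A.hom At.hom) g).obj P ≅
      (Coh.push η[At].left).obj (Coh.structureModule (Spec (CommRingCat.of k)))) := by
  let π : pullback A.hom At.hom ⟶ At.left := pullback.snd A.hom At.hom
  have : IsProper π := inferInstanceAs (IsProper (pullback.snd A.hom At.hom))
  have : IsProper ((Over.pullback At.hom).obj A).hom := inferInstanceAs (IsProper (pullback.snd A.hom At.hom))
  have : Flat π := inferInstanceAs (Flat (pullback.snd A.hom At.hom))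
  have : LocallyOfFinitePresentation π := inferInstanceAs (LocallyOfFinitePresentation (pullback.snd A.hom At.hom))
  have : HasInjectiveResolutions ((Over.pullback At.hom).obj A).left.Modules :=
    inferInstanceAs (HasInjectiveResolutions (pullback A.hom At.hom).Modules)
  have hξ' : AbDual.IsPoincareCl A At φ (cls (X := ((Over.pullback At.hom).obj A).left) hP).1 := hξ
  have hcoh : Coh.IsCoh P := EulerDeg.isCoh_of_isInvertible hP
  have : P.IsQuasicoherent := hcoh.1
  have hfl := Seesaw.isFlatOver_of_isInvertible π hP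
  obtain ⟨h, hh⟩ := Groth.FibreDim.exists_dim_eq_nat At
  obtain rfl : h = g := dim_dual_eq hφ hP hξ' hg hh
  refine ⟨hh, ?_⟩
  obtain ⟨_, ⟨V, hV, rfl⟩, hz, -⟩ := At.left.isBasis_affineOpens.exists_subset_of_mem_open
    (Set.mem_univ (pt η[At])) isOpen_univ
  have hout : ∀ p, ∀ y : At.left, y ∉ ({pt η[At]} : Set At.left) → Subsingleton (CohIII.fiberH π P y p) :=
    fun p y hy => subsingleton_fiberH hφ hP hξ' y hy p
  have habove : ∀ p, h < p → Subsingleton (CohIII.fiberH π P (pt η[At]) p) :=
    fun p hp => subsingleton_fiberH_above (A := A) (At := At) hg p hp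
  have hreg : IsRegularLocalRing (At.left.presheaf.stalk (pt η[At])) ∧
      ringKrullDim (At.left.presheaf.stalk (pt η[At])) = (h : WithBot ℕ∞) := by
    have := Groth.Abvar.isIntegral_left At
    refine ⟨Groth.AbVarMul.isRegularLocalRing_stalk_left (A := At) _, ?_⟩
    have e := Variety2.Dim.ringKrullDim_stalk_add_height At.hom (pt η[At])
    rw [Order.height_eq_zero.2 fun b hb => by
      have hb' : pt η[At] ⤳ b := hb
      rw [show b = pt η[At] from (isClosed_pt_unit (At := At)).closure_eq.le hb'.mem_closure], hh] at e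
    simpa using e
  have : CompactSpace At.left := CohFin.compactSpace_of_proper At.hom
  have : IsNoetherian At.left := {}
  have : TopologicalSpace.NoetherianSpace At.left := inferInstance
  have : At.left.IsSeparated := CohFin.isSeparated_of_proper At.hom
  have hvan : ∀ i : ℕ, i ≠ h → Subsingleton (Coh.HH (pullback A.hom At.hom) P i) := fun i hi =>
    subsingleton_HH_of_exceptional π (Groth.FlatStrata.isFP_of_isCoh hcoh) hfl (Set.finite_singleton _)
      (fun y hy => by rw [Set.mem_singleton_iff.1 hy]; exact isClosed_pt_unit) hV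
      (Set.singleton_subset_iff.2 hz) hout h
      (fun p hp y hy => by rw [Set.mem_singleton_iff.1 hy]; exact habove p hp)
      (fun y hy => by rw [Set.mem_singleton_iff.1 hy]; exact hreg) i hi
  have hsec : ∀ (i : ℕ) (W : At.left.Opens), IsAffineOpen W → (i ≠ h ∨ pt η[At] ∉ W) →
      Subsingleton Γ((Coh.Rpush π i).obj P, W) := by
    intro i W hW hor
    by_cases hzW : pt η[At] ∈ W
    · obtain ⟨L, hL, -, hHk, -⟩ := origin_model hφ hP hξ' hg hh hW hzW
      obtain ⟨e⟩ := hL.sections i
      have := hHk i (hor.resolve_right (not_not_intro hzW))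
      exact e.toEquiv.subsingleton
    · obtain ⟨L, hL⟩ := exists_isModel π P hW hcoh hfl
      obtain ⟨e⟩ := hL.sections i
      have := hL.subsingleton_Hk hW i fun y hy => hout i y fun hy' => hzW (Set.mem_singleton_iff.1 hy' ▸ hy)
      exact e.toEquiv.subsingleton
  have hzero : ∀ i : ℕ, i ≠ h → IsZero ((Coh.Rpush π i).obj P) := fun i hi =>
    isZero_of_affine fun W hW => hsec i W hW (Or.inl hi)
  have := isClosedImmersion_unit (At := At)
  have : ((Coh.Rpush π h).obj P).IsQuasicoherent := isQCoh_Rpush π h
  obtain ⟨iso⟩ := nonempty_iso_push_of_length η[At].left ((Coh.Rpush π h).obj P)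
    (fun W hW hzW => hsec h W hW (Or.inr hzW)) fun W hW hzW => by
      obtain ⟨L, hL, -, -, hlen⟩ := origin_model hφ hP hξ' hg hh hW hzW
      obtain ⟨e⟩ := hL.sections h
      exact e.length_eq.trans hlen
  let : (pullback A.hom At.hom).Over (Spec (CommRingCat.of k)) := ⟨pullback.fst A.hom At.hom ≫ A.hom⟩
  let : At.left.Over (Spec (CommRingCat.of k)) := ⟨At.hom⟩
  let : (Spec (CommRingCat.of k)).Over (Spec (CommRingCat.of k)) := ⟨𝟙 _⟩
  have : IsProper (At.left ↘ Spec (CommRingCat.of k)) := ‹IsProper At.hom›
  have : IsProper ((pullback A.hom At.hom) ↘ Spec (CommRingCat.of k)) :=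
    inferInstanceAs (IsProper (pullback.fst A.hom At.hom ≫ A.hom))
  have hpt : Curv2.euler k (Spec (CommRingCat.of k)) (Coh.structureModule _) = 1 := by
    have hd : topologicalKrullDim (Spec (CommRingCat.of k)) ≤ (0 : ℕ) :=
      le_of_eq ((PrimeSpectrum.topologicalKrullDim_eq_ringKrullDim k).trans (ringKrullDim_eq_zero_of_field k))
    have : TopologicalSpace.NoetherianSpace (Spec (CommRingCat.of k)).toTopCat :=
      inferInstanceAs (TopologicalSpace.NoetherianSpace (Spec (CommRingCat.of k)))
    unfold Curv2.euler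
    rw [finsum_eq_single _ 0 fun i hi => by
      have : Subsingleton (Coh.HH (Spec (CommRingCat.of k)) (Coh.structureModule _) i) :=
        Inter.Vanishing.subsingleton_H_of_dim_le (X := (Spec (CommRingCat.of k)).toTopCat) hd _ i
          (Nat.pos_of_ne_zero hi)
      simp [Module.finrank_zero_of_subsingleton], pow_zero, _root_.one_mul,
      VarietyBC.GlobalField.finrank_HH_zero k (Spec (CommRingCat.of k))]
    let f := Spec (CommRingCat.of k) ↘ Spec (CommRingCat.of k)
    letI := (f.appTop.hom.comp (Scheme.ΓSpecIso (CommRingCat.of k)).inv.hom :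
      k →+* Γ(Spec (CommRingCat.of k), ⊤)).toAlgebra
    have hid : IsIso f.appTop := inferInstanceAs (IsIso (Scheme.Γ.map (𝟙 (Spec (CommRingCat.of k))).op))
    have hb : Function.Bijective (algebraMap k Γ(Spec (CommRingCat.of k), ⊤)) :=
      (ConcreteCategory.bijective_of_isIso f.appTop).comp
        (Scheme.ΓSpecIso (CommRingCat.of k)).symm.commRingCatIsoToRingEquiv.bijective
    rw [← LinearEquiv.finrank_eq (LinearEquiv.ofBijective (Algebra.linearMap k _) hb),
      Module.finrank_self, Nat.cast_one]
  have heuler : Curv2.euler k (pullback A.hom At.hom) P = (-1) ^ h := by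
    rw [Groth.Agent.S1525.result k At.left (pullback A.hom At.hom) π pullback.condition.symm P hcoh,
      finsum_eq_single _ h fun i hi => by rw [Inter.euler_of_isZero k (hzero i hi), mul_zero],
      EulerDeg.euler_congr k iso, Inter.euler_push k η[At].left (Over.w η[At]) _]
    exact (congrArg ((-1 : ℤ) ^ h * ·) hpt).trans (_root_.mul_one _)
  refine ⟨fun n hn => ?_, hvan, ?_, heuler, hzero, ⟨iso⟩⟩
  · obtain ⟨L, -, hrk, -, -⟩ := origin_model hφ hP hξ' hg hh hV hz
    exact hrk n hn
  · have h1 := heuler
    unfold Curv2.euler at h1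
    rw [finsum_eq_single _ h fun i hi => by
      have := hvan i hi
      simp [Module.finrank_zero_of_subsingleton]] at h1
    have h2 := mul_left_cancel₀ (pow_ne_zero h (neg_ne_zero.2 one_ne_zero)) (h1.trans (_root_.mul_one _).symm)
    exact_mod_cast h2

end Groth.AbvarAmple.Poincare
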