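import Groth.Agent.AbvarAmple.InvariantVanish
import Groth.Agent.AbvarAmple.PhiSurj
import Groth.Agent.Abvar.Dual.EqOfPhi
import Groth.Agent.CohBase.UnitBC
import Groth.Agent.Abvar.Seesaw.GeomInt
import Groth.Agent.PicAux.RelPicSep

/-!
# The fibres of the Poincaré family
-/

universe u

open CategoryTheory Limits MonoidalCategory CartesianMonoidalCategory MonObj GrpObj AlgebraicGeometry

namespace Groth.AbvarAmple.Poincare

open Groth.Abvar Groth.Abvar.PicCalc

variable {k : Type u} [Field k] {A At : Over (Spec (CommRingCat.of k))} [GrpObj A] [IsProper A.hom]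
  [GeometricallyIntegral A.hom] [LocallyOfFinitePresentation A.hom] [GrpObj At] [IsProper At.hom]
  {φ : ∀ T : Over (Spec (CommRingCat.of k)), PicF.Cl (PicF.XT A.hom T) → (T ⟶ At)}
  (hφ : AbDual.IsDualAV Scheme.fppfPrecoverage A At φ)
  {P : ((Over.pullback At.hom).obj A).left.Modules} (hP : PicF.IsInvertible P)
  (hξ : AbDual.IsPoincareCl A At φ (cls hP).1)

omit [LocallyOfFinitePresentation A.hom] [IsProper At.hom] [IsProper A.hom] [GeometricallyIntegral A.hom] in
include hξ in
/-- The restrictions of a Poincaré class are rigidified. -/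
theorem rig_bc {T : Over (Spec (CommRingCat.of k))} (u : T ⟶ At) :
    pull (PicF.secT A.hom η[A].left (Over.w η[A]) T) (pull (PicF.XTmap A.hom u) (cls hP)) = 1 := by
  have hr : pull (PicF.secT A.hom η[A].left (Over.w η[A]) At) (cls hP) = 1 := Subtype.ext hξ.2.2
  rw [← pull_comp, Dual.secT_XTmap, pull_comp, hr, map_one]

omit [LocallyOfFinitePresentation A.hom] [IsProper At.hom] [IsProper A.hom] [GeometricallyIntegral A.hom] in
include hφ hξ in
/-- Only the neutral point has a trivial restriction of the Poincaré class. -/
theorem eq_one_of_pull {T : Over (Spec (CommRingCat.of k))} (u : T ⟶ At)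
    (h : pull (PicF.XTmap A.hom u) (cls hP) = 1) : u = 1 := by
  have e := Dual.phi_natural hφ u hξ.1
  rw [h, Dual.phi_one hφ, hξ.2.1, Category.comp_id] at e
  exact e.symm

omit [IsProper At.hom] in
include hφ hξ in
/-- The Poincaré class is trivial over the neutral point. -/
theorem pull_one (T : Over (Spec (CommRingCat.of k))) :
    pull (PicF.XTmap A.hom (1 : T ⟶ At)) (cls hP) = 1 := by
  refine Dual.EqOfPhi.eq_of_phi_eq hφ (Dual.P0.bc _ hξ.1) Dual.p0_one (rig_bc hP hξ _) (map_one _) ?_
  rw [Dual.phi_natural hφ _ hξ.1, Dual.phi_one hφ, hξ.2.1, Category.comp_id]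

omit [IsProper At.hom] in
include hξ in
/-- The restrictions of a Poincaré class are additive. -/
theorem additive {T : Over (Spec (CommRingCat.of k))} (u : T ⟶ At) :
    opull (fst (Red.bc T.hom A) (Red.bc T.hom A) * snd (Red.bc T.hom A) (Red.bc T.hom A))
        (pull (PicF.XTmap A.hom u) (cls hP)) =
      opull (fst (Red.bc T.hom A) (Red.bc T.hom A)) (pull (PicF.XTmap A.hom u) (cls hP)) *
        opull (snd (Red.bc T.hom A) (Red.bc T.hom A)) (pull (PicF.XTmap A.hom u) (cls hP)) := by
  let F := Over.pullback T.hom
  let μ' := Functor.LaxMonoidal.μ F A A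
  have h1 : μ' ≫ F.map (fst A A) = fst (F.obj A) (F.obj A) := Functor.Monoidal.μ_fst F A A
  have h2 : μ' ≫ F.map (snd A A) = snd (F.obj A) (F.obj A) := Functor.Monoidal.μ_snd F A A
  have h3 : μ' ≫ F.map (fst A A * snd A A) = fst (Red.bc T.hom A) (Red.bc T.hom A) * snd _ _ := by
    rw [Hom.mul_def, lift_fst_snd, Category.id_comp, Hom.mul_def, lift_fst_snd, Category.id_comp]
    rfl
  have e := congrArg (opull μ') (Dual.P0.mul_points_of_rig (Dual.P0.bc u hξ.1) (rig_bc hP hξ u)
    (fst A A) (snd A A))
  rw [map_mul, ← opull_comp, ← opull_comp, ← opull_comp, h1, h2, h3] at e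
  exact e

omit [LocallyOfFinitePresentation A.hom] [IsProper A.hom] [GeometricallyIntegral A.hom] in
/-- The point of an abelian variety defining the neutral element. -/
theorem isClosedImmersion_unit : IsClosedImmersion η[At].left := by
  have : IsClosedImmersion (η[At].left ≫ At.hom) := by
    rw [Over.w]
    exact inferInstanceAs (IsClosedImmersion (𝟙 (Spec (CommRingCat.of k))))
  exact IsClosedImmersion.of_comp η[At].left At.hom

omit [LocallyOfFinitePresentation A.hom] [IsProper A.hom] [GeometricallyIntegral A.hom] in
theorem isClosed_pt_unit : IsClosed ({pt η[At]} : Set At.left) := by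
  have := isClosedImmersion_unit (At := At)
  rw [← range_eq η[At]]
  exact η[At].left.isClosedEmbedding.isClosed_range

include hφ hξ in
/-- The fibres of the Poincaré family away from the origin are acyclic. -/
theorem subsingleton_fiberH (y : At.left) (hy : y ≠ pt η[At]) (n : ℕ) :
    Subsingleton (CohIII.fiberH ((Over.pullback At.hom).obj A).hom P y n) := by
  let T := AbDual.ovr At (At.left.fromSpecResidueField y)
  let u : T ⟶ At := AbDual.ovrHom At (At.left.fromSpecResidueField y)
  let t : Spec (CommRingCat.of (At.left.residueField y : Type u)) ⟶ Spec (CommRingCat.of k) := T.hom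
  let X := Red.bc t A
  have : IsProper X.hom := inferInstanceAs (IsProper (pullback.snd A.hom t))
  have : GeometricallyIntegral X.hom := inferInstanceAs (GeometricallyIntegral (pullback.snd A.hom t))
  let p : X.left ⟶ ((Over.pullback At.hom).obj A).left := PicF.XTmap A.hom u
  let G : X.left.Modules := (Scheme.Modules.pullback p).obj P
  have hG : PicF.IsInvertible G := PicLoc.isInvertible_pullback p hP
  have hc : cls hG = pull (PicF.XTmap A.hom u) (cls hP) := (pull_cls p hP).symm
  have hne : cls hG ≠ 1 := fun h => by
    refine hy ?_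
    have h1 := congrArg (fun v : T ⟶ At => v.left (IsLocalRing.closedPoint (At.left.residueField y)))
      (eq_one_of_pull hφ hP hξ u (hc.symm.trans h))
    dsimp only at h1
    rw [show u.left (IsLocalRing.closedPoint (At.left.residueField y)) = y from
      Scheme.fromSpecResidueField_apply y _, Hom.one_def, Over.comp_left, Scheme.Hom.comp_apply] at h1
    refine h1.trans (congrArg η[At].left.base ?_)
    exact Subsingleton.elim (α := PrimeSpectrum k) _ _
  have hv := subsingleton_HH_of_additive (X := X) hG (by rw [hc]; exact additive hP hξ u) hne n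
  let sq : IsPullback p X.hom ((Over.pullback At.hom).obj A).hom (At.left.fromSpecResidueField y) :=
    PicAux.RelPicSep.isPullback_XTmap A.hom u
  let e := sq.isoPullback
  let i : (Scheme.Modules.pullback e.hom).obj (CohIII.fiberMod ((Over.pullback At.hom).obj A).hom P y) ≅ G :=
    (Scheme.Modules.pullbackComp e.hom _).app P ≪≫
      (Scheme.Modules.pullbackCongr sq.isoPullback_hom_fst).app P
  exact (subsingleton_HH_pullback_iff e.hom X.hom _ n).1 (PnCoh.subsingleton_HH_of_iso X.hom i.symm hv)

omit [IsProper A.hom] [GeometricallyIntegral A.hom] [LocallyOfFinitePresentation A.hom] [IsProper At.hom] in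
/-- The slice at the origin. -/
theorem isPullback_slice :
    IsPullback (lift (𝟙 A) (toUnit A ≫ η[At])).left A.hom ((Over.pullback At.hom).obj A).hom η[At].left := by
  refine IsPullback.of_right (t := IsPullback.of_hasPullback A.hom At.hom) (p := ?_) (s := ?_)
  rotate_left
  · exact (congrArg Over.Hom.left (lift_snd (𝟙 A) (toUnit A ≫ η[At]))).trans (by
      rw [Over.comp_left, Over.toUnit_left])
  · rw [show (lift (𝟙 A) (toUnit A ≫ η[At])).left ≫ pullback.fst A.hom At.hom = 𝟙 _ from
      congrArg Over.Hom.left (lift_fst (𝟙 A) (toUnit A ≫ η[At])),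
      show η[At].left ≫ At.hom = 𝟙 _ from Over.w η[At]]
    exact IsPullback.of_id_fst

omit [IsProper At.hom] in
include hφ hξ in
/-- The slice at the origin of a Poincaré class is trivial. -/
theorem pull_slice : pull (lift (𝟙 A) (toUnit A ≫ η[At])).left (cls hP) = 1 := by
  have h := pull_one hφ hP hξ (𝟙_ (Over (Spec (CommRingCat.of k))))
  rw [← show (η[At] : 𝟙_ _ ⟶ At) = 1 by rw [Hom.one_def, toUnit_unit, Category.id_comp]] at h
  have he : (lift (𝟙 A) (toUnit A)).left ≫ PicF.XTmap A.hom η[At] =
      (lift (𝟙 A) (toUnit A ≫ η[At])).left := by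
    refine pullback.hom_ext ?_ ?_
    · rw [show (lift (𝟙 A) (toUnit A ≫ η[At])).left ≫ pullback.fst A.hom At.hom = 𝟙 _ from
        congrArg Over.Hom.left (lift_fst (𝟙 A) (toUnit A ≫ η[At])), Category.assoc]
      erw [pullback.lift_fst]
      rw [Category.comp_id]
      exact congrArg Over.Hom.left (lift_fst (𝟙 A) (toUnit A))
    · rw [show (lift (𝟙 A) (toUnit A ≫ η[At])).left ≫ pullback.snd A.hom At.hom = (toUnit A ≫ η[At]).left from
        congrArg Over.Hom.left (lift_snd (𝟙 A) (toUnit A ≫ η[At])), Category.assoc]
      erw [pullback.lift_snd]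
      rw [← Category.assoc]
      exact congrArg (· ≫ η[At].left) (congrArg Over.Hom.left (lift_snd (𝟙 A) (toUnit A)))
  rw [← he, pull_comp]
  exact (congrArg _ h).trans (map_one _)

omit [IsProper At.hom] in
include hφ hξ in
/-- The fibre over the origin is trivial. -/
theorem pull_fiberι : pull (((Over.pullback At.hom).obj A).hom.fiberι (pt η[At])) (cls hP) = 1 := by
  obtain ⟨d, hd⟩ := Cube.fromSpecResidueField_rational η[At]
  have H := isPullback_slice (A := A) (At := At)
  let e := H.lift (((Over.pullback At.hom).obj A).hom.fiberι (pt η[At]))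
    (((Over.pullback At.hom).obj A).hom.fiberToSpecResidueField _ ≫ d)
    (by rw [Category.assoc, hd]; exact Scheme.Hom.fiber_fac _ _)
  rw [← H.lift_fst (((Over.pullback At.hom).obj A).hom.fiberι (pt η[At]))
    (((Over.pullback At.hom).obj A).hom.fiberToSpecResidueField _ ≫ d)
    (by rw [Category.assoc, hd]; exact Scheme.Hom.fiber_fac _ _), pull_comp]
  exact (congrArg _ (pull_slice hφ hP hξ)).trans (map_one _)

include hφ hξ in
/-- The fibre over the origin has one-dimensional sections. -/
theorem fiberRank_zero : CohIII.fiberRank ((Over.pullback At.hom).obj A).hom P 0 (pt η[At]) = 1 := by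
  let π : ((Over.pullback At.hom).obj A).left ⟶ At.left := ((Over.pullback At.hom).obj A).hom
  have : IsProper π := inferInstanceAs (IsProper (pullback.snd A.hom At.hom))
  have : Flat π := inferInstanceAs (Flat (pullback.snd A.hom At.hom))
  have : GeometricallyIntegral π := inferInstanceAs (GeometricallyIntegral (pullback.snd A.hom At.hom))
  have : IsLocallyNoetherian At.left := LocallyOfFiniteType.isLocallyNoetherian At.hom
  let z := pt η[At]
  let : (π.fiber z).Over (Spec (CommRingCat.of (At.left.residueField z))) :=
    ⟨π.fiberToSpecResidueField z⟩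
  obtain ⟨i⟩ := (Dual.fibTriv_iff π hP z).2 (pull_fiberι hφ hP hξ)
  refine ((Groth.CohBase.haIsoEquiv (π.fiberToSpecResidueField z) i 0).finrank_eq).trans
    ((Groth.VarietyBC.GlobalField.finrank_HH_zero (At.left.residueField z) (π.fiber z)).trans ?_)
  have hb := Seesaw.h0Const_of_integral π z
  exact ((LinearEquiv.ofBijective (Algebra.linearMap (At.left.residueField z) Γ(π.fiber z, ⊤)) hb).finrank_eq).symm.trans
    (Module.finrank_self _)

omit [LocallyOfFinitePresentation A.hom] [GeometricallyIntegral A.hom] in
/-- The fibre over the origin has no cohomology above the dimension. -/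
theorem subsingleton_fiberH_above {g : ℕ} (hg : topologicalKrullDim A.left = g) (n : ℕ) (hn : g < n) :
    Subsingleton (CohIII.fiberH ((Over.pullback At.hom).obj A).hom P (pt η[At]) n) := by
  refine (subsingleton_fiberH_iff_of_isPullback η[At] isPullback_slice P n).2 ?_
  have : IsLocallyNoetherian A.left := LocallyOfFiniteType.isLocallyNoetherian A.hom
  have : CompactSpace A.left := CohFin.compactSpace_of_proper A.hom
  have : IsNoetherian A.left := {}
  have : TopologicalSpace.NoetherianSpace A.left.toTopCat :=
    inferInstanceAs (TopologicalSpace.NoetherianSpace A.left)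
  exact Inter.Vanishing.subsingleton_H_of_dim_le (X := A.left.toTopCat) hg.le _ n hn

end Groth.AbvarAmple.Poincare
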