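import Mathlib.RingTheory.LocalRing.Module
import Mathlib.RingTheory.TensorProduct.Quotient
import Mathlib.RingTheory.Length
import Mathlib.RingTheory.Noetherian.Nilpotent
import Mathlib.LinearAlgebra.Dual.Lemmas
import Mathlib.RingTheory.Spectrum.Prime.Topology

/-!
# Modules supported at one point with one functional
-/

universe u

open scoped TensorProduct

namespace Groth.AbvarAmple

variable {R : Type u} [CommRing R] {Q : Type u} [AddCommGroup Q] [Module R Q] [Module.Finite R Q]

/-- A finite module without functionals to a residue field misses the prime in its support. -/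
theorem notMem_support_of_subsingleton_hom (p : PrimeSpectrum R)
    (h : Subsingleton (Q →ₗ[R] p.asIdeal.ResidueField)) : p ∉ Module.support R Q := by
  intro hp
  have : Subsingleton (p.asIdeal.ResidueField ⊗[R] Q →ₗ[p.asIdeal.ResidueField] p.asIdeal.ResidueField) :=
    @Equiv.subsingleton _ _ (LinearMap.liftBaseChangeEquiv p.asIdeal.ResidueField).symm.toEquiv h
  have hnt := (Module.mem_support_iff_nontrivial_residueField_tensorProduct p).1 hp
  obtain ⟨w, hw⟩ := exists_ne (0 : p.asIdeal.ResidueField ⊗[R] Q)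
  refine hw ((Module.eval_apply_eq_zero_iff p.asIdeal.ResidueField w).1 ?_)
  exact LinearMap.ext fun f => by rw [Subsingleton.elim f 0]; rfl

/-- A finite module supported at a maximal ideal with a one-dimensional space of functionals there is
cyclic. -/
theorem exists_cyclic_of_length_hom [IsNoetherianRing R] (m : Ideal R) [m.IsMaximal]
    (hsupp : ∀ p ∈ Module.support R Q, p.asIdeal = m) (hlen : Module.length R (Q →ₗ[R] R ⧸ m) = 1) :
    ∃ v : Q, Submodule.span R {v} = ⊤ ∧
      (∀ M : Ideal R, M.IsPrime → Module.annihilator R Q ≤ M → M = m) ∧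
      Module.annihilator R Q ≠ ⊤ := by
  let _ : Field (R ⧸ m) := Ideal.Quotient.field m
  obtain ⟨N, hN⟩ : ∃ N : ℕ, m ^ N ≤ Module.annihilator R Q := by
    refine Ideal.exists_pow_le_of_le_radical_of_fg (fun a ha => ?_) (IsNoetherian.noetherian m)
    rw [← PrimeSpectrum.vanishingIdeal_zeroLocus_eq_radical, PrimeSpectrum.mem_vanishingIdeal]
    intro p hp
    rw [← Module.support_eq_zeroLocus] at hp
    rw [hsupp p hp]
    exact ha
  have hdim : Module.finrank (R ⧸ m) ((R ⧸ m) ⊗[R] Q) = 1 := by
    rw [Module.length_eq_of_surjective (S := R) (R := R ⧸ m) Ideal.Quotient.mk_surjective,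
      (LinearMap.liftBaseChangeEquiv (R ⧸ m) (M := Q) (N := R ⧸ m)).length_eq,
      Module.length_eq_finrank] at hlen
    exact (Subspace.dual_finrank_eq).symm.trans (by exact_mod_cast hlen)
  obtain ⟨w, hw0, hw⟩ := finrank_eq_one_iff'.1 hdim
  obtain ⟨v, rfl⟩ := TensorProduct.mk_surjective R Q (R ⧸ m) Ideal.Quotient.mk_surjective w
  have hgen : ∀ q : Q, ∃ a : R, q - a • v ∈ (m • ⊤ : Submodule R Q) := by
    intro q
    obtain ⟨a, ha⟩ := hw ((1 : R ⧸ m) ⊗ₜ q)
    obtain ⟨a, rfl⟩ := Ideal.Quotient.mk_surjective a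
    refine ⟨a, (Submodule.Quotient.mk_eq_zero _).1 ?_⟩
    have h := congrArg (TensorProduct.quotTensorEquivQuotSMul Q m) ha
    simp only [TensorProduct.mk_apply, TensorProduct.smul_tmul', smul_eq_mul, _root_.mul_one] at h
    erw [TensorProduct.quotTensorEquivQuotSMul_mk_tmul] at h
    rw [show (1 : R ⧸ m) = Ideal.Quotient.mk m 1 from rfl] at h
    erw [TensorProduct.quotTensorEquivQuotSMul_mk_tmul] at h
    rw [one_smul] at h
    rw [Submodule.Quotient.mk_sub, h, sub_self]
  refine ⟨v, top_le_iff.1 ?_, fun M hM hJM =>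
    (‹m.IsMaximal›.eq_of_le hM.ne_top (Ideal.IsPrime.le_of_pow_le (hN.trans hJM))).symm, fun h => hw0 ?_⟩
  · have step : ∀ n : ℕ, (⊤ : Submodule R Q) ≤ Submodule.span R {v} ⊔ m ^ n • ⊤ := by
      intro n
      induction n with
      | zero => rw [pow_zero, Ideal.one_eq_top, Submodule.top_smul]; exact le_sup_right
      | succ n ih =>
        refine ih.trans (sup_le le_sup_left (Submodule.smul_le.2 fun r hr q _ => ?_))
        obtain ⟨a, ha⟩ := hgen q
        rw [← sub_add_cancel q (a • v), smul_add, smul_smul]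
        refine Submodule.add_mem _ (Submodule.mem_sup_right ?_)
          (Submodule.mem_sup_left (Submodule.smul_mem _ _ (Submodule.mem_span_singleton_self v)))
        rw [pow_succ, Submodule.mul_smul]
        exact Submodule.smul_mem_smul hr ha
    refine (step N).trans (sup_le le_rfl (Submodule.smul_le.2 fun r hr q _ => ?_))
    rw [Module.mem_annihilator.1 (hN hr) q]
    exact zero_mem _
  · show (1 : R ⧸ m) ⊗ₜ[R] v = 0
    rw [← one_smul R v, Module.mem_annihilator.1 (h.ge trivial : (1 : R) ∈ Module.annihilator R Q) v,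
      TensorProduct.tmul_zero]

end Groth.AbvarAmple
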