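import Groth.Agent.AbvarAmple.PunctualModel
import Groth.Agent.AbvarAmple.PoincareFibres
import Groth.Agent.AbvarAmple.FreeSection
import Groth.Agent.AbvarAmple.DualDim
import Groth.Agent.Abvar.Dual.BaseChange
import Groth.Agent.AbVarMul.PTorsion
import Groth.Agent.Variety2.DimScheme
import Mathlib.RingTheory.HopkinsLevitzki
import Groth.Agent.AbvarAmple.PunctualCyclic

/-!
# The model of the Poincaré family at the origin
-/

universe u

open CategoryTheory Limits MonoidalCategory CartesianMonoidalCategory MonObj GrpObj AlgebraicGeometry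
open scoped TensorProduct

namespace Groth.AbvarAmple.Poincare

open Groth.Abvar Groth.Abvar.PicCalc Groth.CohBase Groth.CohBase.CxRank Groth.FlatCxBase

section Unit

variable {k : Type u} [Field k] {At : Over (Spec (CommRingCat.of k))} [GrpObj At]
  {V : At.left.Opens} (hV : IsAffineOpen V) (hz : pt η[At] ∈ V)

/-- The evaluation at the origin detects the neutral points of an affine neighbourhood. -/
theorem eq_one_iff_kills {B : CommRingCat.{u}} (ψ : Γ(At.left, V) ⟶ B) :
    (Over.homMk (Spec.map ψ ≫ hV.fromSpec) (Category.assoc _ _ _) :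
        Over.mk (Spec.map ψ ≫ hV.fromSpec ≫ At.hom) ⟶ At) = 1 ↔
      ∀ a ∈ (hV.primeIdealOf ⟨pt η[At], hz⟩).asIdeal, ψ a = 0 := by
  have hr : Set.range η[At].left ⊆ Set.range hV.fromSpec := by
    rw [range_eq η[At], hV.range_fromSpec]
    exact Set.singleton_subset_iff.2 hz
  let ev : Γ(At.left, V) ⟶ CommRingCat.of k :=
    Spec.preimage (IsOpenImmersion.lift hV.fromSpec η[At].left hr)
  have hev : Spec.map ev ≫ hV.fromSpec = η[At].left := by
    rw [Spec.map_preimage]
    exact IsOpenImmersion.lift_fac _ _ hr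
  let σ : CommRingCat.of k ⟶ Γ(At.left, V) := Spec.preimage (hV.fromSpec ≫ At.hom)
  have hσ : Spec.map σ = hV.fromSpec ≫ At.hom := Spec.map_preimage _
  have hσev : σ ≫ ev = 𝟙 _ := by
    refine Spec.map_injective ?_
    rw [Spec.map_comp, hσ, ← Category.assoc, hev, Spec.map_id]
    exact Over.w η[At]
  have hm : (hV.primeIdealOf ⟨pt η[At], hz⟩).asIdeal = RingHom.ker ev.hom := by
    have h : hV.primeIdealOf ⟨pt η[At], hz⟩ = Spec.map ev (IsLocalRing.closedPoint k) :=
      hV.fromSpec.isOpenEmbedding.injective ((hV.fromSpec_primeIdealOf _).trans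
        (by rw [← Scheme.Hom.comp_apply, hev]))
    rw [h]
    show Ideal.comap ev.hom (IsLocalRing.maximalIdeal k) = _
    rw [IsLocalRing.maximalIdeal_eq_bot]
    rfl
  have h1 : (Over.homMk (Spec.map ψ ≫ hV.fromSpec) (Category.assoc _ _ _) :
      Over.mk (Spec.map ψ ≫ hV.fromSpec ≫ At.hom) ⟶ At) = 1 ↔ ψ = ev ≫ σ ≫ ψ := by
    have h2 : (1 : Over.mk (Spec.map ψ ≫ hV.fromSpec ≫ At.hom) ⟶ At).left =
        Spec.map (ev ≫ σ ≫ ψ) ≫ hV.fromSpec := by
      rw [Hom.one_def, Over.comp_left, Over.toUnit_left, Spec.map_comp, Spec.map_comp, hσ,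
        Category.assoc (Spec.map ψ ≫ hV.fromSpec ≫ At.hom) (Spec.map ev) hV.fromSpec, hev]
      rfl
    refine ⟨fun h => Spec.map_injective ((cancel_mono hV.fromSpec).1
      ((congrArg Over.Hom.left h).trans h2)), fun h => Over.OverMorphism.ext ?_⟩
    exact (congrArg (fun m => Spec.map m ≫ hV.fromSpec) h).trans h2.symm
  rw [h1]
  constructor
  · intro h a ha
    rw [hm] at ha
    rw [h, CommRingCat.comp_apply, show ev a = 0 from ha, map_zero]
  · intro h
    refine CommRingCat.hom_ext (RingHom.ext fun a => ?_)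
    have := h (a - σ (ev a)) (by
      rw [hm, RingHom.mem_ker, map_sub]
      show ev a - (σ ≫ ev) (ev a) = 0
      rw [hσev]
      exact sub_self _)
    rwa [map_sub, sub_eq_zero] at this

end Unit

variable {k : Type u} [Field k] {A At : Over (Spec (CommRingCat.of k))} [GrpObj A] [IsProper A.hom]
  [GeometricallyIntegral A.hom] [LocallyOfFinitePresentation A.hom] [GrpObj At] [IsProper At.hom]
  [GeometricallyIntegral At.hom]
  {φ : ∀ T : Over (Spec (CommRingCat.of k)), PicF.Cl (PicF.XT A.hom T) → (T ⟶ At)}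
  (hφ : AbDual.IsDualAV Scheme.fppfPrecoverage A At φ)
  {P : ((Over.pullback At.hom).obj A).left.Modules} (hP : PicF.IsInvertible P)
  (hξ : AbDual.IsPoincareCl A At φ (cls hP).1) [IsLocallyNoetherian At.left]
  [IsProper ((Over.pullback At.hom).obj A).hom]
  [HasInjectiveResolutions ((Over.pullback At.hom).obj A).left.Modules]

include hφ hξ in
/-- **The maximal ideal of the origin kills the module corepresenting the sections of the Poincaré
family.** -/
theorem kills_corep {V : At.left.Opens} (hV : IsAffineOpen V) (hz : pt η[At] ∈ V)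
    {L : CochainComplex (ModuleCat.{u} Γ(At.left, V)) ℤ}
    (hL : IsModel ((Over.pullback At.hom).obj A).hom P L)
    {Q : ModuleCat.{u} Γ(At.left, V)} [Module.Finite Γ(At.left, V) Q]
    (c : CohIII.TFun L 0 ≅ (linearCoyoneda Γ(At.left, V) (ModuleCat.{u} Γ(At.left, V))).obj (Opposite.op Q))
    (hθ : ∀ (B : Type u) [CommRing B] [Algebra Γ(At.left, V) B] (X' : Scheme.{u})
        (g : X' ⟶ (((Over.pullback At.hom).obj A).hom ⁻¹ᵁ V : Scheme.{u})) (f' : X' ⟶ Spec (CommRingCat.of B))
        (_ : IsPullback g f' (preimageToSpec ((Over.pullback At.hom).obj A).hom (V := V))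
          (Spec.map (CommRingCat.ofHom (algebraMap Γ(At.left, V) B)))),
        ∃ θ : (Q →ₗ[Γ(At.left, V)] B) → Γ((Scheme.Modules.pullback g).obj
            (P.restrict (((Over.pullback At.hom).obj A).hom ⁻¹ᵁ V).ι), ⊤),
          Function.Bijective θ ∧
          ∀ (b : B) (φ' : Q →ₗ[Γ(At.left, V)] B), θ (LinearMap.mulLeft Γ(At.left, V) b ∘ₗ φ') =
            Groth.PicAux.BC.bSec B (f' := f') ⊤ b • θ φ') :
    ∀ x ∈ (hV.primeIdealOf ⟨pt η[At], hz⟩).asIdeal, ∀ v : Q, x • v = 0 := by
  classical
  let R := Γ(At.left, V)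
  let π := ((Over.pullback At.hom).obj A).hom
  let m := (hV.primeIdealOf ⟨pt η[At], hz⟩).asIdeal
  have : m.IsMaximal := isMaximal_primeIdealOf hV hz isClosed_pt_unit
  have : IsNoetherianRing R := IsLocallyNoetherian.component_noetherian ⟨V, hV⟩
  have := hL.finite
  have hHom : ∀ (K : Type u) [AddCommGroup K] [Module R K],
      Nonempty (LinearMap.ker ((dq L 0).rTensor K) ≃ₗ[R] (Q →ₗ[R] K)) := fun K _ _ =>
    ⟨(tKerEquiv L (ModuleCat.of R K) 0).symm.trans (((c.app (ModuleCat.of R K)).toLinearEquiv).trans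
      ModuleCat.homLinearEquiv)⟩
  -- the support
  have hsupp : ∀ p ∈ Module.support R Q, p.asIdeal = m := by
    intro p hp
    obtain ⟨y, hy, rfl⟩ := exists_primeIdealOf_eq hV p
    by_contra hne
    have hyz : y ≠ pt η[At] := by rintro rfl; exact hne rfl
    have hinj := hL.injective_residueField hV 0 y hy (subsingleton_fiberH hφ hP hξ y hyz 0)
    rw [LinearMap.lTensor_inj_iff_rTensor_inj] at hinj
    obtain ⟨e⟩ := hHom (hV.primeIdealOf ⟨y, hy⟩).asIdeal.ResidueField
    exact notMem_support_of_subsingleton_hom (Q := Q) _ (@Equiv.subsingleton _ _ e.symm.toEquiv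
      (Submodule.subsingleton_iff_eq_bot.2 (LinearMap.ker_eq_bot.2 hinj))) hp
  -- the fibre at the origin
  have hlen : Module.length R (Q →ₗ[R] R ⧸ m) = 1 := by
    let _ : Field (R ⧸ m) := Ideal.Quotient.field m
    obtain ⟨e⟩ := hHom (R ⧸ m)
    have h1 := (e.length_eq).symm.trans (length_ker_rTensor (dq L 0) (R ⧸ m) Ideal.Quotient.mk_surjective)
    have h2 : Module.finrank (R ⧸ m) (LinearMap.ker ((dq L 0).baseChange (R ⧸ m))) = 1 :=
      (hL.fiberRank_eq hV 0 (pt η[At]) hz (R ⧸ m)
        (by rw [Ideal.Quotient.algebraMap_eq, Ideal.mk_ker])).symm.trans (fiberRank_zero hφ hP hξ)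
    rw [h1, Module.length_eq_finrank, h2, Nat.cast_one]
  obtain ⟨v, htop, hmax, hJ⟩ := exists_cyclic_of_length_hom m hsupp hlen
  let J := Module.annihilator R Q
  -- the quotient
  let B := R ⧸ J
  have : Nontrivial B := Ideal.Quotient.nontrivial_iff.2 hJ
  have hcomap : ∀ M : Ideal B, M.IsPrime → M.comap (Ideal.Quotient.mk J) = m := fun M hM =>
    hmax _ (Ideal.IsPrime.comap _) fun a ha => by
      rw [Ideal.mem_comap, Ideal.Quotient.eq_zero_iff_mem.2 ha]
      exact zero_mem _
  have : IsLocalRing B := by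
    obtain ⟨M, hM⟩ := Ideal.exists_maximal B
    refine IsLocalRing.of_unique_max_ideal ⟨M, hM, fun M' hM' => ?_⟩
    exact Ideal.comap_injective_of_surjective _ Ideal.Quotient.mk_surjective
      ((hcomap M' hM'.isPrime).trans (hcomap M hM.isPrime).symm)
  have : IsArtinianRing B := by
    rw [isArtinianRing_iff_isNoetherianRing_krullDimLE_zero]
    refine ⟨inferInstance, Ring.krullDimLE_zero_iff.2 fun M hM => ?_⟩
    obtain ⟨M', hM', hle⟩ := Ideal.exists_le_maximal M hM.ne_top
    rwa [Ideal.comap_injective_of_surjective _ Ideal.Quotient.mk_surjective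
      ((hcomap M hM).trans (hcomap M' hM'.isPrime).symm)]
  -- the base change to the quotient
  let ψ : R ⟶ CommRingCat.of B := CommRingCat.ofHom (algebraMap R B)
  let T : Over (Spec (CommRingCat.of k)) := Over.mk (Spec.map ψ ≫ hV.fromSpec ≫ At.hom)
  let u : T ⟶ At := Over.homMk (Spec.map ψ ≫ hV.fromSpec) (Category.assoc _ _ _)
  let Xu := PicF.XTmap A.hom u
  let f' : PicF.XT A.hom T ⟶ Spec (CommRingCat.of B) := PicF.XTproj A.hom T
  have : IsProper f' := inferInstanceAs (IsProper (pullback.snd A.hom T.hom))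
  have H2 := isPullback_preimageToSpec π hV
  have hsq : IsPullback Xu f' π (Spec.map ψ ≫ hV.fromSpec) := PicAux.RelPicSep.isPullback_XTmap A.hom u
  let g := H2.lift Xu (f' ≫ Spec.map ψ) (by rw [hsq.w, Category.assoc])
  have hg1 : g ≫ (π ⁻¹ᵁ V).ι = Xu := H2.lift_fst _ _ _
  have hg2 : g ≫ preimageToSpec π (V := V) = f' ≫ Spec.map ψ := H2.lift_snd _ _ _
  have hp : IsPullback g f' (preimageToSpec π (V := V)) (Spec.map ψ) :=
    IsPullback.of_right (by rw [hg1]; exact hsq) hg2 H2
  obtain ⟨θ, hθb, hθl⟩ := hθ B _ g f' hp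
  let M' := (Scheme.Modules.pullback g).obj (P.restrict (π ⁻¹ᵁ V).ι)
  let i' : (Scheme.Modules.pullback Xu).obj P ≅ M' :=
    ((Scheme.Modules.pullbackCongr hg1).app P).symm ≪≫ ((Scheme.Modules.pullbackComp g _).app P).symm ≪≫
      (Scheme.Modules.pullback g).mapIso ((Scheme.Modules.restrictFunctorIsoPullback _).app P).symm
  have hM' : PicF.IsInvertible M' := isInvertible_of_iso (PicLoc.isInvertible_pullback Xu hP) i'
  have hcls : pull Xu (cls hP) = cls hM' := by
    rw [pull_cls Xu hP]
    exact (nonempty_iso_iff _ hM').1 ⟨i'⟩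
  let e0 : R →ₗ[R] Q := LinearMap.toSpanSingleton R Q v
  have he0 : LinearMap.ker e0 = J := by
    ext a
    refine ⟨fun h => Module.mem_annihilator.2 fun q => ?_, fun h => Module.mem_annihilator.1 h v⟩
    obtain ⟨b, rfl⟩ := Submodule.mem_span_singleton.1 (htop.ge (Submodule.mem_top (x := q)))
    rw [smul_comm, show a • v = 0 from h, smul_zero]
  have he0s : Function.Surjective e0 := fun q =>
    Submodule.mem_span_singleton.1 (htop.ge (Submodule.mem_top (x := q)))
  let e1 : B ≃ₗ[R] Q :=
    (Submodule.quotEquivOfEq _ _ he0.symm).trans (e0.quotKerEquivOfSurjective he0s)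
  let φ0 : Q →ₗ[R] B := e1.symm.toLinearMap
  have hzero : θ 0 = 0 := by
    have h := hθl 0 (0 : Q →ₗ[R] B)
    rwa [map_zero, zero_smul, LinearMap.comp_zero] at h
  have hs : ∀ b : B, Groth.PicAux.BC.bSec B (f' := f') ⊤ b • θ φ0 = 0 → b = 0 := by
    intro b hb
    rw [← hθl, ← hzero] at hb
    have := LinearMap.congr_fun (hθb.1 hb) (e1 1)
    simpa [φ0] using this
  -- the closed fibre
  let κB := IsLocalRing.ResidueField B
  let T₀ : Over (Spec (CommRingCat.of k)) :=
    Over.mk (Spec.map (CommRingCat.ofHom (algebraMap B κB)) ≫ T.hom)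
  let j : T₀ ⟶ T := Over.homMk (Spec.map (CommRingCat.ofHom (algebraMap B κB))) rfl
  let q₀ : PicF.XT A.hom T₀ ⟶ Spec (CommRingCat.of κB) := PicF.XTproj A.hom T₀
  have : IsProper q₀ := inferInstanceAs (IsProper (pullback.snd A.hom T₀.hom))
  have : GeometricallyIntegral q₀ := inferInstanceAs (GeometricallyIntegral (pullback.snd A.hom T₀.hom))
  have : Subsingleton ↥(Spec (CommRingCat.of κB)) := inferInstanceAs (Subsingleton (PrimeSpectrum κB))
  have := GeometricallyIntegral.isIntegral_of_subsingleton q₀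
  have hju : j ≫ u = 1 := by
    let ψ₀ : R ⟶ CommRingCat.of κB := ψ ≫ CommRingCat.ofHom (algebraMap B κB)
    have h0 := (eq_one_iff_kills hV hz ψ₀).2 fun a ha => by
      show IsLocalRing.residue B (Ideal.Quotient.mk J a) = 0
      rw [IsLocalRing.residue_eq_zero_iff, ← Ideal.mem_comap, hcomap _ inferInstance]
      exact ha
    let i₀ : T₀ ⟶ Over.mk (Spec.map ψ₀ ≫ hV.fromSpec ≫ At.hom) := Over.homMk (𝟙 _) (by
      show 𝟙 _ ≫ Spec.map ψ₀ ≫ hV.fromSpec ≫ At.hom = _
      rw [Category.id_comp, Spec.map_comp]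
      exact (Category.assoc _ _ _))
    rw [← MonObj.comp_one i₀, ← h0]
    refine Over.OverMorphism.ext ?_
    show Spec.map _ ≫ Spec.map ψ ≫ hV.fromSpec = 𝟙 _ ≫ Spec.map ψ₀ ≫ hV.fromSpec
    rw [Category.id_comp, Spec.map_comp, Category.assoc]
  have htriv : Nonempty ((Scheme.Modules.pullback (PicF.XTmap A.hom j)).obj M' ≅
      Coh.structureModule _) := by
    rw [nonempty_iso_structure_iff (PicLoc.isInvertible_pullback _ hM'), ← pull_cls _ hM', ← hcls,
      ← pull_comp, ← Dual.BaseChange.XTmap_comp, hju]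
    exact pull_one hφ hP hξ T₀
  have h1 := trivial_of_free_section f' hM' (PicAux.RelPicSep.isPullback_XTmap A.hom j)
    (isField_of_universallyClosed κB q₀) htriv (θ φ0) hs
  have hu : u = 1 := eq_one_of_pull hφ hP hξ u (hcls.trans h1)
  intro x hx q
  have := (eq_one_iff_kills hV hz ψ).1 hu x hx
  exact Module.mem_annihilator.1 (Ideal.Quotient.eq_zero_iff_mem.1 this) q

include hφ hξ in
omit [IsProper ((Over.pullback At.hom).obj A).hom] in
/-- The model of the Poincaré family on an affine neighbourhood of the origin. -/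
theorem origin_model {g h : ℕ} (hg : topologicalKrullDim A.left = g) (hh : topologicalKrullDim At.left = h)
    {V : At.left.Opens} (hV : IsAffineOpen V) (hz : pt η[At] ∈ V) :
    ∃ L, IsModel ((Over.pullback At.hom).obj A).hom P L (S := At.left) (V := V) ∧
      (∀ n : ℕ, n ≤ h → CohIII.fiberRank ((Over.pullback At.hom).obj A).hom P n (pt η[At]) = h.choose n) ∧
      (∀ n : ℕ, n ≠ h → Subsingleton (Hk L (n : ℤ))) ∧
      Module.length Γ(At.left, V) (Hk L (h : ℤ)) = 1 := by
  let π : ((Over.pullback At.hom).obj A).left ⟶ At.left := ((Over.pullback At.hom).obj A).hom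
  have : IsProper π := inferInstanceAs (IsProper (pullback.snd A.hom At.hom))
  have : Flat π := inferInstanceAs (Flat (pullback.snd A.hom At.hom))
  have : LocallyOfFinitePresentation π := inferInstanceAs (LocallyOfFinitePresentation (pullback.snd A.hom At.hom))
  have hgh : g ≤ h := by
    have := dim_le_dual hφ
    rw [hg, hh] at this
    exact_mod_cast this
  have hd : ringKrullDim (At.left.presheaf.stalk (pt η[At])) = h := by
    have := Groth.Abvar.isIntegral_left At
    have e := Variety2.Dim.ringKrullDim_stalk_add_height At.hom (pt η[At])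
    rw [Order.height_eq_zero.2 fun b hb => by
      have hb' : pt η[At] ⤳ b := hb
      rw [show b = pt η[At] from (isClosed_pt_unit (At := At)).closure_eq.le hb'.mem_closure], hh] at e
    simpa using e
  obtain ⟨L, Q, hL, hQ, ⟨c⟩, hθ⟩ := exists_model_corep π P (EulerDeg.isCoh_of_isInvertible hP)
    (Seesaw.isFlatOver_of_isInvertible π hP) hV
  exact ⟨L, hL, punctual_model π (M := P) hV hL c hz isClosed_pt_unit
    (fun p y _ hy => subsingleton_fiberH hφ hP hξ y hy p) h
    (fun p hp => subsingleton_fiberH_above hg p (hgh.trans_lt hp))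
    (Groth.AbVarMul.isRegularLocalRing_stalk_left (A := At) _) hd
    (kills_corep hφ hP hξ hV hz hL c hθ) (fiberRank_zero hφ hP hξ)⟩

include hφ hξ in
omit [IsProper ((Over.pullback At.hom).obj A).hom] in
/-- The dual of an abelian variety has the same dimension. -/
theorem dim_dual_eq {g h : ℕ} (hg : topologicalKrullDim A.left = g) (hh : topologicalKrullDim At.left = h) :
    h = g := by
  have hgh : g ≤ h := by
    have := dim_le_dual hφ
    rw [hg, hh] at this
    exact_mod_cast this
  obtain ⟨_, ⟨V, hV, rfl⟩, hz, -⟩ := At.left.isBasis_affineOpens.exists_subset_of_mem_open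
    (Set.mem_univ (pt η[At])) isOpen_univ
  obtain ⟨L, -, hrk, -, -⟩ := origin_model hφ hP hξ hg hh hV hz
  by_contra hne
  have := subsingleton_fiberH_above (A := A) (At := At) (P := P) hg h (lt_of_le_of_ne hgh (Ne.symm hne))
  have h1 := hrk h le_rfl
  rw [Nat.choose_self, CohIII.fiberRank, Module.finrank_zero_of_subsingleton] at h1
  exact zero_ne_one h1

end Groth.AbvarAmple.Poincare
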