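import Groth.Agent.AbvarAmple.SupportExact
import Groth.Agent.LocCohTransform.WeaklyRegularPow
import Mathlib.RingTheory.Length
import Mathlib.LinearAlgebra.TensorProduct.RightExactness
import Mathlib.RingTheory.Flat.Basic
import Mathlib.Algebra.Module.Projective

/-!
# Complexes of projectives with punctual cohomology in one degree

A bounded complex of finite projective modules which is exact outside degree `g`, with cohomology
in degree `g` killed by powers of a regular sequence of length `g`, has Betti numbers given by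
binomial coefficients.
-/

universe u

open RingTheory.Sequence
open scoped TensorProduct Pointwise

namespace Groth.AbvarAmple.PunctualCx

variable {A : Type u} [CommRing A] {C : ℕ → Type u} [∀ n, AddCommGroup (C n)] [∀ n, Module A (C n)]
  (d : ∀ n, C n →ₗ[A] C (n + 1))

/-- The cycles with coefficients. -/
def cxZ (N : Type u) [AddCommGroup N] [Module A N] (n : ℕ) : Submodule A (C n ⊗[A] N) :=
  LinearMap.ker ((d n).rTensor N)

/-- The boundaries with coefficients. -/
def cxB (N : Type u) [AddCommGroup N] [Module A N] : ∀ n, Submodule A (C n ⊗[A] N)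
  | 0 => ⊥
  | n + 1 => LinearMap.range ((d n).rTensor N)

/-- The cohomology with coefficients. -/
abbrev cxH (N : Type u) [AddCommGroup N] [Module A N] (n : ℕ) : Type u :=
  cxZ d N n ⧸ (cxB d N n).comap (cxZ d N n).subtype

/-- Multiplication by `a` is zero on the cohomology with any coefficients. -/
def Kills (a : A) : Prop :=
  ∀ (N : Type u) [AddCommGroup N] [Module A N] (n : ℕ) (z : C n ⊗[A] N),
    (d n).rTensor N z = 0 → a • z ∈ cxB d N n

variable {d}

theorem mk_eq_zero_iff {N : Type u} [AddCommGroup N] [Module A N] {n : ℕ} (z : cxZ d N n) :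
    (Submodule.Quotient.mk z : cxH d N n) = 0 ↔ (z : C n ⊗[A] N) ∈ cxB d N n :=
  Submodule.Quotient.mk_eq_zero _

theorem lTensor_mem_cxB {N N' : Type u} [AddCommGroup N] [Module A N] [AddCommGroup N'] [Module A N']
    (t : N →ₗ[A] N') : ∀ {n : ℕ} {z : C n ⊗[A] N}, z ∈ cxB d N n → t.lTensor (C n) z ∈ cxB d N' n
  | 0, z, h => by
    rw [(Submodule.mem_bot A).1 h, map_zero]
    exact zero_mem _
  | n + 1, _, ⟨u, rfl⟩ => ⟨t.lTensor (C n) u, by
    rw [← LinearMap.comp_apply, ← LinearMap.comp_apply, LinearMap.rTensor_comp_lTensor,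
      LinearMap.lTensor_comp_rTensor]⟩

section Homotopy

variable (hd : ∀ n z, d (n + 1) (d n z) = 0) [∀ n, Module.Projective A (C n)] {g b : ℕ}
  (hbdd : ∀ n, b < n → Subsingleton (C n)) (hex : ∀ n, n ≠ g → ∀ z, d n z = 0 → z ∈ cBd d n)

include hd in
omit [∀ n, Module.Projective A (C n)] in
theorem d_eq_zero_of_mem_cBd : ∀ {n : ℕ} {z : C n}, z ∈ cBd d n → d n z = 0
  | 0, z, h => by rw [(Submodule.mem_bot A).1 h, map_zero]
  | n + 1, _, ⟨u, rfl⟩ => hd n u

omit [∀ n, Module.Projective A (C n)] in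
/-- The condition to be homotopic to zero in degree `p`. -/
theorem exists_step (hd : ∀ n z, d (n + 1) (d n z) = 0) {p : ℕ} [Module.Projective A (C (p + 1))]
    {a : A} (f : C (p + 1 + 1) →ₗ[A] C (p + 1))
    (hf : ∀ w, a • w - f (d (p + 1) w) ∈ cBd d (p + 1)) :
    ∃ l : C (p + 1) →ₗ[A] C p, ∀ w, d p (a • w - l (d p w)) = 0 := by
  let u : C (p + 1) →ₗ[A] C (p + 1) := a • LinearMap.id - f ∘ₗ d (p + 1)
  obtain ⟨l, hl⟩ := Module.projective_lifting_property (d p).rangeRestrict
    (u.codRestrict (LinearMap.range (d p)) hf) (d p).surjective_rangeRestrict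
  refine ⟨l, fun w => ?_⟩
  have h : d p (l (d p w)) = u (d p w) := congrArg Subtype.val (LinearMap.congr_fun hl (d p w))
  rw [map_sub, map_smul, h]
  show a • d p w - (a • d p w - f (d (p + 1) (d p w))) = 0
  rw [hd, map_zero, sub_zero, sub_self]

include hd hbdd hex in
theorem exists_contraction_above : ∀ p, g ≤ p →
    ∃ f : C (p + 1) →ₗ[A] C p, ∀ w, d p (w - f (d p w)) = 0 := by
  suffices h : ∀ k p, g ≤ p → b + 1 ≤ p + k →
      ∃ f : C (p + 1) →ₗ[A] C p, ∀ w, d p (w - f (d p w)) = 0 by
    exact fun p hp => h (b + 1) p hp (by omega)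
  intro k
  induction k with
  | zero =>
    intro p _ hb
    have := hbdd (p + 1) (by omega)
    exact ⟨0, fun w => Subsingleton.elim _ _⟩
  | succ k ih =>
    intro p hp hb
    obtain ⟨f, hf⟩ := ih (p + 1) (by omega) (by omega)
    obtain ⟨l, hl⟩ := exists_step hd (p := p) (a := 1) f fun w => by
      rw [one_smul]
      exact hex (p + 1) (by omega) _ (hf w)
    exact ⟨l, fun w => by simpa using hl w⟩

include hd hbdd hex in
/-- An element killing the cohomology is homotopic to zero. -/
theorem exists_homotopy {a : A} (ha : ∀ z, d g z = 0 → a • z ∈ cBd d g) (p : ℕ) :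
    ∃ f : C (p + 1) →ₗ[A] C p, ∀ w, a • w - f (d p w) ∈ cBd d p := by
  have hge : ∀ p, g ≤ p → ∃ f : C (p + 1) →ₗ[A] C p, ∀ w, a • w - f (d p w) ∈ cBd d p := by
    intro p hp
    obtain ⟨f, hf⟩ := exists_contraction_above hd hbdd hex p hp
    refine ⟨a • f, fun w => ?_⟩
    rw [LinearMap.smul_apply, ← smul_sub]
    rcases eq_or_ne p g with rfl | hne
    · exact ha _ (hf w)
    · exact Submodule.smul_mem _ _ (hex p hne _ (hf w))
  suffices h : ∀ k p, g ≤ p + k →
      ∃ f : C (p + 1) →ₗ[A] C p, ∀ w, a • w - f (d p w) ∈ cBd d p from h g p (by omega)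
  intro k
  induction k with
  | zero => exact hge
  | succ k ih =>
    intro p hp
    rcases Nat.lt_or_ge p g with hlt | hle
    swap
    · exact hge p hle
    obtain ⟨f, hf⟩ := ih (p + 1) (by omega)
    obtain ⟨l, hl⟩ := exists_step hd f hf
    exact ⟨l, fun w => hex p hlt.ne _ (hl w)⟩

include hd hbdd hex in
/-- An element killing the cohomology kills the cohomology with any coefficients. -/
theorem kills_of_top {a : A} (ha : ∀ z, d g z = 0 → a • z ∈ cBd d g) : Kills d a := by
  intro N _ _ n z hz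
  obtain ⟨f, hf⟩ := exists_homotopy hd hbdd hex ha n
  let u : C n →ₗ[A] C n := a • LinearMap.id - f ∘ₗ d n
  have e : u.rTensor N z = a • z := by
    rw [LinearMap.rTensor_sub, LinearMap.rTensor_smul, LinearMap.rTensor_id, LinearMap.rTensor_comp]
    simp [hz]
  rw [← e]
  cases n with
  | zero =>
    have hu : u = 0 := LinearMap.ext fun w => (Submodule.mem_bot A).1 (hf w)
    rw [hu, LinearMap.rTensor_zero, LinearMap.zero_apply]
    exact zero_mem _
  | succ n =>
    obtain ⟨l, hl⟩ := Module.projective_lifting_property (d n).rangeRestrict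
      (u.codRestrict (LinearMap.range (d n)) hf) (d n).surjective_rangeRestrict
    refine ⟨l.rTensor N z, ?_⟩
    rw [← LinearMap.comp_apply, ← LinearMap.rTensor_comp,
      show d n ∘ₗ l = u from LinearMap.ext fun w => congrArg Subtype.val (LinearMap.congr_fun hl w)]

end Homotopy

section Step

variable [∀ n, Module.Flat A (C n)] (hd : ∀ n z, d (n + 1) (d n z) = 0)

include hd in
omit [∀ n, Module.Flat A (C n)] in
theorem rTensor_d_d {N : Type u} [AddCommGroup N] [Module A N] (n : ℕ) (z : C n ⊗[A] N) :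
    (d (n + 1)).rTensor N ((d n).rTensor N z) = 0 := by
  rw [← LinearMap.comp_apply, ← LinearMap.rTensor_comp,
    show d (n + 1) ∘ₗ d n = 0 from LinearMap.ext (hd n), LinearMap.rTensor_zero, LinearMap.zero_apply]

include hd in
/-- The long exact sequence of multiplication by a killing element. -/
theorem exists_seq {N N' : Type u} [AddCommGroup N] [Module A N] [AddCommGroup N'] [Module A N']
    {y : A} (hy : IsSMulRegular N y) (hk : Kills d y) (π : N →ₗ[A] N') (hπ : Function.Surjective π)
    (hker : LinearMap.ker π = LinearMap.range (LinearMap.lsmul A N y)) (n : ℕ) :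
    ∃ (i : cxH d N n →ₗ[A] cxH d N' n) (δ : cxH d N' n →ₗ[A] cxH d N (n + 1)),
      Function.Injective i ∧ Function.Surjective δ ∧ Function.Exact i δ := by
  let T : ∀ m, C m ⊗[A] N →ₗ[A] C m ⊗[A] N := fun m => (LinearMap.lsmul A N y).lTensor (C m)
  let P : ∀ m, C m ⊗[A] N →ₗ[A] C m ⊗[A] N' := fun m => π.lTensor (C m)
  have hT : ∀ m (z : C m ⊗[A] N), T m z = y • z := fun m z => by
    rw [show LinearMap.lsmul A N y = y • LinearMap.id from LinearMap.ext fun _ => rfl] at *
    simp [T, show LinearMap.lsmul A N y = y • LinearMap.id from LinearMap.ext fun _ => rfl,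
      LinearMap.lTensor_smul]
  have hTi : ∀ m, Function.Injective (T m) := fun m =>
    Module.Flat.lTensor_preserves_injective_linearMap _ hy
  have hexa : ∀ m, Function.Exact (T m) (P m) := fun m =>
    lTensor_exact (C m) (LinearMap.exact_iff.2 hker) hπ
  have hPs : ∀ m, Function.Surjective (P m) := fun m => LinearMap.lTensor_surjective (C m) hπ
  have hTd : ∀ m (z : C m ⊗[A] N), (d m).rTensor N (T m z) = T (m + 1) ((d m).rTensor N z) :=
    fun m z => by rw [hT, hT, map_smul]
  have hPd : ∀ m (z : C m ⊗[A] N), (d m).rTensor N' (P m z) = P (m + 1) ((d m).rTensor N z) :=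
    fun m z => by
      rw [← LinearMap.comp_apply, ← LinearMap.comp_apply, LinearMap.rTensor_comp_lTensor,
        LinearMap.lTensor_comp_rTensor]
  -- the map induced by the projection
  let i : cxH d N n →ₗ[A] cxH d N' n := Submodule.mapQ _ _
    (((P n).comp (cxZ d N n).subtype).codRestrict (cxZ d N' n) fun z => by
      show (d n).rTensor N' (P n z.1) = 0
      rw [hPd, show (d n).rTensor N z.1 = 0 from z.2, map_zero])
    fun z hz => lTensor_mem_cxB π hz
  have hi : Function.Injective i := by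
    refine LinearMap.ker_eq_bot.1 (Submodule.eq_bot_iff _ |>.2 fun x hx => ?_)
    obtain ⟨⟨z, hz⟩, rfl⟩ := Submodule.Quotient.mk_surjective _ x
    have hb : P n z ∈ cxB d N' n := (mk_eq_zero_iff _).1 hx
    refine (mk_eq_zero_iff _).2 ?_
    suffices h : ∃ u ∈ cxB d N n, P n (z - u) = 0 by
      obtain ⟨u, hu, h⟩ := h
      obtain ⟨t, ht⟩ := (hexa n _).1 h
      have htz : (d n).rTensor N t = 0 := by
        have hu0 : (d n).rTensor N u = 0 := by
          cases n with
          | zero => rw [(Submodule.mem_bot A).1 hu, map_zero]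
          | succ n =>
            obtain ⟨v, rfl⟩ := hu
            exact rTensor_d_d hd n v
        apply hTi (n + 1)
        rw [← hTd, ht, map_sub, show (d n).rTensor N z = 0 from hz, hu0, sub_zero, map_zero]
      have h' := hk N n t htz
      rw [← hT, ht] at h'
      simpa using add_mem h' hu
    cases n with
    | zero =>
      exact ⟨0, zero_mem _, by rw [sub_zero]; exact (Submodule.mem_bot A).1 hb⟩
    | succ n =>
      obtain ⟨u', hu'⟩ := hb
      obtain ⟨u, rfl⟩ := hPs n u'
      exact ⟨_, ⟨u, rfl⟩, by rw [map_sub, ← hPd, hu', sub_self]⟩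
  -- cochains that are cycles modulo the multiplication
  let S : Submodule A (C n ⊗[A] N) := LinearMap.ker ((P (n + 1)).comp ((d n).rTensor N))
  let Ψ : S →ₗ[A] cxH d N' n := (Submodule.mkQ _).comp
    (((P n).comp S.subtype).codRestrict (cxZ d N' n) fun w => by
      show (d n).rTensor N' (P n w.1) = 0
      rw [hPd]
      exact w.2)
  have hΨ : Function.Surjective Ψ := by
    intro x
    obtain ⟨⟨z, hz⟩, rfl⟩ := Submodule.Quotient.mk_surjective _ x
    obtain ⟨w, rfl⟩ := hPs n z
    exact ⟨⟨w, show P (n + 1) _ = 0 from (hPd n w).symm.trans hz⟩, rfl⟩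
  let e := LinearEquiv.ofInjective (T (n + 1)) (hTi (n + 1))
  let V : S →ₗ[A] C (n + 1) ⊗[A] N := e.symm.toLinearMap.comp
    ((((d n).rTensor N).comp S.subtype).codRestrict (LinearMap.range (T (n + 1))) fun w =>
      (hexa (n + 1) _).1 w.2)
  have hV : ∀ w : S, T (n + 1) (V w) = (d n).rTensor N w.1 := fun w =>
    congrArg Subtype.val (e.apply_symm_apply _)
  let Φ : S →ₗ[A] cxH d N (n + 1) := (Submodule.mkQ _).comp (V.codRestrict (cxZ d N (n + 1)) fun w =>
    hTi (n + 1 + 1) (by rw [← hTd, hV, rTensor_d_d hd, map_zero]))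
  have hΦ : Function.Surjective Φ := by
    intro x
    obtain ⟨⟨v, hv⟩, rfl⟩ := Submodule.Quotient.mk_surjective _ x
    obtain ⟨w, hw⟩ := hk N (n + 1) v hv
    have hwT : T (n + 1) v = (d n).rTensor N w := by rw [hT, hw]
    refine ⟨⟨w, (hexa (n + 1) _).2 ⟨v, hwT⟩⟩, congrArg Submodule.Quotient.mk (Subtype.ext ?_)⟩
    apply hTi (n + 1)
    show T (n + 1) (V _) = _
    rw [hV, hwT]
  have hΦ0 : ∀ (w : S) (t : C n ⊗[A] N), V w = (d n).rTensor N t → Φ w = 0 := fun w t h =>
    (mk_eq_zero_iff _).2 ⟨t, h.symm⟩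
  have hle : LinearMap.ker Ψ ≤ LinearMap.ker Φ := by
    intro w hw
    have hb : P n w.1 ∈ cxB d N' n := (mk_eq_zero_iff _).1 hw
    obtain ⟨u, hu0, h⟩ : ∃ u, (d n).rTensor N u = 0 ∧ P n (w.1 - u) = 0 := by
      cases n with
      | zero => exact ⟨0, map_zero _, by rw [sub_zero]; exact (Submodule.mem_bot A).1 hb⟩
      | succ n =>
        obtain ⟨u', hu'⟩ := hb
        obtain ⟨u, rfl⟩ := hPs n u'
        exact ⟨_, rTensor_d_d hd n u, by rw [map_sub, ← hPd, hu', sub_self]⟩
    obtain ⟨t, ht⟩ := (hexa n _).1 h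
    refine hΦ0 w t (hTi (n + 1) ?_)
    rw [hV, ← hTd, ht, map_sub, hu0, sub_zero]
  let δ : cxH d N' n →ₗ[A] cxH d N (n + 1) := ((LinearMap.ker Ψ).liftQ Φ hle).comp
    (Ψ.quotKerEquivOfSurjective hΨ).symm.toLinearMap
  have hδ : ∀ w, δ (Ψ w) = Φ w := fun w => by
    have : (Ψ.quotKerEquivOfSurjective hΨ).symm (Ψ w) = Submodule.Quotient.mk w :=
      (LinearEquiv.symm_apply_eq _).2 rfl
    show (LinearMap.ker Ψ).liftQ Φ hle ((Ψ.quotKerEquivOfSurjective hΨ).symm (Ψ w)) = _
    rw [this, Submodule.liftQ_apply]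
  refine ⟨i, δ, hi, fun x => ?_, fun x => ⟨fun hx => ?_, ?_⟩⟩
  · obtain ⟨w, rfl⟩ := hΦ x
    exact ⟨Ψ w, hδ w⟩
  · obtain ⟨w, rfl⟩ := hΨ x
    rw [hδ] at hx
    obtain ⟨t, ht⟩ := (mk_eq_zero_iff _).1 hx
    have hz : (d n).rTensor N (w.1 - T n t) = 0 := by
      rw [map_sub, hTd, ht]
      show _ - T (n + 1) (V w) = 0
      rw [hV, sub_self]
    refine ⟨Submodule.Quotient.mk ⟨_, hz⟩, congrArg Submodule.Quotient.mk (Subtype.ext ?_)⟩
    show P n (w.1 - T n t) = P n w.1
    rw [map_sub, (hexa n).apply_apply_eq_zero, sub_zero]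
  · rintro ⟨x, rfl⟩
    obtain ⟨⟨z, hz⟩, rfl⟩ := Submodule.Quotient.mk_surjective _ x
    have hzS : z ∈ S := show P (n + 1) ((d n).rTensor N z) = 0 by
      rw [show (d n).rTensor N z = 0 from hz, map_zero]
    refine (hδ ⟨z, hzS⟩).trans (hΦ0 _ 0 (hTi (n + 1) ?_))
    rw [hV, map_zero, map_zero]
    exact hz

end Step

section Tower

variable [∀ n, Module.Flat A (C n)] (hd : ∀ n z, d (n + 1) (d n z) = 0) {g : ℕ} {ℓ : ℕ∞}

/-- Multiplying the coefficients by the head of the list. -/
theorem exists_seq_head (y : A) {N : Type u} [AddCommGroup N] [Module A N]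
    (hd : ∀ n z, d (n + 1) (d n z) = 0) (hy : IsSMulRegular N y) (hk : Kills d y) (n : ℕ) :
    ∃ (i : cxH d N n →ₗ[A] cxH d (QuotSMulTop y N) n)
      (δ : cxH d (QuotSMulTop y N) n →ₗ[A] cxH d N (n + 1)),
      Function.Injective i ∧ Function.Surjective δ ∧ Function.Exact i δ := by
  refine exists_seq hd hy hk (Submodule.mkQ _) (Submodule.mkQ_surjective _) ?_ n
  rw [Submodule.ker_mkQ]
  ext v
  simp [Submodule.mem_smul_pointwise_iff_exists, eq_comm]

/-- The Betti numbers in a tower over a regular sequence. -/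
def Betti (d : ∀ n, C n →ₗ[A] C (n + 1)) (g : ℕ) (ℓ : ℕ∞) (j : ℕ) (N : Type u) [AddCommGroup N]
    [Module A N] : Prop :=
  ∀ n, (g < n → Subsingleton (cxH d N n)) ∧ (n + j < g → Subsingleton (cxH d N n)) ∧
    ∀ i, n + i = g → Module.length A (cxH d N n) = (j.choose i : ℕ∞) * ℓ

include hd in
theorem betti_step {y : A} {N : Type u} [AddCommGroup N] [Module A N] {j : ℕ}
    (hy : IsSMulRegular N y) (hk : Kills d y) (hN : Betti d g ℓ j N) :
    Betti d g ℓ (j + 1) (QuotSMulTop y N) := by
  intro n
  obtain ⟨i, δ, hi, hδ, hex⟩ := exists_seq_head y hd hy hk n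
  have hlen := Module.length_eq_add_of_exact i δ hi hδ hex
  have hsub : Subsingleton (cxH d N n) → Subsingleton (cxH d N (n + 1)) →
      Subsingleton (cxH d (QuotSMulTop y N) n) := fun h1 h2 => by
    rw [← Module.length_eq_zero_iff (R := A), hlen, Module.length_eq_zero, Module.length_eq_zero,
      add_zero]
  refine ⟨fun hn => hsub ((hN n).1 hn) ((hN (n + 1)).1 (by omega)),
    fun hn => hsub ((hN n).2.1 (by omega)) ((hN (n + 1)).2.1 (by omega)), fun r hr => ?_⟩
  rw [hlen, (hN n).2.2 r hr]
  cases r with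
  | zero =>
    have := (hN (n + 1)).1 (by omega)
    rw [Module.length_eq_zero, add_zero, Nat.choose_zero_right, Nat.choose_zero_right]
  | succ r =>
    rw [(hN (n + 1)).2.2 r (by omega), Nat.choose_succ_succ', Nat.cast_add, ← add_mul, add_comm]

include hd in
/-- The Betti numbers modulo a regular sequence. -/
theorem betti_quot : ∀ (ys : List A) (N : Type u) [AddCommGroup N] [Module A N] (j : ℕ),
    IsWeaklyRegular N ys → (∀ y ∈ ys, Kills d y) → Betti d g ℓ j N →
      ∀ (Q : Type u) [AddCommGroup Q] [Module A Q],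
        ((N ⧸ (Ideal.ofList ys • ⊤ : Submodule A N)) ≃ₗ[A] Q) → Betti d g ℓ (j + ys.length) Q := by
  intro ys
  induction ys with
  | nil =>
    intro N _ _ j _ _ hN Q _ _ e
    let e' : N ≃ₗ[A] Q := (Submodule.quotEquivOfEqBot (Ideal.ofList ([] : List A) • ⊤ : Submodule A N)
      (by simp)).symm.trans e
    intro n
    let f : cxH d N n ≃ₗ[A] cxH d Q n := by
      refine Submodule.Quotient.equiv _ _ (LinearEquiv.ofSubmodules
        (LinearEquiv.lTensor (C n) e') _ _ ?_) ?_
      · refine le_antisymm ?_ fun z hz => ⟨(LinearEquiv.lTensor (C n) e').symm z, ?_, (LinearEquiv.lTensor (C n) e').apply_symm_apply z⟩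
        · rintro _ ⟨z, hz, rfl⟩
          show (d n).rTensor Q (e'.toLinearMap.lTensor (C n) z) = 0
          rw [← LinearMap.comp_apply, LinearMap.rTensor_comp_lTensor,
            ← LinearMap.lTensor_comp_rTensor, LinearMap.comp_apply,
            show (d n).rTensor N z = 0 from hz, map_zero]
        · show (d n).rTensor N (e'.symm.toLinearMap.lTensor (C n) z) = 0
          rw [← LinearMap.comp_apply, LinearMap.rTensor_comp_lTensor,
            ← LinearMap.lTensor_comp_rTensor, LinearMap.comp_apply,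
            show (d n).rTensor Q z = 0 from hz, map_zero]
      · refine le_antisymm ?_ fun z hz => ?_
        · rintro _ ⟨z, hz, rfl⟩
          exact lTensor_mem_cxB e'.toLinearMap hz
        · refine ⟨⟨e'.symm.toLinearMap.lTensor (C n) z.1, ?_⟩,
            lTensor_mem_cxB e'.symm.toLinearMap hz,
            Subtype.ext ((LinearEquiv.lTensor (C n) e').apply_symm_apply z.1)⟩
          show (d n).rTensor N (e'.symm.toLinearMap.lTensor (C n) z.1) = 0
          rw [← LinearMap.comp_apply, LinearMap.rTensor_comp_lTensor,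
            ← LinearMap.lTensor_comp_rTensor, LinearMap.comp_apply,
            show (d n).rTensor Q z.1 = 0 from z.2, map_zero]
    rw [List.length_nil, add_zero]
    refine ⟨fun h => ?_, fun h => ?_, fun i hi => f.length_eq.symm.trans ((hN n).2.2 i hi)⟩
    · have := (hN n).1 h
      exact f.symm.toEquiv.subsingleton
    · have := (hN n).2.1 h
      exact f.symm.toEquiv.subsingleton
  | cons y ys ih =>
    intro N _ _ j hreg hk hN Q _ _ e
    obtain ⟨h1, h2⟩ := (isWeaklyRegular_cons_iff N y ys).1 hreg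
    rw [List.length_cons, show j + (ys.length + 1) = j + 1 + ys.length by omega]
    exact ih (QuotSMulTop y N) (j + 1) h2 (fun z hz => hk z (List.mem_cons_of_mem y hz))
      (betti_step hd h1 (hk y List.mem_cons_self) hN) Q
      ((Submodule.quotOfListConsSMulTopEquivQuotSMulTopInner N y ys).symm.trans e)

include hd in
/-- What kills the bottom cohomology modulo a regular sequence kills the cohomology. -/
theorem smul_eq_zero_of_quot {x : A} : ∀ (ys : List A) (N : Type u) [AddCommGroup N] [Module A N],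
    IsWeaklyRegular N ys → (∀ y ∈ ys, Kills d y) →
      (∀ (Q : Type u) [AddCommGroup Q] [Module A Q] (h : cxH d Q 0), x • h = 0) →
        ∀ h : cxH d N ys.length, x • h = 0 := by
  intro ys
  induction ys with
  | nil => intro N _ _ _ _ hx h; exact hx N h
  | cons y ys ih =>
    intro N _ _ hreg hk hx h
    obtain ⟨h1, h2⟩ := (isWeaklyRegular_cons_iff N y ys).1 hreg
    obtain ⟨-, δ, -, hδ, -⟩ := exists_seq_head y hd h1 (hk y List.mem_cons_self) ys.length
    obtain ⟨h', rfl⟩ := hδ h
    rw [← map_smul, ih (QuotSMulTop y N) h2 (fun z hz => hk z (List.mem_cons_of_mem y hz)) hx h',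
      map_zero]

end Tower

omit [∀ n, AddCommGroup (C n)] in
/-- The residue field of the localisation. -/
theorem bijective_liftQ_residue (m : Ideal A) [m.IsMaximal]
    (h : ∀ a ∈ m, Algebra.linearMap A (Localization.AtPrime m ⧸
      IsLocalRing.maximalIdeal (Localization.AtPrime m)) a = 0 :=
      fun a ha => Ideal.Quotient.eq_zero_iff_mem.2
        ((IsLocalization.AtPrime.to_map_mem_maximal_iff (Localization.AtPrime m) m a).2 ha)) :
    Function.Bijective (m.liftQ (Algebra.linearMap A (Localization.AtPrime m ⧸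
      IsLocalRing.maximalIdeal (Localization.AtPrime m))) h) := by
  have e := (IsLocalization.AtPrime.equivQuotMaximalIdeal m (Localization.AtPrime m)).bijective
  convert e using 1
  funext q
  obtain ⟨a, rfl⟩ := Submodule.Quotient.mk_surjective _ q
  rfl

theorem tmul_mem_cxB {N : Type u} [AddCommGroup N] [Module A N] (v : N) :
    ∀ {n : ℕ} {z : C n}, z ∈ cBd d n → z ⊗ₜ[A] v ∈ cxB d N n
  | 0, z, h => by
    rw [(Submodule.mem_bot A).1 h, TensorProduct.zero_tmul]
    exact zero_mem _
  | n + 1, _, ⟨u, rfl⟩ => ⟨u ⊗ₜ v, LinearMap.rTensor_tmul _ _ _ _⟩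

section Main

variable [∀ n, Module.Projective A (C n)] (hd : ∀ n z, d (n + 1) (d n z) = 0) {g b : ℕ}
  (hbdd : ∀ n, b < n → Subsingleton (C n)) (hex : ∀ n, n ≠ g → ∀ z, d n z = 0 → z ∈ cBd d n)
  (m : Ideal A) [m.IsMaximal] {xs : List A} (hlen : xs.length = g)
  (hreg : IsWeaklyRegular (Localization.AtPrime m) xs) (hxs : ∀ x ∈ xs, x ∈ m)
  (hpow : ∀ a ∈ m, ∃ N : ℕ, ∀ z, d g z = 0 → a ^ N • z ∈ cBd d g)
  (hbot : ∀ x ∈ m, ∀ (N : Type u) [AddCommGroup N] [Module A N] (z : C 0 ⊗[A] N),
    (d 0).rTensor N z = 0 → x • z = 0)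

omit [∀ n, Module.Projective A (C n)] [m.IsMaximal] in
/-- The exactness with localised coefficients. -/
theorem subsingleton_cxH_loc [m.IsPrime] {n : ℕ} (hex : ∀ z, d n z = 0 → z ∈ cBd d n) :
    Subsingleton (cxH d (Localization.AtPrime m) n) := by
  refine subsingleton_of_forall_eq 0 fun h => ?_
  obtain ⟨⟨z, hz⟩, rfl⟩ := Submodule.Quotient.mk_surjective _ h
  refine (mk_eq_zero_iff _).2 ?_
  have : Module.Flat A (Localization.AtPrime m) := IsLocalization.flat _ m.primeCompl
  cases n with
  | zero =>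
    have h0 : Function.Injective (d 0) := LinearMap.ker_eq_bot.1
      ((Submodule.eq_bot_iff _).2 fun w hw => (Submodule.mem_bot A).1 (hex w hw))
    show z ∈ cxB d _ 0
    have h := Module.Flat.rTensor_preserves_injective_linearMap (M := Localization.AtPrime m) _ h0
      (show (d 0).rTensor _ z = (d 0).rTensor _ 0 from (show (d 0).rTensor _ z = 0 from hz).trans (map_zero _).symm)
    rw [h]
    exact zero_mem _
  | succ n =>
    obtain ⟨u, hu⟩ : z ∈ LinearMap.range ((d n).rTensor (Localization.AtPrime m)) := by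
      let S := LinearMap.ker (d (n + 1))
      have hs : Function.Exact S.subtype (d (n + 1)) := LinearMap.exact_subtype_ker_map _
      obtain ⟨v, rfl⟩ := (Module.Flat.rTensor_exact (Localization.AtPrime m) hs z).1 hz
      clear hz
      induction v using TensorProduct.induction_on with
      | zero => rw [map_zero]; exact zero_mem _
      | tmul w r =>
        obtain ⟨u, hu⟩ := hex w.1 w.2
        exact ⟨u ⊗ₜ r, by simp [hu]⟩
      | add p q hp hq => rw [map_add]; exact add_mem hp hq
    exact ⟨u, hu⟩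

omit [∀ n, Module.Projective A (C n)] in
include hpow in
/-- A cycle killed by powers of the maximal ideal which vanishes after localisation is a boundary. -/
theorem mem_cBd_of_tmul {w : C g} (hw : d g w = 0)
    (hmem : w ⊗ₜ[A] (1 : Localization.AtPrime m) ∈ cxB d (Localization.AtPrime m) g) :
    w ∈ cBd d g := by
  classical
  choose N hN using hpow
  let R := Localization.AtPrime m
  obtain ⟨s, hs, hsz⟩ : ∃ s ∉ m, s • w ∈ cBd d g := by
    cases g with
    | zero =>
      have h0 : (TensorProduct.mk A R (C 0)) 1 w = 0 := by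
        apply (TensorProduct.comm A R (C 0)).injective
        rw [map_zero]
        exact (Submodule.mem_bot A).1 hmem
      obtain ⟨s, hs⟩ := (IsLocalizedModule.eq_zero_iff m.primeCompl
        ((TensorProduct.mk A R (C 0)) 1)).1 h0
      exact ⟨s, s.2, by rw [show (s : A) • w = 0 from hs]; exact zero_mem _⟩
    | succ g =>
      obtain ⟨u, hu⟩ := hmem
      obtain ⟨⟨u₀, s⟩, hu₀⟩ := IsLocalizedModule.surj m.primeCompl ((TensorProduct.mk A R (C g)) 1)
        (TensorProduct.comm A (C g) R u)
      have h0 : (TensorProduct.mk A R (C (g + 1))) 1 ((s : A) • w - d g u₀) = 0 := by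
        have e : (d g).lTensor R (TensorProduct.comm A (C g) R u) =
            (1 : R) ⊗ₜ[A] w := by
          have h1 : (d g).lTensor R (TensorProduct.comm A (C g) R u) =
              TensorProduct.comm A (C (g + 1)) R ((d g).rTensor R u) := by
            simp [← LinearMap.comm_comp_rTensor_comp_comm_eq]
          rw [h1, hu, TensorProduct.comm_tmul]
        have e2 := congrArg ((d g).lTensor R) hu₀
        simp only [Submonoid.smul_def] at e2
        rw [map_smul, e] at e2
        simp only [TensorProduct.mk_apply, LinearMap.lTensor_tmul] at e2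
        simp only [TensorProduct.mk_apply, TensorProduct.tmul_sub, TensorProduct.tmul_smul, ← e2,
          sub_self]
      obtain ⟨c, hc⟩ := (IsLocalizedModule.eq_zero_iff m.primeCompl
        ((TensorProduct.mk A R (C (g + 1))) 1)).1 h0
      refine ⟨(c : A) * s, m.primeCompl.mul_mem c.2 s.2, (c : A) • u₀, ?_⟩
      rw [map_smul, mul_smul]
      exact (sub_eq_zero.1 ((smul_sub (c : A) _ _).symm.trans hc)).symm
  let J : Ideal A := (cBd d g).colon {w}
  have hsJ : s ∈ J := Submodule.mem_colon_singleton.2 hsz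
  have hmJ : ∀ a ∈ m, a ∈ J.radical := fun a ha =>
    ⟨N a ha, Submodule.mem_colon_singleton.2 (hN a ha _ hw)⟩
  have htop : J.radical = ⊤ := by
    by_contra hne
    exact hs ((Ideal.IsMaximal.eq_of_le ‹m.IsMaximal› hne hmJ).symm ▸ Ideal.le_radical hsJ)
  have h1 : (1 : A) ∈ J := (Ideal.radical_eq_top.1 htop).symm ▸ trivial
  simpa using Submodule.mem_colon_singleton.1 h1

include hd hbdd hex hlen hreg hxs hpow hbot in
/-- The cohomology is killed by the maximal ideal. -/
theorem smul_mem_cBd_top {x : A} (hx : x ∈ m) {z : C g} (hz : d g z = 0) : x • z ∈ cBd d g := by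
  classical
  choose N hN using hpow
  obtain ⟨E, hE⟩ : ∃ E : ℕ, ∀ a ∈ xs, ∀ w, d g w = 0 → a ^ E • w ∈ cBd d g := by
    refine ⟨∑ a ∈ xs.toFinset.attach, N a.1 (hxs _ (List.mem_toFinset.1 a.2)), fun a ha w hw => ?_⟩
    have hle : N a (hxs a ha) ≤ ∑ b ∈ xs.toFinset.attach, N b.1 (hxs _ (List.mem_toFinset.1 b.2)) :=
      Finset.single_le_sum (f := fun b : {b // b ∈ xs.toFinset} => N b.1 (hxs _ (List.mem_toFinset.1 b.2)))
        (fun _ _ => Nat.zero_le _) (Finset.mem_attach _ ⟨a, List.mem_toFinset.2 ha⟩)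
    obtain ⟨c, hc⟩ := Nat.exists_eq_add_of_le hle
    rw [hc, pow_add, mul_comm, mul_smul]
    exact Submodule.smul_mem _ _ (hN a (hxs a ha) w hw)
  have hk : ∀ y ∈ xs.map (· ^ E), Kills d y := by
    intro y hy
    obtain ⟨a, ha, rfl⟩ := List.mem_map.1 hy
    exact kills_of_top hd hbdd hex (hE a ha)
  let R := Localization.AtPrime m
  let zR : cxH d R g := Submodule.Quotient.mk ⟨z ⊗ₜ (1 : R), by
    show (d g).rTensor R (z ⊗ₜ 1) = 0
    rw [LinearMap.rTensor_tmul, hz, TensorProduct.zero_tmul]⟩
  have hzero : x • zR = 0 := by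
    subst hlen
    have h := smul_eq_zero_of_quot hd (x := x) (xs.map (· ^ E)) R
      (Groth.LocCohTransform.WRPow.isWeaklyRegular_map_pow xs E hreg) hk (fun Q _ _ h => ?_)
    · rw [List.length_map] at h
      exact h zR
    · obtain ⟨⟨w, hw⟩, rfl⟩ := Submodule.Quotient.mk_surjective _ h
      refine (mk_eq_zero_iff _).2 ?_
      show x • w ∈ _
      rw [hbot x hx Q w hw]
      exact zero_mem _
  exact mem_cBd_of_tmul m (fun a ha => ⟨N a ha, hN a ha⟩) (by rw [map_smul, hz, smul_zero])
    ((mk_eq_zero_iff _).1 hzero)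

variable (hgen : Ideal.ofList (xs.map (algebraMap A (Localization.AtPrime m))) =
    IsLocalRing.maximalIdeal (Localization.AtPrime m))
  (hone : Module.length A (cxH d (A ⧸ m) 0) = 1)

include hd hbdd hex hlen hreg hxs hpow hbot hgen hone in
/-- The top cohomology has length one, and the Betti numbers are binomial coefficients. -/
theorem betti_main :
    Module.length A (↥(LinearMap.ker (d g)) ⧸ (cBd d g).comap (LinearMap.ker (d g)).subtype) = 1 ∧
      ∀ n, (g < n → Subsingleton (cxH d (A ⧸ m) n)) ∧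
        (n ≤ g → Module.length A (cxH d (A ⧸ m) n) = (g.choose n : ℕ∞)) := by
  let R := Localization.AtPrime m
  have hk : ∀ y ∈ xs, Kills d y := fun y hy => kills_of_top hd hbdd hex fun z hz =>
    smul_mem_cBd_top hd hbdd hex m hlen hreg hxs hpow hbot (hxs y hy) hz
  have h0 : Betti d g (Module.length A (cxH d R g)) 0 R := fun n => by
    refine ⟨fun h => subsingleton_cxH_loc m (hex n h.ne'),
      fun h => subsingleton_cxH_loc m (hex n (by omega)), fun i hi => ?_⟩
    cases i with
    | zero =>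
      obtain rfl : n = g := by omega
      simp
    | succ i =>
      have := subsingleton_cxH_loc m (n := n) (hex n (by omega))
      simp [Module.length_eq_zero]
  have hsub : (Ideal.ofList xs • ⊤ : Submodule A R) =
      (IsLocalRing.maximalIdeal R).restrictScalars A := by
    rw [Ideal.smul_top_eq_map, Ideal.map_ofList, hgen]
  let e : (R ⧸ (Ideal.ofList xs • ⊤ : Submodule A R)) ≃ₗ[A] A ⧸ m :=
    ((Submodule.quotEquivOfEq _ _ hsub).trans (Submodule.Quotient.restrictScalarsEquiv A _)).trans
      (LinearEquiv.ofBijective _ (bijective_liftQ_residue m)).symm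
  have hB := betti_quot hd xs R 0 hreg hk h0 (A ⧸ m) e
  rw [hlen, Nat.zero_add] at hB
  have hℓ : Module.length A (cxH d R g) = 1 := by
    have h := (hB 0).2.2 g (Nat.zero_add g)
    rw [hone, Nat.choose_self, Nat.cast_one, one_mul] at h
    exact h.symm
  refine ⟨?_, fun n => ⟨(hB n).1, fun hn => ?_⟩⟩
  · let f : ↥(LinearMap.ker (d g)) ⧸ (cBd d g).comap (LinearMap.ker (d g)).subtype →ₗ[A] cxH d R g :=
      Submodule.mapQ _ _ ((((TensorProduct.mk A (C g) R).flip 1).comp
        (LinearMap.ker (d g)).subtype).codRestrict (cxZ d R g) fun w => by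
          show (d g).rTensor R (w.1 ⊗ₜ 1) = 0
          rw [LinearMap.rTensor_tmul, w.2, TensorProduct.zero_tmul])
        fun w hw => tmul_mem_cxB 1 hw
    have hf : Function.Injective f := by
      refine LinearMap.ker_eq_bot.1 ((Submodule.eq_bot_iff _).2 fun q hq => ?_)
      obtain ⟨w, rfl⟩ := Submodule.Quotient.mk_surjective _ q
      exact (Submodule.Quotient.mk_eq_zero _).2 (mem_cBd_of_tmul m hpow w.2 ((mk_eq_zero_iff _).1 hq))
    refine le_antisymm (hℓ ▸ Module.length_le_of_injective f hf)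
      (Order.one_le_iff_pos.2 (pos_iff_ne_zero.2 fun h => ?_))
    rw [Module.length_eq_zero_iff] at h
    have := subsingleton_cxH_loc m (n := g) fun z hz =>
      show (⟨z, hz⟩ : ↥(LinearMap.ker (d g))) ∈ (cBd d g).comap (LinearMap.ker (d g)).subtype from
        (Submodule.Quotient.mk_eq_zero _).1 (Subsingleton.elim _ 0)
    rw [Module.length_eq_zero] at hℓ
    exact zero_ne_one hℓ
  · obtain ⟨i, rfl⟩ := Nat.exists_eq_add_of_le hn
    rw [(hB n).2.2 i rfl, hℓ, mul_one, Nat.choose_symm_add]

end Main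

end Groth.AbvarAmple.PunctualCx
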