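import Groth.Agent.AbvarAmple.PunctualComplex
import Groth.Agent.AbvarAmple.CorepModel
import Groth.Agent.AbvarAmple.ModelVanish
import Groth.Agent.Ega4Algebra1.RegularParams

/-!
# Families acyclic outside one point: Betti numbers of the exceptional fibre
-/

universe u

open CategoryTheory Limits AlgebraicGeometry TopologicalSpace Opposite RingTheory.Sequence
open scoped TensorProduct

noncomputable section

namespace Groth.AbvarAmple

open Groth.CohBase Groth.CohBase.CxRank Groth.FlatCxBase PunctualCx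

section General

variable {A : Type u} [CommRing A] {C : ℕ → Type u} [∀ n, AddCommGroup (C n)] [∀ n, Module A (C n)]
  {d : ∀ n, C n →ₗ[A] C (n + 1)}

/-- The cohomology with coefficients as the kernel out of the cokernel. -/
theorem exists_cxH_equiv {n : ℕ} {Q W : Type u} [AddCommGroup Q] [Module A Q] [AddCommGroup W] [Module A W]
    (γ : C n →ₗ[A] Q) (hγ : Function.Surjective γ) (hker : LinearMap.ker γ = cBd d n)
    (D : Q →ₗ[A] W) (w : C (n + 1) ≃ₗ[A] W) (hD : D ∘ₗ γ = w.toLinearMap ∘ₗ d n)
    (hd : ∀ n z, d (n + 1) (d n z) = 0) (N : Type u) [AddCommGroup N] [Module A N] :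
    Nonempty (cxH d N n ≃ₗ[A] LinearMap.ker (D.rTensor N)) := by
  let Γ' : cxZ d N n →ₗ[A] LinearMap.ker (D.rTensor N) :=
    ((γ.rTensor N).comp (cxZ d N n).subtype).codRestrict _ fun z => by
      show D.rTensor N (γ.rTensor N z.1) = 0
      rw [← LinearMap.comp_apply, ← LinearMap.rTensor_comp, hD, LinearMap.rTensor_comp,
        LinearMap.comp_apply, show (d n).rTensor N z.1 = 0 from z.2, map_zero]
  have hs : Function.Surjective Γ' := by
    rintro ⟨q, hq⟩
    obtain ⟨z, rfl⟩ := LinearMap.rTensor_surjective N hγ q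
    refine ⟨⟨z, (LinearEquiv.rTensor N w).injective ?_⟩, rfl⟩
    show w.toLinearMap.rTensor N ((d n).rTensor N z) = w.toLinearMap.rTensor N 0
    rw [map_zero, ← LinearMap.comp_apply, ← LinearMap.rTensor_comp, ← hD, LinearMap.rTensor_comp,
      LinearMap.comp_apply]
    exact hq
  have hk : LinearMap.ker Γ' = (cxB d N n).comap (cxZ d N n).subtype := by
    ext z
    constructor
    · intro hz
      have h0 : γ.rTensor N z.1 = 0 := congrArg Subtype.val hz
      obtain ⟨u, hu⟩ := (rTensor_exact N (LinearMap.exact_subtype_ker_map γ) hγ z.1).1 h0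
      show z.1 ∈ cxB d N n
      rw [← hu]
      clear hu h0 hz
      induction u using TensorProduct.induction_on with
      | zero => rw [map_zero]; exact zero_mem _
      | tmul c v =>
        rw [LinearMap.rTensor_tmul]
        exact tmul_mem_cxB v (hker ▸ c.2)
      | add p q hp hq => rw [map_add]; exact add_mem hp hq
    · intro hz
      refine Subtype.ext (show γ.rTensor N z.1 = 0 from ?_)
      obtain ⟨z, hz'⟩ := z
      replace hz : z ∈ cxB d N n := hz
      cases n with
      | zero =>
        show γ.rTensor N z = 0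
        rw [(Submodule.mem_bot A).1 hz, map_zero]
      | succ n =>
        obtain ⟨u, rfl⟩ := hz
        rw [← LinearMap.comp_apply, ← LinearMap.rTensor_comp,
          show γ ∘ₗ d n = 0 from LinearMap.ext fun c => by
            show γ (d n c) = 0
            exact (show d n c ∈ LinearMap.ker γ from hker ▸ ⟨c, rfl⟩), LinearMap.rTensor_zero,
          LinearMap.zero_apply]
  exact ⟨(Submodule.quotEquivOfEq _ _ hk.symm).trans (Γ'.quotKerEquivOfSurjective hs)⟩

/-- The length of a kernel after tensoring with a residue field. -/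
theorem length_ker_rTensor {Q W : Type u} [AddCommGroup Q] [Module A Q] [AddCommGroup W] [Module A W]
    (φ : Q →ₗ[A] W) (K : Type u) [Field K] [Algebra A K] (hK : Function.Surjective (algebraMap A K)) :
    Module.length A (LinearMap.ker (φ.rTensor K)) = Module.length K (LinearMap.ker (φ.baseChange K)) := by
  rw [← Module.length_eq_of_surjective (R := K) (S := A) (M := LinearMap.ker (φ.baseChange K)) hK]
  have h : ∀ (p : Q ⊗[A] K), φ.baseChange K (TensorProduct.comm A Q K p) =
      TensorProduct.comm A W K (φ.rTensor K p) := fun p => by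
    induction p using TensorProduct.induction_on with
    | zero => simp
    | tmul q b => simp
    | add p q hp hq => simp [hp, hq]
  exact LinearEquiv.length_eq
    { toFun := fun w => ⟨TensorProduct.comm A Q K w.1, by
        rw [LinearMap.mem_ker, h, show φ.rTensor K w.1 = 0 from w.2, map_zero]⟩
      invFun := fun w => ⟨(TensorProduct.comm A Q K).symm w.1, by
        refine (TensorProduct.comm A W K).injective ?_
        rw [map_zero, ← h, LinearEquiv.apply_symm_apply]
        exact w.2⟩
      left_inv := fun w => Subtype.ext ((TensorProduct.comm A Q K).symm_apply_apply _)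
      right_inv := fun w => Subtype.ext ((TensorProduct.comm A Q K).apply_symm_apply _)
      map_add' := fun v w => Subtype.ext (map_add _ _ _)
      map_smul' := fun r w => Subtype.ext (map_smul (TensorProduct.comm A Q K) r w.1) }

end General

section Model

variable {A : Type u} [CommRing A] (L : CochainComplex (ModuleCat.{u} A) ℤ)

/-- The projection of the cut off on the cokernel. -/
def cutγ : ∀ n : ℕ, cutX L n →ₗ[A] Qc L (n : ℤ)
  | 0 => LinearMap.id
  | n + 1 => cokerπ L (((n + 1 : ℕ) : ℤ) - 1) ((n + 1 : ℕ) : ℤ)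

theorem cutγ_cutπ : ∀ (n : ℕ) (w : L.X (n : ℤ)),
    cutγ L n (cutπ L n w) = cokerπ L ((n : ℤ) - 1) n w
  | 0, _ => rfl
  | _ + 1, _ => rfl

theorem cutγ_surjective (n : ℕ) : Function.Surjective (cutγ L n) := fun q => by
  obtain ⟨w, rfl⟩ := Submodule.mkQ_surjective _ q
  exact ⟨cutπ L n w, cutγ_cutπ L n w⟩

theorem ker_cutγ [IsNoetherianRing A] (n : ℕ) :
    LinearMap.ker (cutγ L n) = cBd (R := A) (C := fun n => cutX L n) (cutD L) n := by
  ext v
  obtain ⟨w, rfl⟩ := cutπ_surjective L n v
  rw [LinearMap.mem_ker, cutγ_cutπ, cutπ_mem_cBd_iff]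

theorem cutγ_comp (n : ℕ) :
    (dq L (n : ℤ)) ∘ₗ cutγ L n = (LinearEquiv.refl A (L.X ((n + 1 : ℕ) : ℤ))).toLinearMap ∘ₗ cutD L n := by
  refine LinearMap.ext fun v => ?_
  obtain ⟨w, rfl⟩ := cutπ_surjective L n v
  show dq L (n : ℤ) (cutγ L n (cutπ L n w)) = cutD L n (cutπ L n w)
  rw [cutγ_cutπ, cutD_cutπ]
  exact LinearMap.congr_fun (dBar_comp L ((n : ℤ) - 1) n ((n : ℤ) + 1)) w

end Model

variable {X S : Scheme.{u}} (f : X ⟶ S) [IsProper f] [IsLocallyNoetherian S]
  [HasInjectiveResolutions X.Modules] {M : X.Modules} {V : S.Opens} (hV : IsAffineOpen V)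

include hV in
set_option backward.isDefEq.respectTransparency false in
/-- The Betti numbers of an isolated nonacyclic fibre are binomial coefficients, and the
top higher direct image has length one there. -/
theorem punctual_model {L : CochainComplex (ModuleCat.{u} Γ(S, V)) ℤ} (hL : IsModel f M L)
    {Q : ModuleCat.{u} Γ(S, V)}
    (c : CohIII.TFun L 0 ≅ (linearCoyoneda Γ(S, V) (ModuleCat.{u} Γ(S, V))).obj (op Q))
    {z : S} (hz : z ∈ V) (hzc : IsClosed ({z} : Set S))
    (hout : ∀ p, ∀ y ∈ V, y ≠ z → Subsingleton (CohIII.fiberH f M y p)) (g : ℕ)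
    (habove : ∀ p, g < p → Subsingleton (CohIII.fiberH f M z p))
    (hr : IsRegularLocalRing (S.presheaf.stalk z))
    (hd : ringKrullDim (S.presheaf.stalk z) = (g : WithBot ℕ∞))
    (hQ : ∀ x ∈ (hV.primeIdealOf ⟨z, hz⟩).asIdeal, ∀ v : Q, x • v = 0)
    (hone : CohIII.fiberRank f M 0 z = 1) :
    (∀ n : ℕ, n ≤ g → CohIII.fiberRank f M n z = g.choose n) ∧
      (∀ n : ℕ, n ≠ g → Subsingleton (Hk L (n : ℤ))) ∧
      Module.length Γ(S, V) (Hk L (g : ℤ)) = 1 := by
  classical
  let m := (hV.primeIdealOf ⟨z, hz⟩).asIdeal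
  have : m.IsMaximal := isMaximal_primeIdealOf hV hz hzc
  have : IsNoetherianRing Γ(S, V) := IsLocallyNoetherian.component_noetherian ⟨V, hV⟩
  have := hL.finite
  have := hL.flat
  let C : ℕ → Type u := fun n => cutX L n
  let d : ∀ n, C n →ₗ[Γ(S, V)] C (n + 1) := cutD L
  have hdd : ∀ n v, d (n + 1) (d n v) = 0 := cutD_cutD L
  have hproj : ∀ n, Module.Projective Γ(S, V) (C n) := by
    intro n
    cases n with
    | zero =>
      have h0 : Module.Flat Γ(S, V) (Qc L 0) := hL.flat_Qc_zero
      have := Module.finitePresentation_of_finite Γ(S, V) (Qc L 0)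
      exact (Module.Flat.projective_of_finitePresentation : Module.Projective Γ(S, V) (Qc L 0))
    | succ n =>
      have := hL.free ((n + 1 : ℕ) : ℤ)
      exact (inferInstance : Module.Projective Γ(S, V) (L.X ((n + 1 : ℕ) : ℤ)))
  obtain ⟨b, hb⟩ := hL.bdd
  have hbdd : ∀ n, b.toNat < n → Subsingleton (C n) := by
    intro n hn
    cases n with
    | zero => omega
    | succ n => exact ModuleCat.subsingleton_of_isZero (hb ((n + 1 : ℕ) : ℤ) (by omega))
  have hHk : ∀ n : ℕ, n ≠ g → Subsingleton (Hk L (n : ℤ)) := by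
    intro n hn
    rcases lt_or_gt_of_ne hn with hlt | hgt
    swap
    · exact hL.subsingleton_Hk hV n fun y hy =>
        if hyz : y = z then hyz ▸ habove n hgt else hout n y hy hyz
    refine subsingleton_Hk_of_finite_support L hL.flat_Qc_zero {m} (fun m' hm' => ?_) (fun q p hp => ?_)
      g (fun m' _ hm' => ?_) n hlt
    · rw [Finset.mem_singleton] at hm'
      subst hm'
      infer_instance
    · obtain ⟨y, hy, rfl⟩ := exists_primeIdealOf_eq hV p
      rw [Finset.mem_singleton]
      by_cases hyz : y = z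
      · subst hyz; rfl
      · exact absurd hp (hL.notMem_support hV q y hy (hout q y hy hyz))
    · rw [Finset.mem_singleton] at hm'
      subst hm'
      exact regular_localization_of_stalk hV hz g hr hd
  -- cycles of the cut off and the kernels out of the cokernels
  have hH : ∀ (n : ℕ) (N : Type u) [AddCommGroup N] [Module Γ(S, V) N],
      Nonempty (cxH d N n ≃ₗ[Γ(S, V)] LinearMap.ker ((dq L (n : ℤ)).rTensor N)) := fun n N _ _ =>
    exists_cxH_equiv (C := C) (cutγ L n) (cutγ_surjective L n) (ker_cutγ L n) (dq L (n : ℤ))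
      (LinearEquiv.refl _ _) (cutγ_comp L n) hdd N
  have hcyc : ∀ (n : ℕ) (v : C n), d n v = 0 → dq L (n : ℤ) (cutγ L n v) = 0 := fun n v hv => by
    rw [← LinearMap.comp_apply, cutγ_comp]
    exact hv
  have hex : ∀ n, n ≠ g → ∀ v, d n v = 0 → v ∈ cBd d n := by
    intro n hn v hv
    have := hHk n hn
    rw [← ker_cutγ L n]
    exact congrArg Subtype.val (Subsingleton.elim (⟨_, hcyc n v hv⟩ : Hk L (n : ℤ)) 0)
  have hsupp : ∀ q ∈ Module.support Γ(S, V) (Hk L (g : ℤ)), q = hV.primeIdealOf ⟨z, hz⟩ := by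
    intro q hq
    obtain ⟨y, hy, rfl⟩ := exists_primeIdealOf_eq hV q
    by_cases hyz : y = z
    · subst hyz; rfl
    · exact absurd hq (hL.notMem_support hV g y hy (hout g y hy hyz))
  have hpow : ∀ a ∈ m, ∃ N : ℕ, ∀ v, d g v = 0 → a ^ N • v ∈ cBd d g := by
    intro a ha
    have hrad : a ∈ (Module.annihilator Γ(S, V) (Hk L (g : ℤ))).radical := by
      rw [← PrimeSpectrum.vanishingIdeal_zeroLocus_eq_radical, PrimeSpectrum.mem_vanishingIdeal]
      intro q hq
      rw [hsupp q ((Module.support_eq_zeroLocus (R := Γ(S, V)) (M := Hk L (g : ℤ))).symm ▸ hq)]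
      exact ha
    obtain ⟨N, hN⟩ := hrad
    refine ⟨N, fun v hv => ?_⟩
    rw [← ker_cutγ L g, LinearMap.mem_ker, map_smul]
    exact congrArg Subtype.val (Module.mem_annihilator.1 hN (⟨_, hcyc g v hv⟩ : Hk L (g : ℤ)))
  have hbot : ∀ x ∈ m, ∀ (N : Type u) [AddCommGroup N] [Module Γ(S, V) N] (w : C 0 ⊗[Γ(S, V)] N),
      (d 0).rTensor N w = 0 → x • w = 0 := by
    intro x hx N _ _ w hw
    let e := (tKerEquiv L (ModuleCat.of Γ(S, V) N) 0).symm.trans
      ((c.app (ModuleCat.of Γ(S, V) N)).toLinearEquiv)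
    let w' : LinearMap.ker ((dq L 0).rTensor N) := ⟨w, hw⟩
    have h0 : x • w' = 0 := by
      apply e.injective
      rw [map_smul, map_zero]
      apply ModuleCat.hom_ext
      refine LinearMap.ext fun v => ?_
      show x • (ModuleCat.Hom.hom (e w')) v = 0
      rw [← map_smul, hQ x hx v, map_zero]
    exact congrArg Subtype.val h0
  -- parameters
  obtain ⟨hreg', hdim'⟩ := regular_localization_of_stalk hV hz g hr hd
  have hfr := Groth.Ega4Algebra1.spanFinrank_eq_of_ringKrullDim hdim'
  obtain ⟨ξ, hξ⟩ := Groth.Ega4Algebra1.exists_span_eq_maximalIdeal hfr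
  choose as hasξ using fun i => IsLocalization.surj m.primeCompl (ξ i)
  let a : Fin g → Γ(S, V) := fun i => (as i).1
  have hspan : Ideal.span (Set.range fun i => algebraMap Γ(S, V) (Localization.AtPrime m) (a i)) =
      IsLocalRing.maximalIdeal (Localization.AtPrime m) := by
    rw [← hξ]
    refine le_antisymm (Ideal.span_le.2 ?_) (Ideal.span_le.2 ?_) <;> rintro _ ⟨i, rfl⟩
    · show algebraMap _ _ (as i).1 ∈ _
      rw [← hasξ i]
      exact Ideal.mul_mem_right _ _ (Ideal.subset_span ⟨i, rfl⟩)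
    · refine ((Ideal.mul_unit_mem_iff_mem _ (IsLocalization.map_units _ (as i).2)).1 ?_)
      rw [hasξ i]
      exact Ideal.subset_span ⟨i, rfl⟩
  have hregA : IsWeaklyRegular (Localization.AtPrime m) (List.ofFn a) := by
    have h := Groth.Ega4Algebra1.isWeaklyRegular_of_span_eq g _ hfr _ hspan
    rw [show (List.ofFn fun i => algebraMap Γ(S, V) (Localization.AtPrime m) (a i)) =
      (List.ofFn a).map (algebraMap Γ(S, V) (Localization.AtPrime m)) from List.ofFn_comp' a _] at h
    exact (isWeaklyRegular_map_algebraMap_iff _ _ _).1 h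
  have hgen : Ideal.ofList ((List.ofFn a).map (algebraMap Γ(S, V) (Localization.AtPrime m))) =
      IsLocalRing.maximalIdeal (Localization.AtPrime m) := by
    rw [List.map_ofFn, Groth.Ega4Algebra1.ofList_ofFn]
    exact hspan
  have hxs : ∀ x ∈ List.ofFn a, x ∈ m := by
    intro x hx
    obtain ⟨i, rfl⟩ := List.mem_ofFn.1 hx
    rw [← IsLocalization.AtPrime.to_map_mem_maximal_iff (Localization.AtPrime m) m, ← hspan]
    exact Ideal.subset_span ⟨i, rfl⟩
  -- the residue field
  let κ := S.residueField z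
  let : Algebra Γ(S, V) κ := (S.evaluation V z hz).hom.toAlgebra
  have hκ : RingHom.ker (algebraMap Γ(S, V) κ) = m := ker_evaluation hV z hz
  have hres : ∀ n : ℕ, Module.length Γ(S, V) (cxH d (Γ(S, V) ⧸ m) n) = (CohIII.fiberRank f M n z : ℕ∞) := by
    intro n
    let _ : Field (Γ(S, V) ⧸ m) := Ideal.Quotient.field m
    obtain ⟨e₁⟩ := hH n (Γ(S, V) ⧸ m)
    rw [LinearEquiv.length_eq (N := LinearMap.ker ((dq L (n : ℤ)).rTensor (Γ(S, V) ⧸ m))) e₁, length_ker_rTensor (dq L (n : ℤ)) (Γ(S, V) ⧸ m) Ideal.Quotient.mk_surjective,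
      Module.length_eq_finrank, hL.fiberRank_eq hV n z hz (Γ(S, V) ⧸ m)
        (by rw [Ideal.Quotient.algebraMap_eq, Ideal.mk_ker])]
  obtain ⟨h1, h2⟩ := betti_main hdd (b := b.toNat) hbdd hex m (List.length_ofFn (f := a)) hregA hxs hpow
    hbot hgen (by rw [hres 0, hone, Nat.cast_one])
  refine ⟨fun n hn => ?_, hHk, ?_⟩
  · have h := (h2 n).2 hn
    rw [hres n] at h
    exact_mod_cast h
  · obtain ⟨e⟩ := hH g Γ(S, V)
    let γ' : ↥(LinearMap.ker (d g)) →ₗ[Γ(S, V)] Hk L (g : ℤ) :=
      ((cutγ L g).comp (LinearMap.ker (d g)).subtype).codRestrict _ fun v => hcyc g v.1 v.2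
    have hs : Function.Surjective γ' := by
      rintro ⟨q, hq⟩
      obtain ⟨v, rfl⟩ := cutγ_surjective L g q
      refine ⟨⟨v, ?_⟩, rfl⟩
      have := LinearMap.congr_fun (cutγ_comp L g) v
      exact this.symm.trans hq
    have hk : LinearMap.ker γ' = (cBd d g).comap (LinearMap.ker (d g)).subtype := by
      ext v
      rw [Submodule.mem_comap, ← ker_cutγ L g]
      exact ⟨fun h => congrArg Subtype.val h, fun h => Subtype.ext h⟩
    rw [← ((Submodule.quotEquivOfEq _ _ hk.symm).trans (γ'.quotKerEquivOfSurjective hs)).length_eq]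
    exact h1

end Groth.AbvarAmple
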