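import Groth.Agent.AbvarAmple.Basic
import Groth.Agent.Abvar.Cube.Connected
import Groth.Agent.Abvar.Cube.Theta
import Groth.Agent.Abvar.Seesaw.Variety
import Groth.Agent.AbVarMul.Basic

/-!
# Classes on products which are trivial on slices
-/

universe u

open CategoryTheory MonoidalCategory CartesianMonoidalCategory MonObj GrpObj AlgebraicGeometry

namespace Groth.AbvarAmple

open Groth.Abvar Groth.Abvar.PicCalc

variable {k : Type u} [Field k]

theorem pt_injective [IsAlgClosed k] {X : Over (Spec (CommRingCat.of k))} [LocallyOfFiniteType X.hom] :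
    Function.Injective (pt (X := X)) := fun a b h => by
  ext1
  exact ext_of_apply_closedPoint_eq X.hom (Over.w a) (Over.w b) h

/-- A class which is trivial on all rational slices comes from the second factor. -/
theorem eq_opull_snd_of_slices [IsAlgClosed k] {X Y : Over (Spec (CommRingCat.of k))}
    [IsProper X.hom] [GeometricallyIntegral X.hom] [LocallyOfFiniteType Y.hom] [IsReduced Y.left]
    (x₀ : 𝟙_ (Over (Spec (CommRingCat.of k))) ⟶ X) (e : PicLoc.PicSet (X ⊗ Y).left)
    (h : ∀ s : 𝟙_ (Over (Spec (CommRingCat.of k))) ⟶ Y,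
      opull (lift (𝟙 X) (toUnit X ≫ s)) e = 1) :
    e = opull (snd X Y) (opull (lift (toUnit Y ≫ x₀) (𝟙 Y)) e) := by
  have : GeometricallyReduced Y.hom := geometricallyReduced_of_isAlgClosed Y
  rw [← div_eq_one]
  obtain ⟨L, hL, hLe⟩ := PicGrp.exists_eq_cls
    (e / opull (snd X Y) (opull (lift (toUnit Y ≫ x₀) (𝟙 Y)) e))
  rw [hLe, ← nonempty_iso_structure_iff]
  refine Seesaw.trivial_seesaw x₀ hL (fun y hy => ?_) ?_
  · obtain ⟨s, rfl⟩ := exists_rationalPoint Y hy
    refine Cube.fibTriv_of_slice s L ?_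
    rw [nonempty_iso_structure_iff (PicLoc.isInvertible_pullback _ hL), ← pull_cls _ hL]
    change opull _ (PicGrp.cls L hL) = 1
    rw [← hLe, map_div, h, ← opull_comp (B := X ⊗ Y) (lift (𝟙 X) (toUnit X ≫ s)) (snd X Y), lift_snd,
      opull_toUnit_comp, div_one]
  · rw [nonempty_iso_structure_iff (PicLoc.isInvertible_pullback _ hL), ← pull_cls _ hL]
    change opull _ (PicGrp.cls L hL) = 1
    rw [← hLe, map_div, ← opull_comp (B := X ⊗ Y) (lift (toUnit Y ≫ x₀) (𝟙 Y)) (snd X Y), lift_snd,
      opull_id, div_self']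

variable {A : Over (Spec (CommRingCat.of k))} [GrpObj A] [IsProper A.hom]
  [GeometricallyIntegral A.hom]

/-- If all translations by points of a reduced variety fix a class, then it is additive along the
variety. -/
theorem opull_mul_of_fixed [IsAlgClosed k] {Z : Over (Spec (CommRingCat.of k))}
    [LocallyOfFiniteType Z.hom] [IsReduced Z.left] (c : PicLoc.PicSet A.left) (j : Z ⟶ A)
    (hj : ∀ s : 𝟙_ (Over (Spec (CommRingCat.of k))) ⟶ Z,
      opull (𝟙 A * (toUnit A ≫ (s ≫ j))) c = c)
    {T : Over (Spec (CommRingCat.of k))} (f : T ⟶ A) (g : T ⟶ Z) :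
    opull (f * (g ≫ j)) c = opull f c * opull (g ≫ j) c := by
  have h := eq_opull_snd_of_slices η[A] (opull (fst A Z * (snd A Z ≫ j)) c / opull (fst A Z) c)
    fun s => by
      rw [map_div, ← opull_comp, ← opull_comp, MonObj.comp_mul, lift_fst, ← Category.assoc,
        lift_snd, opull_id, Category.assoc, hj, div_self']
  rw [map_div, ← opull_comp, ← opull_comp, MonObj.comp_mul, lift_fst, ← Category.assoc (lift _ _),
    lift_snd, Category.id_comp, ← Hom.one_def, opull_one,
    show (1 : Z ⟶ A) * j = j from _root_.one_mul _, div_one, div_eq_iff_eq_mul, ← opull_comp] at h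
  have := congrArg (opull (lift f g)) h
  rw [map_mul, ← opull_comp, ← opull_comp, ← opull_comp, MonObj.comp_mul, lift_fst,
    ← Category.assoc (lift f g), lift_snd] at this
  exact this.trans (mul_comm _ _)

end Groth.AbvarAmple
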