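import Groth.Agent.AbvarAmple.NondegAmple
import Groth.Agent.PicAux.EffCartierSection
import Groth.Agent.PicAux.EffCartierLine
import Groth.Agent.RefRank.CartierTwist

/-!
# Divisors with finite stabiliser are ample
-/

universe u

open CategoryTheory MonoidalCategory CartesianMonoidalCategory MonObj GrpObj AlgebraicGeometry
open TopologicalSpace

namespace Groth.AbvarAmple

open Groth.Abvar Groth.Abvar.PicCalc Groth.PropsBasic.Ample

variable {k : Type u} [Field k] [IsAlgClosed k]
variable {A : Over (Spec (CommRingCat.of k))} [GrpObj A] [IsProper A.hom]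
  [GeometricallyIntegral A.hom]

/-- If the translates of a subvariety are all trivial for the class of an effective divisor, the
differences of its points preserve every component of the divisor. -/
theorem image_component_subset {L : A.left.Modules} (hL : PicF.IsInvertible L) (s : Γ(L, ⊤))
    {D : Set A.left} (hD : IsClosed D) (hsD : ∀ x, x ∈ gloc s ↔ x ∉ D)
    {Z : Over (Spec (CommRingCat.of k))} [IsProper Z.hom] [IsIntegral Z.left] (j : Z ⟶ A)
    (hall : ∀ a : 𝟙_ (Over (Spec (CommRingCat.of k))) ⟶ A,
      opull (j ≫ (𝟙 A * (toUnit A ≫ a))) (cls hL) = 1)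
    {C : Set D} (hC : C ∈ irreducibleComponents D)
    (z z₀ : 𝟙_ (Over (Spec (CommRingCat.of k))) ⟶ Z) :
    (fun x => (𝟙 A * (toUnit A ≫ ((z ≫ j) * (z₀ ≫ j)⁻¹))).left.base x) '' (Subtype.val '' C) ⊆
      Subtype.val '' C := by
  have hcomm := GrpschAbsch.isCommMonObj_of_isProper A
  have : JacobsonSpace A.left := LocallyOfFiniteType.jacobsonSpace A.hom
  have : JacobsonSpace Z.left := LocallyOfFiniteType.jacobsonSpace Z.hom
  have : CompactSpace A.left := QuasiCompact.compactSpace_of_compactSpace A.hom
  have : IsLocallyNoetherian A.left := LocallyOfFiniteType.isLocallyNoetherian A.hom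
  have : IsNoetherian A.left := {}
  let t := fun a : 𝟙_ (Over (Spec (CommRingCat.of k))) ⟶ A => (𝟙 A * (toUnit A ≫ a) : A ⟶ A)
  let b := fun y : 𝟙_ (Over (Spec (CommRingCat.of k))) ⟶ Z => (y ≫ j) * (z₀ ≫ j)⁻¹
  let Φ := fun w : 𝟙_ (Over (Spec (CommRingCat.of k))) ⟶ A => j ≫ t ((z₀ ≫ j)⁻¹ * w)
  have hΦ : ∀ w y, (Φ w).left.base (pt y) = (t (b y)).left.base (pt w) := fun w y => by
    rw [← pt_comp, ← pt_translate]
    simp only [Φ, t, b]
    rw [← Category.assoc, comp_mul_const, toUnit_unique (toUnit _) (𝟙 _), Category.id_comp,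
      ← _root_.mul_assoc, _root_.mul_comm]
  have hclo : ∀ {V : Set A.left}, IsClosed V → V ⊆ closure (V ∩ closedPoints A.left) := fun hV => by
    rw [JacobsonSpace.closure_inter_closedPoints_eq_closure hV.isLocallyClosed]
    exact subset_closure
  -- the translations preserve `D`
  have hinv : ∀ y x, x ∈ D → (t (b y)).left.base x ∈ D := by
    intro y
    have hsub : D ∩ closedPoints A.left ⊆ (t (b y)).left.base ⁻¹' D := by
      rintro x ⟨hxD, hx⟩
      obtain ⟨w, rfl⟩ := exists_rationalPoint A hx
      show (t (b y)).left.base (pt w) ∈ D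
      rw [← hΦ w y]
      by_contra hne
      have hM := PicLoc.isInvertible_pullback (Φ w).left hL
      have htop := gloc_eq_top_of_trivial Z.hom hM
        (by rw [← pull_cls _ hL]; exact hall _)
        (PicAux.pullSec (Φ w).left L s) ⟨pt y, by
          rw [gloc_pullSec _ hL]
          exact (hsD _).2 hne⟩
      have h0 : pt z₀ ∈ gloc (PicAux.pullSec (Φ w).left L s) := htop.ge trivial
      rw [gloc_pullSec _ hL] at h0
      refine (hsD _).1 h0 ?_
      show (Φ w).left.base (pt z₀) ∈ D
      rw [hΦ w z₀]
      simp only [t, b, mul_inv_cancel, translate_one]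
      exact hxD
    exact fun x hx => (hD.preimage (t (b y)).left.continuous).closure_subset_iff.2 hsub (hclo hD hx)
  let G := fun E : Set D => ⋂ (w : 𝟙_ (Over (Spec (CommRingCat.of k))) ⟶ A)
    (_ : pt w ∈ Subtype.val '' C), (Φ w).left.base ⁻¹' (Subtype.val '' E)
  have hcl : ∀ E ∈ irreducibleComponents D, IsClosed (Subtype.val '' E : Set A.left) := fun E hE =>
    hD.isClosedEmbedding_subtypeVal.isClosedMap _ (isClosed_of_mem_irreducibleComponents E hE)
  have hGc : ∀ E ∈ irreducibleComponents D, IsClosed (G E) := fun E hE =>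
    isClosed_iInter fun w => isClosed_iInter fun _ => (hcl E hE).preimage (Φ w).left.continuous
  -- a closed point of `Z` moves `C` into some component
  have hcov : closedPoints Z.left ⊆ ⋃ E ∈ irreducibleComponents D, G E := by
    intro x hx
    obtain ⟨y, rfl⟩ := exists_rationalPoint Z hx
    let f : D → D := fun x => ⟨(t (b y)).left.base x.1, hinv y x.1 x.2⟩
    have hf : Continuous f :=
      ((t (b y)).left.continuous.comp continuous_subtype_val).subtype_mk _
    have hirr : IsIrreducible (f '' C) := IsIrreducible.image hC.1 f hf.continuousOn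
    obtain ⟨E, hE, hEsub⟩ := exists_mem_irreducibleComponents_subset_of_isIrreducible _ hirr
    refine Set.mem_iUnion₂.2 ⟨E, hE, Set.mem_iInter₂.2 fun w hw => ?_⟩
    obtain ⟨x, hxC, hxw⟩ := hw
    refine ⟨f x, hEsub ⟨x, hxC, rfl⟩, ?_⟩
    show (t (b y)).left.base x.1 = _
    rw [hxw]
    exact (hΦ w y).symm
  have hfin : (irreducibleComponents D).Finite := NoetherianSpace.finite_irreducibleComponents
  have hall' : ∀ x, x ∈ ⋃ E ∈ irreducibleComponents D, G E := fun x =>
    (hfin.isClosed_biUnion hGc).closure_subset_iff.2 hcov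
      (closure_closedPoints (X := Z.left) ▸ Set.mem_univ x)
  obtain ⟨E, hE, hηE⟩ := Set.mem_iUnion₂.1 (hall' (genericPoint Z.left))
  have hGE : ∀ x, x ∈ G E := fun x =>
    (genericPoint_specializes (α := Z.left) x).mem_closed (hGc E hE) hηE
  have hsubset : ∀ y, (t (b y)).left.base '' (Subtype.val '' C) ⊆ Subtype.val '' E := by
    intro y
    rw [Set.image_subset_iff]
    refine (hclo (hcl C hC)).trans (((hcl E hE).preimage (t (b y)).left.continuous).closure_subset_iff.2 ?_)
    rintro x ⟨hxC, hx⟩
    obtain ⟨w, rfl⟩ := exists_rationalPoint A hx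
    show (t (b y)).left.base (pt w) ∈ (Subtype.val '' E : Set A.left)
    rw [← hΦ w y]
    exact Set.mem_iInter₂.1 (hGE (pt y)) w hxC
  have hCE : C = E := by
    refine Set.Subset.antisymm ?_ (hC.2 hE.1 ?_) <;>
    · intro x hx
      have h := hsubset z₀ ⟨x.1, ⟨x, hx, rfl⟩, rfl⟩
      simp only [t, b, mul_inv_cancel, translate_one] at h
      obtain ⟨e, he, hex⟩ := h
      exact Subtype.ext (hex.trans rfl) ▸ he
  rw [← hCE] at hsubset
  exact hsubset z

/-- An effective Cartier divisor with finite stabiliser of its components is ample. -/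
theorem isAmple_of_finite_stabilizer {I : A.left.IdealSheafData} (hI : BlowUp.IsEffCartierIdeal I)
    {L : A.left.Modules} (hL : PicF.IsInvertible L) (hLI : ClSub.IsInverseOf L (ClSub.idealMod I))
    (hfin : Set.Finite {a : 𝟙_ (Over (Spec (CommRingCat.of k))) ⟶ A |
      ∀ Z ∈ irreducibleComponents ↥(I.support : Set ↥A.left),
        (fun x : ↥A.left => (𝟙 A * (toUnit A ≫ a)).left.base x) '' (Subtype.val '' Z) =
          Subtype.val '' Z}) : CohB1.IsAmple L := by
  have hcomm := GrpschAbsch.isCommMonObj_of_isProper A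
  have := Groth.Abvar.isIntegral_left A
  have : IsLocallyNoetherian A.left := LocallyOfFiniteType.isLocallyNoetherian A.hom
  obtain ⟨s', hs', -⟩ := PicAux.exists_section_zeroScheme_eq hI hLI
  let s := PicAux.gsec s'
  have hsD : ∀ x, x ∈ gloc s ↔ x ∉ (I.support : Set A.left) := fun x => by
    have h := PicAux.mem_genLocus_iff_not_mem_support (s := s') (x := x) hL
    rw [hs', genLocus_eq_gloc] at h
    exact h
  have hs : s ≠ 0 := by
    intro h0
    have hη := (hsD (genericPoint A.left)).2 (Groth.RefRank.CartierTwist.genericPoint_notMem_support hI)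
    obtain ⟨W, e, hxW, he⟩ := (PicAux.isInvertible_iff_exists_gen _).1 hL (genericPoint A.left)
    have h1 := (gloc_inf_eq_basicOpen (t := s) (c := 0) he
      (by rw [h0, PicAux.res_zero, zero_smul])).le ⟨hη, hxW⟩
    rw [Scheme.basicOpen_zero] at h1
    exact h1
  refine isAmple_of_slices hL s hs fun Z j hj hZ hP hall => ?_
  have : JacobsonSpace Z.left := LocallyOfFiniteType.jacobsonSpace Z.hom
  obtain ⟨z₀, -⟩ := exists_point_mem Z isOpen_univ Set.univ_nonempty
  have hK : ∀ z, ∀ C ∈ irreducibleComponents ↥(I.support : Set ↥A.left),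
      (fun x : ↥A.left => (𝟙 A * (toUnit A ≫ ((z ≫ j) * (z₀ ≫ j)⁻¹))).left.base x) ''
        (Subtype.val '' C) = Subtype.val '' C := by
    intro z C hC
    refine Set.Subset.antisymm (image_component_subset hL s I.support.isClosed hsD j hall hC z z₀) ?_
    intro x hx
    have h := image_component_subset hL s I.support.isClosed hsD j hall hC z₀ z ⟨x, hx, rfl⟩
    refine ⟨_, h, ?_⟩
    dsimp only
    rw [← Scheme.Hom.comp_apply, ← Over.comp_left, translate_comp]
    rw [show (z₀ ≫ j) * (z ≫ j)⁻¹ * ((z ≫ j) * (z₀ ≫ j)⁻¹) = 1 by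
      rw [_root_.mul_assoc, inv_mul_cancel_left, mul_inv_cancel], translate_one]
    rfl
  have hpts : (closedPoints Z.left).Finite := by
    refine (((hfin.image fun b => pt (b * (z₀ ≫ j))).preimage
      j.left.isClosedEmbedding.injective.injOn)).subset fun x hx => ?_
    obtain ⟨z, rfl⟩ := exists_rationalPoint Z hx
    refine ⟨_, hK z, ?_⟩
    dsimp only
    rw [_root_.mul_assoc, inv_mul_cancel, _root_.mul_one, pt_comp]
  have hclosed : IsClosed (closedPoints Z.left) := by
    have h := hpts.isClosed_biUnion (f := fun x => ({x} : Set Z.left)) fun x hx => hx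
    rwa [Set.biUnion_of_singleton] at h
  have hcp : ∀ x, x ∈ closedPoints Z.left := fun x => by
    rw [← hclosed.closure_eq, closure_closedPoints]
    trivial
  refine ⟨fun a b => ?_⟩
  have h1 := (genericPoint_specializes (α := Z.left) a).mem_closure
  have h2 := (genericPoint_specializes (α := Z.left) b).mem_closure
  rw [(hcp (genericPoint Z.left)).closure_eq] at h1 h2
  exact h1.trans h2.symm

end Groth.AbvarAmple
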